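import Groth.Agent.Deform.K679.HomSh
import Mathlib.Algebra.Homology.DerivedCategory.Ext.EnoughInjectives
import Mathlib.Algebra.Homology.DerivedCategory.Ext.ExactSequences

/-!
# Ext groups out of a finite locally free module and cohomology of the sheaf of local homomorphisms

`subsingleton_iff`: for `F` finite locally free and `n ≥ 1`, `Ext^n(F, G) = 0` iff
`H^n(X, sh F G) = 0`.
-/

set_option autoImplicit false
universe w v u

open CategoryTheory CategoryTheory.Limits AlgebraicGeometry Opposite TopologicalSpace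
open Groth.Agent.Sga67.Sec
open K696.LHom K696.Cut

namespace K679.ExtSh

section generic

open Abelian

variable {C : Type u} [Category.{v} C] [Abelian C] [HasExt.{w} C]

theorem subsingleton_ext_succ_iff (P : C) {S : ShortComplex C} (hS : S.ShortExact) (n : ℕ)
    (h1 : Subsingleton (Ext.{w} P S.X₂ (n + 1))) (h2 : Subsingleton (Ext.{w} P S.X₂ (n + 2))) :
    Subsingleton (Ext.{w} P S.X₁ (n + 2)) ↔ Subsingleton (Ext.{w} P S.X₃ (n + 1)) := by
  constructor
  · intro h
    refine subsingleton_of_forall_eq 0 fun y => ?_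
    obtain ⟨z, hz⟩ := Ext.covariant_sequence_exact₃ P hS y (n₁ := n + 2) rfl (h.elim _ _)
    rw [← hz, h1.elim z 0, Ext.zero_comp]
  · intro h
    refine subsingleton_of_forall_eq 0 fun x => ?_
    obtain ⟨y, hy⟩ := Ext.covariant_sequence_exact₁ P hS x (h2.elim _ _) (n₀ := n + 1) rfl
    rw [← hy, h.elim y 0, Ext.zero_comp]

theorem subsingleton_ext_one_iff (P : C) {S : ShortComplex C} (hS : S.ShortExact)
    (h1 : Subsingleton (Ext.{w} P S.X₂ 1)) :
    Subsingleton (Ext.{w} P S.X₁ 1) ↔ ∀ q : P ⟶ S.X₃, ∃ i : P ⟶ S.X₂, i ≫ S.g = q := by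
  constructor
  · intro h q
    obtain ⟨z, hz⟩ := Ext.covariant_sequence_exact₃ P hS (Ext.mk₀ q) (n₁ := 1) rfl (h.elim _ _)
    obtain ⟨i, rfl⟩ := Ext.addEquiv₀.symm.surjective z
    refine ⟨i, ?_⟩
    rw [Ext.addEquiv₀_symm_apply, Ext.mk₀_comp_mk₀] at hz
    exact Ext.addEquiv₀.symm.injective hz
  · intro h
    refine subsingleton_of_forall_eq 0 fun x => ?_
    obtain ⟨y, hy⟩ := Ext.covariant_sequence_exact₁ P hS x (h1.elim _ _) (n₀ := 0) rfl
    obtain ⟨q, rfl⟩ := Ext.addEquiv₀.symm.surjective y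
    obtain ⟨i, rfl⟩ := h q
    rw [← hy, Ext.addEquiv₀_symm_apply, ← Ext.mk₀_comp_mk₀, Ext.comp_assoc_of_second_deg_zero,
      ShortComplex.ShortExact.comp_extClass, Ext.comp_zero]

end generic

open K679.HomSh

variable {X : Scheme.{u}}

theorem subsingleton_H_one_iff {F : X.Modules} (hF : FlatMod.IsFinLocFree F)
    {S : ShortComplex X.Modules} (hS : S.ShortExact) (hI : Injective S.X₂) :
    Subsingleton (CohTop.H (sh F S.X₁) 1) ↔ ∀ q : F ⟶ S.X₃, ∃ i : F ⟶ S.X₂, i ≫ S.g = q := by
  have hfl : TopCat.Sheaf.IsFlasque (shSeq F S).X₂ := isFlasque_sh F S.X₂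
  have e := Groth.Agent.MiscA.CurveH1A.h1Equiv (shortExact_shSeq hF hS)
  constructor
  · intro h q
    have h0 : Subsingleton (CohTop.H (shSeq F S).X₁ 1) := h
    have h' : Subsingleton ((shSeq F S).X₃.obj.obj (op ⊤) ⧸ ((shSeq F S).g.hom.app (op ⊤)).hom.range) :=
      e.symm.toEquiv.subsingleton
    have h1 : (QuotientAddGroup.mk (show (shSeq F S).X₃.obj.obj (op ⊤) from LocHom.ofHom ⊤ q) :
      (shSeq F S).X₃.obj.obj (op ⊤) ⧸ ((shSeq F S).g.hom.app (op ⊤)).hom.range) = 0 := h'.elim _ _
    rw [QuotientAddGroup.eq_zero_iff] at h1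
    obtain ⟨φ, hφ⟩ := h1
    have h2 : LocHom.post S.g (show LocHom F S.X₂ ⊤ from φ) = LocHom.ofHom ⊤ q := hφ
    refine ⟨(show LocHom F S.X₂ ⊤ from φ).toHom, hom_ext fun W s => ?_⟩
    rw [appS_comp, LocHom.toHom_app]
    exact congrArg (fun z => LocHom.app z le_top s) h2
  · intro h
    have h' : Subsingleton ((shSeq F S).X₃.obj.obj (op ⊤) ⧸ ((shSeq F S).g.hom.app (op ⊤)).hom.range) := by
      refine subsingleton_of_forall_eq 0 fun x => ?_
      obtain ⟨q, rfl⟩ := QuotientAddGroup.mk_surjective x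
      rw [QuotientAddGroup.eq_zero_iff]
      obtain ⟨i, hi⟩ := h (show LocHom F S.X₃ ⊤ from q).toHom
      refine ⟨LocHom.ofHom ⊤ i, ?_⟩
      refine LocHom.ext' fun W hW s => ?_
      change appS S.g W (appS i W s) = _
      rw [← appS_comp, hi, LocHom.toHom_app]
    exact e.toEquiv.subsingleton

/-- `Ext^n(F, G) = 0` iff `H^n(X, sh F G) = 0`, `n ≥ 1`, `F` finite locally free. -/
theorem subsingleton_iff [HasExt.{u} X.Modules] {F : X.Modules} (hF : FlatMod.IsFinLocFree F) (n : ℕ)
    (G : X.Modules) :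
    Subsingleton (Abelian.Ext.{u} F G (n + 1)) ↔ Subsingleton (CohTop.H (sh F G) (n + 1)) := by
  have hen : EnoughInjectives X.Modules := Groth.Agent.S0485.result _ _
  induction n generalizing G with
  | zero =>
    have hS : (ShortComplex.mk (Injective.ι G) (cokernel.π (Injective.ι G))
      (cokernel.condition _)).ShortExact :=
      { exact := ShortComplex.exact_cokernel _
        mono_f := inferInstance
        epi_g := inferInstance }
    exact (subsingleton_ext_one_iff F hS (Abelian.Ext.subsingleton_of_injective _ _ 0)).trans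
      (subsingleton_H_one_iff hF hS inferInstance).symm
  | succ n ih =>
    have hS : (ShortComplex.mk (Injective.ι G) (cokernel.π (Injective.ι G))
      (cokernel.condition _)).ShortExact :=
      { exact := ShortComplex.exact_cokernel _
        mono_f := inferInstance
        epi_g := inferInstance }
    have hfl : TopCat.Sheaf.IsFlasque (shSeq F (ShortComplex.mk (Injective.ι G)
      (cokernel.π (Injective.ι G)) (cokernel.condition _))).X₂ := isFlasque_sh F _
    refine (subsingleton_ext_succ_iff F hS n (Abelian.Ext.subsingleton_of_injective _ _ n)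
      (Abelian.Ext.subsingleton_of_injective _ _ (n + 1))).trans ((ih _).trans ?_)
    exact (subsingleton_ext_succ_iff _ (shortExact_shSeq hF hS) n
      (Groth.Agent.CohtopA.Flasque.subsingleton_H_succ _ n)
      (Groth.Agent.CohtopA.Flasque.subsingleton_H_succ _ (n + 1))).symm

end K679.ExtSh
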