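import Groth.Agent.Ega41.FlatNilp
import Mathlib.RingTheory.TensorProduct.Quotient
import Mathlib.RingTheory.LocalRing.MaximalIdeal.Basic
import Mathlib.RingTheory.Unramified.Basic
import Mathlib.RingTheory.Smooth.Basic
import Mathlib.RingTheory.Artinian.Ring

/-!
Formal smoothness of flat deformations over a local Artinian ring, and lifting of maps.
-/

set_option autoImplicit false

open TensorProduct

namespace K679.FSLift

variable {k A B : Type*} [Field k] [CommRing A] [Algebra k A] [IsLocalRing A]
  [CommRing B] [Algebra A B] [Algebra k B] [IsScalarTower k A B]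

/-- If `A` has residue field `k` and `B/mB` is formally smooth over `k`, then it is formally smooth over `A/m`. -/
theorem formallySmooth_residue
    (hres : ∀ a : A, ∃ c : k, a - algebraMap k A c ∈ IsLocalRing.maximalIdeal A)
    (hsm : Algebra.FormallySmooth k (B ⧸ (IsLocalRing.maximalIdeal A).map (algebraMap A B))) :
    Algebra.FormallySmooth (A ⧸ IsLocalRing.maximalIdeal A) ((A ⧸ IsLocalRing.maximalIdeal A) ⊗[A] B) := by
  have hsurj : Function.Surjective (algebraMap k (A ⧸ IsLocalRing.maximalIdeal A)) := by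
    intro x
    obtain ⟨a, rfl⟩ := Ideal.Quotient.mk_surjective x
    obtain ⟨c, hc⟩ := hres a
    refine ⟨c, ?_⟩
    rw [IsScalarTower.algebraMap_apply k A (A ⧸ IsLocalRing.maximalIdeal A), Ideal.Quotient.algebraMap_eq]
    symm
    rw [Ideal.Quotient.mk_eq_mk_iff_sub_mem]
    exact hc
  have hun : Algebra.FormallyUnramified k (A ⧸ IsLocalRing.maximalIdeal A) :=
    Algebra.FormallyUnramified.of_surjective (Algebra.ofId k (A ⧸ IsLocalRing.maximalIdeal A)) hsurj
  have hst : IsScalarTower k (A ⧸ IsLocalRing.maximalIdeal A)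
      (B ⧸ (IsLocalRing.maximalIdeal A).map (algebraMap A B)) := by
    refine IsScalarTower.of_algebraMap_eq (fun c => ?_)
    rw [IsScalarTower.algebraMap_apply k A (A ⧸ IsLocalRing.maximalIdeal A), Ideal.Quotient.algebraMap_eq,
      Ideal.Quotient.algebraMap_quotient_map_quotient,
      IsScalarTower.algebraMap_apply k B (B ⧸ (IsLocalRing.maximalIdeal A).map (algebraMap A B)),
      IsScalarTower.algebraMap_apply k A B, Ideal.Quotient.algebraMap_eq]
  have h1 : Algebra.FormallySmooth (A ⧸ IsLocalRing.maximalIdeal A)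
      (B ⧸ (IsLocalRing.maximalIdeal A).map (algebraMap A B)) :=
    Algebra.FormallySmooth.of_restrictScalars k _ _
  exact Algebra.FormallySmooth.of_equiv (Algebra.TensorProduct.quotIdealMapEquivQuotTensor B
    (IsLocalRing.maximalIdeal A))

/-- Lifting of maps out of a flat deformation over a local Artinian ring. -/
theorem exists_lift [IsArtinianRing A] [Module.Flat A B]
    (hres : ∀ a : A, ∃ c : k, a - algebraMap k A c ∈ IsLocalRing.maximalIdeal A)
    (hsm : Algebra.FormallySmooth k (B ⧸ (IsLocalRing.maximalIdeal A).map (algebraMap A B)))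
    {C : Type*} [CommRing C] [Algebra A C] (J : Ideal C) (hJ : IsNilpotent J) (u : B →ₐ[A] C ⧸ J) :
    ∃ v : B →ₐ[A] C, (Ideal.Quotient.mkₐ A J).comp v = u := by
  obtain ⟨n, hn⟩ := IsArtinianRing.isNilpotent_jacobson_bot (R := A)
  rw [IsLocalRing.jacobson_eq_maximalIdeal ⊥ bot_ne_top] at hn
  refine Groth.Agent.Ega41.FlatNilp.exists_lift_of_pow (IsLocalRing.maximalIdeal A)
    (formallySmooth_residue hres hsm) J hJ n ?_ u
  rw [hn]; simp

end K679.FSLift
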