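import Groth.Agent.Lift.K696.Cut
import Groth.Agent.LoccohB.FinLocFreeFrame
import Groth.Agent.PerfC.ExtZero2
import Groth.Agent.MiscA.CurveH1A
import Groth.Agent.S0485
import Groth.Agent.Fga.Units

/-!
# The abelian sheaf of local homomorphisms and Ext groups

`sh F G : CohTop.Ab X` has sections `LocHom F G U`.  For `F` finite locally free and `n ≥ 1`,
`Ext^n(F, G) = 0` iff `H^n(X, sh F G) = 0` (`subsingleton_H_iff`).
-/

set_option autoImplicit false
universe u

open CategoryTheory CategoryTheory.Limits AlgebraicGeometry Opposite TopologicalSpace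
open Groth.Agent.Sga67.Sec
open K696.LHom K696.Cut

namespace K679.HomSh

variable {X : Scheme.{u}}

/-- The presheaf of local homomorphisms. -/
noncomputable def pre (F G : X.Modules) : (X.Opens)ᵒᵖ ⥤ AddCommGrpCat.{u} where
  obj U := AddCommGrpCat.of (LocHom F G U.unop)
  map i := AddCommGrpCat.ofHom (LocHom.rs i.unop.le)
  map_id _ := rfl
  map_comp _ _ := rfl

theorem isSheaf_pre (F G : X.Modules) :
    TopCat.Presheaf.IsSheaf (C := AddCommGrpCat.{u}) (X := X.toTopCat) (pre F G) := by
  rw [TopCat.Presheaf.isSheaf_iff_isSheafUniqueGluing]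
  intro ι U sf hsf
  obtain ⟨ψ, hψ⟩ := LocHom.exists_glue (F := F) (G := G) (U := iSup U) U (fun i => le_iSup U i)
    (fun x hx => Opens.mem_iSup.1 hx) (fun i => sf i) (fun i j => hsf i j)
  refine ⟨ψ, fun i => hψ i, fun t ht => ?_⟩
  exact LocHom.ext_of_cover (F := F) (G := G) (U := iSup U) U (fun i => le_iSup U i)
    (fun x hx => Opens.mem_iSup.1 hx) fun i => (ht i).trans (hψ i).symm

/-- The sheaf of local homomorphisms. -/
noncomputable def sh (F G : X.Modules) : CohTop.Ab X.toTopCat := ⟨pre F G, isSheaf_pre F G⟩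

/-- Functoriality in the second variable. -/
noncomputable def shMap (F : X.Modules) {G H : X.Modules} (f : G ⟶ H) : sh F G ⟶ sh F H where
  hom := { app := fun U => AddCommGrpCat.ofHom (LocHom.post f)
           naturality := fun U V i => rfl }

theorem shMap_app (F : X.Modules) {G H : X.Modules} (f : G ⟶ H) (U : X.Opens) (φ : LocHom F G U) :
    (shMap F f).hom.app (op U) φ = LocHom.post f φ := rfl

section flasque

open Groth.Agent.PerfC.ExtZero

theorem cutSec_etaR (U : X.Opens) (G : X.Modules) (W : X.Opens) (s : Sec G W) :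
    cutSec U G W (appS (etaR U.ι G) W s) = res G (K696.Base.image_preimage_le U W) s := rfl

variable {F I : X.Modules} [Injective I]

/-- Local homomorphisms into an injective module extend. -/
theorem exists_extend {U : X.Opens} (φ : LocHom F I U) : ∃ ψ : F ⟶ I, LocHom.ofHom U ψ = φ := by
  let t : F ⟶ (Scheme.Modules.pushforward U.ι).obj (I.restrict U.ι) := cutEquiv.symm φ
  let θ : (TF U.ι.opensRange).obj F ⟶ I :=
    (TF U.ι.opensRange).map t ≫ inv ((TF U.ι.opensRange).map (etaR U.ι I)) ≫ inclT U.ι I
  have hθ : θ ≫ etaR U.ι I = inclT U.ι F ≫ t := by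
    have h1 : (TF U.ι.opensRange).map (etaR U.ι I) ≫ inclT U.ι _ = inclT U.ι I ≫ etaR U.ι I :=
      inclT_naturality U.ι (etaR U.ι I)
    have h2 : (TF U.ι.opensRange).map t ≫ inclT U.ι _ = inclT U.ι F ≫ t :=
      inclT_naturality U.ι t
    change ((TF U.ι.opensRange).map t ≫ inv ((TF U.ι.opensRange).map (etaR U.ι I)) ≫
      inclT U.ι I) ≫ etaR U.ι I = _
    rw [Category.assoc, Category.assoc, ← h1, IsIso.inv_hom_id_assoc, h2]
  let ψ : F ⟶ I := Injective.factorThru θ (inclT U.ι F)
  have hψ : inclT U.ι F ≫ ψ = θ := Injective.comp_factorThru _ _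
  refine ⟨ψ, ?_⟩
  have hU : U.ι.opensRange = U := U.opensRange_ι
  refine LocHom.ext' fun W hW s => ?_
  obtain ⟨s', hs'⟩ := (incl_app_bijective_of_le U.ι.opensRange F (V := W) (by rw [hU]; exact hW)).2 s
  have h1 : appS (etaR U.ι I) W (appS ψ W s) = appS t W s := by
    rw [← hs']
    have h2 := congrArg (fun z : (TF U.ι.opensRange).obj F ⟶ _ => appS z W s')
      ((congrArg (fun z => z ≫ etaR U.ι I) hψ).trans hθ)
    exact h2
  have h3 : φ = cutEquiv t := (cutEquiv.apply_symm_apply φ).symm
  have h4 : (cutEquiv t).app hW s = res I (K696.Base.le_image_preimage U hW)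
    (cutSec U I W (appS t W s)) := cutEquiv_app t hW s
  have h5 : cutSec U I W (appS t W s) = res I (K696.Base.image_preimage_le U W) (appS ψ W s) :=
    (congrArg (cutSec U I W) h1.symm).trans (cutSec_etaR U I W _)
  rw [LocHom.ofHom_app, h3]
  exact ((h4.trans (congrArg (res I _) h5)).trans ((res_res _ _ _ _).trans (res_self _ _ _))).symm

/-- The sheaf of local homomorphisms into an injective module is flasque. -/
theorem isFlasque_sh (F I : X.Modules) [Injective I] : TopCat.Sheaf.IsFlasque (sh F I) where
  epi {U V} i := by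
    rw [AddCommGrpCat.epi_iff_surjective]
    intro φ
    obtain ⟨ψ, hψ⟩ := exists_extend (F := F) (I := I) (U := V.unop) φ
    exact ⟨LocHom.ofHom U.unop ψ, hψ⟩

end flasque

section frame

open Groth.Agent.LoccohB.FrameExt

variable {F G H : X.Modules} {W : X.Opens} {n : ℕ}

/-- The local homomorphism with prescribed values on a frame. -/
theorem exists_of_frame (fr : Frame F W n) (t : Fin n → Sec G W) :
    ∃ ψ : LocHom F G W, ∀ k, ψ.app le_rfl (fr.e k : Sec F W) = t k := by
  refine ⟨{ app := fun {V} h => ((fr.hom G t).app V h).toAddMonoidHom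
            app_smul := fun {V} h a s => ((fr.hom G t).app V h).map_smul a s
            app_res := fun {V V'} h h' s => (fr.hom G t).nat V V' h' h s }, fun k => ?_⟩
  have h1 := fr.hom_app_e G t le_rfl k
  rw [Groth.Agent.LoccohB.GlueHom.res_self, Groth.Agent.LoccohB.GlueHom.res_self] at h1
  exact h1

/-- Local homomorphisms agreeing on a frame are equal. -/
theorem ext_of_frame (fr : Frame F W n) {φ ψ : LocHom F G W}
    (h : ∀ k, φ.app le_rfl (fr.e k : Sec F W) = ψ.app le_rfl (fr.e k : Sec F W)) : φ = ψ := by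
  refine LocHom.ext' fun V hV s => ?_
  refine fr.linearMap_ext G hV (φ.appL hV) (ψ.appL hV) (fun k => ?_) s
  have h1 := congrArg (res G hV) (h k)
  rw [← φ.app_res le_rfl hV, ← ψ.app_res le_rfl hV] at h1
  exact h1

/-- Local homomorphisms out of a free module lift locally along epimorphisms. -/
theorem exists_lift_frame (p : G ⟶ H) [Epi p] (fr : Frame F W n) (φ : LocHom F H W) (x : X)
    (hx : x ∈ W) : ∃ (V : X.Opens) (hV : V ≤ W) (ψ : LocHom F G V), x ∈ V ∧
      LocHom.post p ψ = LocHom.rs hV φ := by
  have key : ∀ A : Finset (Fin n), ∃ (V : X.Opens) (hV : V ≤ W), x ∈ V ∧ ∀ k ∈ A,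
      ∃ t : Sec G V, appS p V t = res H hV (φ.app le_rfl (fr.e k : Sec F W)) := by
    classical
    intro A
    induction A using Finset.induction_on with
    | empty => exact ⟨W, le_rfl, hx, fun k hk => absurd hk (Finset.notMem_empty k)⟩
    | insert a A ha ih =>
      obtain ⟨V, hV, hxV, hA⟩ := ih
      obtain ⟨V', hV', hxV', t, ht⟩ := locally_surjective_of_epi p
        (φ.app le_rfl (fr.e a : Sec F W)) x hx
      refine ⟨V ⊓ V', inf_le_left.trans hV, ⟨hxV, hxV'⟩, fun k hk => ?_⟩
      rcases Finset.mem_insert.1 hk with rfl | hk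
      · refine ⟨res G inf_le_right t, ?_⟩
        rw [appS_res, ht, res_res]
      · obtain ⟨t', ht'⟩ := hA k hk
        refine ⟨res G inf_le_left t', ?_⟩
        rw [appS_res, ht', res_res]
  obtain ⟨V, hV, hxV, h⟩ := key Finset.univ
  choose t ht using fun k => h k (Finset.mem_univ k)
  obtain ⟨ψ, hψ⟩ := exists_of_frame (fr.restrict hV) t
  refine ⟨V, hV, ψ, hxV, ext_of_frame (fr.restrict hV) fun k => ?_⟩
  rw [LocHom.post_app, hψ, ht, LocHom.rs_app]
  exact (φ.app_res le_rfl hV _).symm

open Groth.Agent.CohtopA.Sec in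
/-- The sheaves of local homomorphisms out of a finite locally free module. -/
noncomputable def shSeq (F : X.Modules) (S : ShortComplex X.Modules) :
    ShortComplex (CohTop.Ab X.toTopCat) :=
  ShortComplex.mk (shMap F S.f) (shMap F S.g) (by
    ext U φ
    refine LocHom.ext' fun W hW s => ?_
    change appS S.g W (appS S.f W ((show LocHom F S.X₁ U.unop from φ).app hW s)) = 0
    rw [← appS_comp, S.zero]
    rfl)

open Groth.Agent.CohtopA.Sec in
/-- Exactness of the sheaf of local homomorphisms out of a finite locally free module. -/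
theorem shortExact_shSeq (hF : FlatMod.IsFinLocFree F) {S : ShortComplex X.Modules}
    (hS : S.ShortExact) : (shSeq F S).ShortExact := by
  have hm := hS.mono_f
  have he := hS.epi_g
  apply Groth.Agent.Fga.Units.shortExact_of_sections
  · intro U φ ψ h
    refine LocHom.ext' fun W hW s => ?_
    have h1 : LocHom.post S.f (show LocHom F S.X₁ U from φ) =
      LocHom.post S.f (show LocHom F S.X₁ U from ψ) := h
    exact injective_of_mono S.f W (congrArg (fun z => LocHom.app z hW s) h1)
  · intro U φ h
    have h1 : LocHom.post S.g (show LocHom F S.X₂ U from φ) = 0 := h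
    have key : ∀ (W : X.Opens) (hW : W ≤ U) (s : Sec F W), ∃ t : Sec S.X₁ W,
        appS S.f W t = (show LocHom F S.X₂ U from φ).app hW s := fun W hW s =>
      exists_of_appS_eq_zero hS.exact _ (congrArg (fun z => LocHom.app z hW s) h1)
    choose t ht using key
    refine ⟨show LocHom F S.X₁ U from
      { app := fun {W} hW => AddMonoidHom.mk' (t W hW) fun a b => by
          apply injective_of_mono S.f W
          rw [map_add, ht, ht, ht, map_add]
        app_smul := fun {W} hW a s => by
          apply injective_of_mono S.f W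
          change appS S.f W (t W hW (a • s)) = appS S.f W (a • t W hW s)
          rw [map_smul, ht, ht, LocHom.app_smul]
        app_res := fun {W W'} hW hW' s => by
          apply injective_of_mono S.f W'
          change appS S.f W' (t W' _ (res F hW' s)) = appS S.f W' (res _ hW' (t W hW s))
          rw [ht, appS_res, ht, LocHom.app_res] }, ?_⟩
    exact LocHom.ext' fun W hW s => ht W hW s
  · intro U φ x hx
    obtain ⟨W, n, hxW, ⟨fr⟩⟩ := Groth.Agent.LoccohB.FinLocFreeFrame.exists_frame hF x
    obtain ⟨V, hV, ψ, hxV, h⟩ := exists_lift_frame S.g (fr.restrict (inf_le_right : U ⊓ W ≤ W))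
      (LocHom.rs (inf_le_left : U ⊓ W ≤ U) (show LocHom F S.X₃ U from φ)) x ⟨hx, hxW⟩
    exact ⟨V, hV.trans inf_le_left, ψ, hxV, h⟩

end frame

end K679.HomSh
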