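import Groth.Agent.Deform.K679.SmallIso
import Groth.Agent.Deform.K679.ArtSmall

/-!
# Infinitesimal deformations of smooth schemes with `Ext¹(Ω, O) = 0` are isomorphic
-/

set_option autoImplicit false
universe u

open CategoryTheory CategoryTheory.Limits AlgebraicGeometry Opposite TopologicalSpace

namespace K679.ArtIso

open K679.ArtSmall

/-- A nonzero element of the maximal ideal killed by the maximal ideal. -/
theorem exists_socle (A : Type u) [CommRing A] [IsLocalRing A] [IsArtinianRing A]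
    (h : IsLocalRing.maximalIdeal A ≠ ⊥) :
    ∃ t ∈ IsLocalRing.maximalIdeal A, t ≠ 0 ∧ ∀ a ∈ IsLocalRing.maximalIdeal A, a * t = 0 := by
  classical
  have hn : IsNilpotent (IsLocalRing.maximalIdeal A) := by
    rw [← IsLocalRing.jacobson_eq_maximalIdeal (⊥ : Ideal A) bot_ne_top]
    exact IsArtinianRing.isNilpotent_jacobson_bot
  let n := Nat.find hn
  have hn0 : IsLocalRing.maximalIdeal A ^ n = 0 := Nat.find_spec hn
  have h0 : n ≠ 0 := by
    intro h0
    rw [h0, pow_zero] at hn0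
    exact one_ne_zero (α := A) ((Ideal.ext_iff.1 hn0 1).1 (by rw [Ideal.one_eq_top]; trivial))
  have h1 : n ≠ 1 := by
    intro h1
    rw [h1, pow_one] at hn0
    exact h hn0
  obtain ⟨m, hm⟩ : ∃ m, n = m + 2 := ⟨n - 2, by omega⟩
  have h2 : IsLocalRing.maximalIdeal A ^ (m + 1) ≠ ⊥ := fun h' =>
    Nat.find_min hn (m := m + 1) (by change m + 1 < n; omega) h'
  obtain ⟨t, ht, ht0⟩ := Submodule.exists_mem_ne_zero_of_ne_bot h2
  refine ⟨t, Ideal.pow_le_self (by omega) ht, ht0, fun a ha => ?_⟩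
  have h3 : a * t ∈ IsLocalRing.maximalIdeal A ^ n := by
    rw [hm, pow_succ']
    exact Ideal.mul_mem_mul ha ht
  rw [hn0] at h3
  exact h3

theorem length_quotient_lt' (A : Type u) [CommRing A] [IsArtinianRing A] (t : A) (ht : t ≠ 0) :
    Module.length (A ⧸ Ideal.span {t}) (A ⧸ Ideal.span {t}) < Module.length A A := by
  rw [← Module.length_eq_of_surjective (S := A) (R := A ⧸ Ideal.span {t})
    (M := A ⧸ Ideal.span {t}) Ideal.Quotient.mk_surjective]
  have h : Ideal.span {t} ≠ ⊥ := fun h => ht (Ideal.span_singleton_eq_bot.1 h)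
  exact Submodule.length_quotient_lt _ h

/-- Infinitesimal deformations of a smooth scheme are isomorphic if `Ext¹(Ω, O) = 0`. -/
theorem exists_iso_aux {k : Type u} [Field k] {X : Scheme.{u}} (q : X ⟶ Spec (CommRingCat.of k))
    [Smooth q] [IsSeparated q] [HasExt.{u} X.Modules]
    (h1 : Subsingleton (Abelian.Ext.{u} (Omega.sheaf q) (Coh.structureModule X) 1)) (n : ℕ) :
    ∀ (A : Type u) [CommRing A] [IsLocalRing A] [IsArtinianRing A] (e : A →+* k)
      (_ : Function.Surjective e) (_ : Module.length A A ≤ n)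
      (Y₁ Y₂ : Scheme.{u}) (f₁ : Y₁ ⟶ Spec (CommRingCat.of A)) (f₂ : Y₂ ⟶ Spec (CommRingCat.of A))
      (i₁ : X ⟶ Y₁) (i₂ : X ⟶ Y₂) (_ : Flat f₁) (_ : Flat f₂)
      (_ : IsPullback i₁ q f₁ (Spec.map (CommRingCat.ofHom e)))
      (_ : IsPullback i₂ q f₂ (Spec.map (CommRingCat.ofHom e))),
      ∃ Φ : Y₁ ≅ Y₂, i₁ ≫ Φ.hom = i₂ ∧ Φ.hom ≫ f₂ = f₁ := by
  induction n with
  | zero =>
    intro A _ _ _ e he hl
    have : Module.length A A = 0 := by simpa using hl
    rw [Module.length_eq_zero_iff] at this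
    exact absurd this (not_subsingleton A)
  | succ n ih =>
    intro A _ _ _ e he hl Y₁ Y₂ f₁ f₂ i₁ i₂ hf₁ hf₂ hY₁ hY₂
    by_cases hm : IsLocalRing.maximalIdeal A = ⊥
    · have hb : Function.Bijective e := by
        refine ⟨?_, he⟩
        rw [RingHom.injective_iff_ker_eq_bot, ker_eq e he, hm]
      have h2 : IsIso (CommRingCat.ofHom e) := (ConcreteCategory.isIso_iff_bijective _).2 hb
      have h3 : IsIso (Spec.map (CommRingCat.ofHom e)) := inferInstance
      have h4 : IsIso i₁ := hY₁.isIso_fst_of_isIso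
      have h5 : IsIso i₂ := hY₂.isIso_fst_of_isIso
      refine ⟨(asIso i₁).symm ≪≫ asIso i₂, by simp, ?_⟩
      rw [Iso.trans_hom, Iso.symm_hom, asIso_inv, asIso_hom, Category.assoc, IsIso.inv_comp_eq,
        hY₂.w, hY₁.w]
    obtain ⟨t, ht, ht0, htm⟩ := exists_socle A hm
    let φ : A →+* A ⧸ Ideal.span {t} := Ideal.Quotient.mk (Ideal.span {t})
    have hφ : Function.Surjective φ := Ideal.Quotient.mk_surjective
    have hst : Ideal.span {t} ≠ ⊤ := fun h => by
      have h6 : Ideal.span {t} ≤ IsLocalRing.maximalIdeal A := by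
        rw [Ideal.span_le, Set.singleton_subset_iff]
        exact ht
      rw [h, top_le_iff] at h6
      exact (IsLocalRing.maximalIdeal.isMaximal A).ne_top h6
    have : Nontrivial (A ⧸ Ideal.span {t}) := Ideal.Quotient.nontrivial_iff.2 hst
    have : IsLocalRing (A ⧸ Ideal.span {t}) := IsLocalRing.of_surjective' φ hφ
    have : IsArtinianRing (A ⧸ Ideal.span {t}) := hφ.isArtinianRing
    let e₁ : A ⧸ Ideal.span {t} →+* k := Ideal.Quotient.lift _ e fun a ha => by
      have h6 : Ideal.span {t} ≤ RingHom.ker e := by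
        rw [Ideal.span_le, Set.singleton_subset_iff, ker_eq e he]
        exact ht
      exact h6 ha
    have he₁ : e₁.comp φ = e := Ideal.Quotient.lift_comp_mk _ _ _
    have hse₁ : Function.Surjective e₁ := fun c => by
      obtain ⟨a, rfl⟩ := he c
      exact ⟨φ a, congr($he₁ a)⟩
    have hs₀ : Spec.map (CommRingCat.ofHom e₁) ≫ Spec.map (CommRingCat.ofHom φ) =
        Spec.map (CommRingCat.ofHom e) := by
      rw [← Spec.map_comp, ← he₁]
      rfl
    rw [← hs₀] at hY₁ hY₂
    -- the restrictions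
    have hr : ∀ {Y : Scheme.{u}} {f : Y ⟶ Spec (CommRingCat.of A)} {i : X ⟶ Y}
        (hY : IsPullback i q f (Spec.map (CommRingCat.ofHom e₁) ≫ Spec.map (CommRingCat.ofHom φ))),
        IsPullback (pullback.lift i (q ≫ Spec.map (CommRingCat.ofHom e₁))
          (by rw [hY.w, Category.assoc]) : X ⟶ pullback f (Spec.map (CommRingCat.ofHom φ))) q
          (pullback.snd f (Spec.map (CommRingCat.ofHom φ))) (Spec.map (CommRingCat.ofHom e₁)) := by
      intro Y f i hY
      refine IsPullback.of_right (h₁₂ := pullback.fst f (Spec.map (CommRingCat.ofHom φ)))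
        (v₁₃ := f) (h₂₂ := Spec.map (CommRingCat.ofHom φ)) ?_ ?_ (IsPullback.of_hasPullback _ _)
      · rw [pullback.lift_fst]
        exact hY
      · rw [pullback.lift_snd]
    have hlen : Module.length (A ⧸ Ideal.span {t}) (A ⧸ Ideal.span {t}) ≤ n := by
      have h7 := (length_quotient_lt' A t ht0).trans_le hl
      exact Order.le_of_lt_succ (by simpa using h7)
    obtain ⟨Ψ, hΨ1, hΨ2⟩ := ih (A ⧸ Ideal.span {t}) e₁ hse₁ hlen
      (pullback f₁ (Spec.map (CommRingCat.ofHom φ))) (pullback f₂ (Spec.map (CommRingCat.ofHom φ)))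
      (pullback.snd _ _) (pullback.snd _ _) _ _ inferInstance inferInstance (hr hY₁) (hr hY₂)
    have hn := isNilpotent_ker e he
    have hth := K204.ArtThick.isFiniteOrderThickening_spec e he hn
    have hsm : ∀ {Y : Scheme.{u}} {f : Y ⟶ Spec (CommRingCat.of A)} {i : X ⟶ Y} (_ : Flat f)
        (_ : IsPullback i q f (Spec.map (CommRingCat.ofHom e))), Smooth f := by
      intro Y f i _ hY
      refine (Groth.Agent.S1321.result i (Spec.map (CommRingCat.ofHom e))
        (Spec.map (CommRingCat.ofHom e)) q f (𝟙 _) (𝟙 _) hth ?_ ?_ hY.w).1 inferInstance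
      · rw [Category.comp_id, Category.comp_id]
        exact hY
      · exact IsPullback.of_vert_isIso ⟨by rw [Category.comp_id, Category.id_comp]⟩
    have hsm₁ : Smooth f₁ := hsm hf₁ (hs₀ ▸ hY₁)
    have hsm₂ : Smooth f₂ := hsm hf₂ (hs₀ ▸ hY₂)
    have hcl₀ : IsClosedImmersion (Spec.map (CommRingCat.ofHom e)) :=
      IsClosedImmersion.spec_of_surjective _ he
    have hcl₁ : IsClosedImmersion (Spec.map (CommRingCat.ofHom φ)) :=
      IsClosedImmersion.spec_of_surjective _ hφ
    have htt : t * t = 0 := htm t ht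
    have hk : (RingHom.ker φ) ^ 2 = ⊥ := by
      rw [Ideal.mk_ker, Ideal.span_singleton_pow, pow_two, htt, Ideal.span_singleton_eq_bot]
    have hsur : Surjective (Spec.map (CommRingCat.ofHom φ)) :=
      (K204.ArtThick.isFiniteOrderThickening_spec φ hφ ⟨2, hk⟩).1.2
    have hne : IsNilpotent (RingHom.ker e₁) := by
      obtain ⟨n, hn⟩ := hn
      refine ⟨n, ?_⟩
      have h1 : RingHom.ker e₁ = (RingHom.ker e).map φ := by
        have : RingHom.ker e = (RingHom.ker e₁).comap φ := by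
          rw [← he₁]
          rfl
        rw [this, Ideal.map_comap_of_surjective φ hφ]
      rw [h1, ← Ideal.map_pow, hn]
      exact Ideal.map_bot
    have hth₁ := K204.ArtThick.isFiniteOrderThickening_spec e₁ hse₁ hne
    have hsi : Surjective (pullback.lift i₂ (q ≫ Spec.map (CommRingCat.ofHom e₁))
          (by rw [hY₂.w, Category.assoc]) : X ⟶ pullback f₂ (Spec.map (CommRingCat.ofHom φ))) :=
      MorphismProperty.of_isPullback (hr hY₂).flip hth₁.1.2
    have hsq := hs₀.subst (motive := fun m => IsPullback _ q _ m)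
      (isPullback_comp_mono (hr hY₂) (Spec.map (CommRingCat.ofHom φ)))
    have hw : Ψ.inv ≫ pullback.snd f₁ (Spec.map (CommRingCat.ofHom φ)) = pullback.snd f₂ _ := by
      rw [Iso.inv_comp_eq, hΨ2]
    have hp₁ : IsPullback (Ψ.inv ≫ pullback.fst f₁ (Spec.map (CommRingCat.ofHom φ)))
        (pullback.snd f₂ (Spec.map (CommRingCat.ofHom φ))) f₁ (Spec.map (CommRingCat.ofHom φ)) := by
      have h8 : IsPullback Ψ.inv (pullback.snd f₂ (Spec.map (CommRingCat.ofHom φ)))
          (pullback.snd f₁ (Spec.map (CommRingCat.ofHom φ))) (𝟙 _) :=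
        IsPullback.of_horiz_isIso ⟨by rw [Category.comp_id, hw]⟩
      have h9 := h8.paste_horiz (IsPullback.of_hasPullback f₁ (Spec.map (CommRingCat.ofHom φ)))
      rw [Category.id_comp] at h9
      exact h9
    obtain ⟨Φ, hΦ1, hΦ2⟩ := SmallLift.exists_iso φ hφ hsq (tt := g A t)
      (by rw [← map_mul, htt, map_zero])
      (ker_app φ t (Ideal.mk_ker)) (fun c => by
        obtain ⟨a, rfl⟩ := (g A).surjective c
        rw [app_g_eq_zero, eq_zero_iff e he t htm ht0, ← map_mul, map_eq_zero_iff _ (g A).injective])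
      hk (Groth.Agent.S5005.result q)
      (Groth.Agent.Lefpen.H721.OmegaSec.isFinLocFree_omega q) h1
      (Ψ.inv ≫ pullback.fst f₁ (Spec.map (CommRingCat.ofHom φ)))
      (pullback.fst f₂ (Spec.map (CommRingCat.ofHom φ))) f₁ f₂ hp₁ (IsPullback.of_hasPullback _ _)
    refine ⟨Φ, ?_, hΦ2⟩
    have h10 : i₁ = (pullback.lift i₂ (q ≫ Spec.map (CommRingCat.ofHom e₁))
        (by rw [hY₂.w, Category.assoc]) : X ⟶ pullback f₂ (Spec.map (CommRingCat.ofHom φ))) ≫
        Ψ.inv ≫ pullback.fst f₁ (Spec.map (CommRingCat.ofHom φ)) := by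
      rw [← hΨ1, Category.assoc, Iso.hom_inv_id_assoc, pullback.lift_fst]
    rw [h10, Category.assoc, hΦ1, pullback.lift_fst]

/-- Infinitesimal deformations of a smooth scheme are isomorphic if `Ext¹(Ω, O) = 0`. -/
theorem exists_iso {k : Type u} [Field k] {X : Scheme.{u}} (q : X ⟶ Spec (CommRingCat.of k))
    [Smooth q] [IsSeparated q] [HasExt.{u} X.Modules]
    (h1 : Subsingleton (Abelian.Ext.{u} (Omega.sheaf q) (Coh.structureModule X) 1))
    (A : Type u) [CommRing A] [IsLocalRing A] [IsArtinianRing A] (e : A →+* k)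
    (he : Function.Surjective e)
    (Y₁ Y₂ : Scheme.{u}) (f₁ : Y₁ ⟶ Spec (CommRingCat.of A)) (f₂ : Y₂ ⟶ Spec (CommRingCat.of A))
    (i₁ : X ⟶ Y₁) (i₂ : X ⟶ Y₂) (hf₁ : Flat f₁) (hf₂ : Flat f₂)
    (hY₁ : IsPullback i₁ q f₁ (Spec.map (CommRingCat.ofHom e)))
    (hY₂ : IsPullback i₂ q f₂ (Spec.map (CommRingCat.ofHom e))) :
    ∃ Φ : Y₁ ≅ Y₂, i₁ ≫ Φ.hom = i₂ ∧ Φ.hom ≫ f₂ = f₁ := by
  have hl : Module.length A A ≠ ⊤ := Module.length_ne_top
  obtain ⟨n, hn⟩ := ENat.ne_top_iff_exists.1 hl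
  exact exists_iso_aux q h1 n A e he hn.ge Y₁ Y₂ f₁ f₂ i₁ i₂ hf₁ hf₂ hY₁ hY₂

/-- Deformations are trivial if `Ext¹(Ω, O) = 0`. -/
theorem exists_triv {k : Type u} [Field k] {X : Scheme.{u}} (q : X ⟶ Spec (CommRingCat.of k))
    [Smooth q] [IsSeparated q] [HasExt.{u} X.Modules]
    (h1 : Subsingleton (Abelian.Ext.{u} (Omega.sheaf q) (Coh.structureModule X) 1))
    (A : Type u) [CommRing A] [IsLocalRing A] [IsArtinianRing A] (e : A →+* k)
    (s : k →+* A) (hes : e.comp s = RingHom.id k)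
    (Y : Scheme.{u}) (f : Y ⟶ Spec (CommRingCat.of A))
    (i : X ⟶ Y) (hf : Flat f)
    (hY : IsPullback i q f (Spec.map (CommRingCat.ofHom e))) :
    ∃ φ : Y ≅ pullback q (Spec.map (CommRingCat.ofHom s)),
      φ.hom ≫ pullback.snd _ _ = f ∧ i ≫ φ.hom ≫ pullback.fst _ _ = 𝟙 X := by
  have he : Function.Surjective e := fun c => ⟨s c, congr($hes c)⟩
  have hid : Spec.map (CommRingCat.ofHom e) ≫ Spec.map (CommRingCat.ofHom s) = 𝟙 _ := by
    rw [← Spec.map_comp, ← CommRingCat.ofHom_comp, hes, CommRingCat.ofHom_id, Spec.map_id]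
  have hY₂ : IsPullback (pullback.lift (𝟙 X) (q ≫ Spec.map (CommRingCat.ofHom e))
      (by rw [Category.id_comp, Category.assoc, hid, Category.comp_id]) :
        X ⟶ pullback q (Spec.map (CommRingCat.ofHom s))) q (pullback.snd _ _)
        (Spec.map (CommRingCat.ofHom e)) := by
    refine IsPullback.of_right (h₁₂ := pullback.fst q (Spec.map (CommRingCat.ofHom s)))
      (v₁₃ := q) (h₂₂ := Spec.map (CommRingCat.ofHom s)) ?_ ?_ (IsPullback.of_hasPullback _ _)
    · rw [pullback.lift_fst, hid]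
      exact IsPullback.of_horiz_isIso ⟨by rw [Category.id_comp, Category.comp_id]⟩
    · rw [pullback.lift_snd]
  obtain ⟨Φ, h2, h3⟩ := exists_iso q h1 A e he Y _ f _ i _ hf inferInstance hY hY₂
  refine ⟨Φ, h3, ?_⟩
  rw [← Category.assoc, h2, pullback.lift_fst]

end K679.ArtIso
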