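import Mathlib.AlgebraicGeometry.Gluing
import Mathlib.AlgebraicGeometry.Morphisms.ClosedImmersion
import Mathlib.AlgebraicGeometry.Morphisms.UnderlyingMap
import Mathlib.AlgebraicGeometry.Cover.Open
import Mathlib.AlgebraicGeometry.Restrict

/-!
# Glueing thickenings of the opens of a scheme

`ThSys X₀`: a family of surjective closed immersions `inc V : V ⟶ obj V`, `V` in a set `J` of opens of `X₀`
covering `X₀` and locally closed under intersections, with strictly functorial open immersions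
`tr : obj V ⟶ obj W`, `V ≤ W`, over the inclusions.

`ThSys.glued`, `ThSys.ι V : obj V ⟶ glued` (open immersions, jointly surjective), `ThSys.i : X₀ ⟶ glued`
(surjective closed immersion), cartesian squares `isPullback_i`, `exists_desc`, `hom_ext`.
-/

set_option autoImplicit false
universe u
open CategoryTheory CategoryTheory.Limits AlgebraicGeometry TopologicalSpace

namespace K679

/-- Functorial systems of thickenings. -/
structure ThSys (Z : Scheme.{u}) where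
  J : Set Z.Opens
  inter : ∀ V ∈ J, ∀ W ∈ J, ∀ x, x ∈ V → x ∈ W → ∃ U ∈ J, U ≤ V ∧ U ≤ W ∧ x ∈ U
  cover : ∀ x : Z, ∃ V ∈ J, x ∈ V
  obj : J → Scheme.{u}
  inc : ∀ V : J, V.1.toScheme ⟶ obj V
  cl : ∀ V : J, IsClosedImmersion (inc V)
  su : ∀ V : J, Surjective (inc V)
  tr : ∀ {V W : J}, V ≤ W → (obj V ⟶ obj W)
  oi : ∀ {V W : J} (e : V ≤ W), IsOpenImmersion (tr e)
  inc_tr : ∀ {V W : J} (e : V ≤ W), inc V ≫ tr e = Z.homOfLE e ≫ inc W
  tr_self : ∀ V : J, tr (le_refl V) = 𝟙 _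
  tr_tr : ∀ {U V W : J} (e : U ≤ V) (e' : V ≤ W), tr e ≫ tr e' = tr (e.trans e')

namespace ThSys

attribute [instance] cl su oi

variable {Z : Scheme.{u}} (S : ThSys Z)

/-- The diagram. -/
noncomputable def F : S.J ⥤ Scheme.{u} where
  obj := S.obj
  map f := S.tr (leOfHom f)
  map_id V := S.tr_self V
  map_comp {_ _ _} f g := (S.tr_tr (leOfHom f) (leOfHom g)).symm

instance {V W : S.J} (f : V ⟶ W) : IsOpenImmersion (S.F.map f) := S.oi (leOfHom f)

theorem homOfLE_apply {U V : Z.Opens} (e : U ≤ V) (x : U) : (Z.homOfLE e x).1 = x.1 :=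
  Scheme.homOfLE_apply e x

theorem inc_inj (V : S.J) : Function.Injective (S.inc V) := (S.inc V).isClosedEmbedding.injective

theorem tr_inc {V W : S.J} (e : V ≤ W) (v : V.1) : S.tr e (S.inc V v) = S.inc W (Z.homOfLE e v) := by
  rw [← Scheme.Hom.comp_apply, S.inc_tr, Scheme.Hom.comp_apply]

instance : (S.F ⋙ Scheme.forget).IsLocallyDirected where
  cond {V W K} fV fW x y hxy := by
    obtain ⟨v, rfl⟩ := (S.su V).surj x
    obtain ⟨w, rfl⟩ := (S.su W).surj y
    have e1 : S.tr (leOfHom fV) (S.inc V v) = S.inc K (Z.homOfLE (leOfHom fV) v) := S.tr_inc _ _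
    have e2 : S.tr (leOfHom fW) (S.inc W w) = S.inc K (Z.homOfLE (leOfHom fW) w) := S.tr_inc _ _
    have e3 : Z.homOfLE (leOfHom fV) v = Z.homOfLE (leOfHom fW) w :=
      S.inc_inj K (e1.symm.trans (Eq.trans hxy e2))
    have e4 : v.1 = w.1 := by
      rw [← homOfLE_apply (leOfHom fV) v, e3, homOfLE_apply]
    obtain ⟨U, hU, hUV, hUW, hx⟩ := S.inter V.1 V.2 W.1 W.2 v.1 v.2 (e4 ▸ w.2)
    let u : U := ⟨v.1, hx⟩
    let U' : S.J := ⟨U, hU⟩
    refine ⟨U', homOfLE hUV, homOfLE hUW, S.inc U' u, ?_, ?_⟩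
    · change S.tr (V := U') (W := V) hUV (S.inc U' u) = S.inc V v
      rw [S.tr_inc]
      congr 1
      exact Subtype.ext (homOfLE_apply _ u)
    · change S.tr (V := U') (W := W) hUW (S.inc U' u) = S.inc W w
      rw [S.tr_inc]
      congr 1
      exact Subtype.ext ((homOfLE_apply _ u).trans e4)

/-- The glued scheme. -/
noncomputable def glued : Scheme.{u} := colimit S.F

/-- The pieces. -/
noncomputable def ι (V : S.J) : S.obj V ⟶ S.glued := colimit.ι S.F V

instance (V : S.J) : IsOpenImmersion (S.ι V) :=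
  inferInstanceAs (IsOpenImmersion (colimit.ι S.F V))

theorem tr_ι {V W : S.J} (e : V ≤ W) : S.tr e ≫ S.ι W = S.ι V := colimit.w S.F (homOfLE e)

theorem exists_ι (x : S.glued) : ∃ (V : S.J) (y : S.obj V), S.ι V y = x :=
  Scheme.IsLocallyDirected.ι_jointly_surjective S.F x

theorem ι_eq {V W : S.J} {x : S.obj V} {y : S.obj W} (e : S.ι V x = S.ι W y) :
    ∃ (U : S.J) (hV : U ≤ V) (hW : U ≤ W) (z : S.obj U), S.tr hV z = x ∧ S.tr hW z = y := by
  obtain ⟨k, fi, fj, z, h1, h2⟩ := (Scheme.IsLocallyDirected.ι_eq_ι_iff S.F).mp e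
  exact ⟨k, leOfHom fi, leOfHom fj, z, h1, h2⟩

/-- Morphisms out of the glued scheme. -/
theorem exists_desc {X : Scheme.{u}} (str : ∀ V : S.J, S.obj V ⟶ X)
    (h : ∀ {V W : S.J} (e : V ≤ W), S.tr e ≫ str W = str V) :
    ∃ f : S.glued ⟶ X, ∀ V, S.ι V ≫ f = str V :=
  ⟨colimit.desc S.F
    { pt := X
      ι :=
        { app := fun V => str V
          naturality := fun V W f => by
            change S.tr _ ≫ str W = str V ≫ 𝟙 X
            rw [h, Category.comp_id] } }, fun V => colimit.ι_desc _ _⟩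

theorem hom_ext {X : Scheme.{u}} {f g : S.glued ⟶ X} (h : ∀ V, S.ι V ≫ f = S.ι V ≫ g) : f = g :=
  colimit.hom_ext h

theorem exists_i : ∃ i : Z ⟶ S.glued, ∀ V : S.J, V.1.ι ≫ i = S.inc V ≫ S.ι V := by
  let 𝒰 : Z.OpenCover := {
    I₀ := S.J
    X V := V.1.toScheme
    f V := V.1.ι
    mem₀ := by
      rw [Scheme.presieve₀_mem_precoverage_iff]
      refine ⟨fun x ↦ ?_, inferInstance⟩
      obtain ⟨V, hV, hx⟩ := S.cover x
      exact ⟨⟨V, hV⟩, by simpa using hx⟩ }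
  have key : ∀ V W : S.J, pullback.fst V.1.ι W.1.ι ≫ S.inc V ≫ S.ι V =
      pullback.snd V.1.ι W.1.ι ≫ S.inc W ≫ S.ι W := by
    intro V W
    refine Scheme.hom_ext_of_forall _ _ fun p => ?_
    have hpV : (pullback.fst V.1.ι W.1.ι ≫ V.1.ι) p ∈ V.1 := by
      rw [Scheme.Hom.comp_apply]
      exact (pullback.fst V.1.ι W.1.ι p).2
    have hpW : (pullback.fst V.1.ι W.1.ι ≫ V.1.ι) p ∈ W.1 := by
      rw [pullback.condition, Scheme.Hom.comp_apply]
      exact (pullback.snd V.1.ι W.1.ι p).2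
    obtain ⟨U, hU, hUV, hUW, hx⟩ := S.inter V.1 V.2 W.1 W.2 _ hpV hpW
    let U' : S.J := ⟨U, hU⟩
    let P : (pullback V.1.ι W.1.ι).Opens := (pullback.fst V.1.ι W.1.ι ≫ V.1.ι) ⁻¹ᵁ U
    refine ⟨P, hx, ?_⟩
    have hr : Set.range (P.ι ≫ pullback.fst V.1.ι W.1.ι ≫ V.1.ι) ⊆ Set.range U.ι := by
      rintro _ ⟨q, rfl⟩
      rw [Scheme.Opens.range_ι, Scheme.Hom.comp_apply]
      exact q.2
    let l := IsOpenImmersion.lift U.ι (P.ι ≫ pullback.fst V.1.ι W.1.ι ≫ V.1.ι) hr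
    have hl : l ≫ U.ι = P.ι ≫ pullback.fst V.1.ι W.1.ι ≫ V.1.ι := IsOpenImmersion.lift_fac _ _ _
    have h1 : P.ι ≫ pullback.fst V.1.ι W.1.ι = l ≫ Z.homOfLE hUV := by
      rw [← cancel_mono V.1.ι, Category.assoc, Category.assoc, Scheme.homOfLE_ι, hl]
    have h2 : P.ι ≫ pullback.snd V.1.ι W.1.ι = l ≫ Z.homOfLE hUW := by
      rw [← cancel_mono W.1.ι, Category.assoc, Category.assoc, Scheme.homOfLE_ι, hl, pullback.condition]
    have e1 := S.inc_tr (V := U') (W := V) hUV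
    have e2 := S.inc_tr (V := U') (W := W) hUW
    have e3 : Z.homOfLE hUV ≫ S.inc V = S.inc U' ≫ S.tr (V := U') (W := V) hUV := e1.symm
    have e4 : Z.homOfLE hUW ≫ S.inc W = S.inc U' ≫ S.tr (V := U') (W := W) hUW := e2.symm
    rw [reassoc_of% h1, reassoc_of% h2, reassoc_of% e3, reassoc_of% e4, tr_ι, tr_ι]
  refine ⟨𝒰.glueMorphisms (fun V => S.inc V ≫ S.ι V) key, fun V => ?_⟩
  exact 𝒰.ι_glueMorphisms _ _ V

/-- The inclusion of `Z` in the glued scheme. -/
noncomputable def i : Z ⟶ S.glued := S.exists_i.choose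

theorem ι_i (V : S.J) : V.1.ι ≫ S.i = S.inc V ≫ S.ι V := S.exists_i.choose_spec V

theorem i_apply (V : S.J) (z : V.1) : S.i z.1 = S.ι V (S.inc V z) := by
  rw [← Scheme.Hom.comp_apply, ← S.ι_i V, Scheme.Hom.comp_apply]
  rfl

theorem isPullback_i (V : S.J) : IsPullback (S.inc V) V.1.ι (S.ι V) S.i := by
  refine IsOpenImmersion.isPullback _ _ _ _ (S.ι_i V) ?_
  rw [Scheme.Opens.opensRange_ι]
  ext z
  constructor
  · rintro ⟨y, hy⟩
    obtain ⟨W, hWJ, hW⟩ := S.cover z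
    have h1 : S.ι V y = S.ι ⟨W, hWJ⟩ (S.inc ⟨W, hWJ⟩ ⟨z, hW⟩) := by
      rw [hy]; exact S.i_apply ⟨W, hWJ⟩ ⟨z, hW⟩
    obtain ⟨U, hUV, hUW, u, -, e2⟩ := S.ι_eq h1
    obtain ⟨u, rfl⟩ := (S.su U).surj u
    rw [S.tr_inc] at e2
    have e3 := S.inc_inj _ e2
    have e4 : u.1 = z := by
      rw [← homOfLE_apply hUW u, e3]
    rw [← e4]
    exact hUV u.2
  · intro hz
    exact ⟨S.inc V ⟨z, hz⟩, (S.i_apply V ⟨z, hz⟩).symm⟩

instance surjective_i : Surjective S.i := by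
  refine ⟨fun x => ?_⟩
  obtain ⟨V, y, rfl⟩ := S.exists_ι x
  obtain ⟨v, rfl⟩ := (S.su V).surj y
  exact ⟨v.1, S.i_apply V v⟩

/-- The open cover of the glued scheme by the pieces. -/
noncomputable def cov : S.glued.OpenCover where
  I₀ := S.J
  X V := S.obj V
  f V := S.ι V
  mem₀ := by
    rw [Scheme.presieve₀_mem_precoverage_iff]
    refine ⟨fun x ↦ ?_, inferInstance⟩
    obtain ⟨V, y, hy⟩ := S.exists_ι x
    exact ⟨V, y, hy⟩

instance isClosedImmersion_i : IsClosedImmersion S.i := by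
  rw [IsZariskiLocalAtTarget.iff_of_openCover (P := @IsClosedImmersion) S.cov]
  intro V
  let V' : S.J := V
  have h := (S.isPullback_i V').flip
  have h2 : IsClosedImmersion (S.inc V') := S.cl V'
  change IsClosedImmersion (pullback.snd S.i (S.ι V'))
  have e : pullback.snd S.i (S.ι V') = h.isoPullback.inv ≫ S.inc V' := by
    rw [Iso.eq_inv_comp]
    exact h.isoPullback_hom_snd
  rw [e]
  infer_instance

end ThSys

end K679
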