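import Mathlib.RingTheory.AdicCompletion.LocalRing
import Mathlib.RingTheory.AdicCompletion.Completeness

/-!
The map from a Noetherian local ring to its completion, modulo powers of the maximal ideals.
-/

set_option autoImplicit false

universe u

namespace K679.AdicCompl

open IsLocalRing

variable (R : Type u) [CommRing R] [IsLocalRing R] [IsNoetherianRing R]

theorem mem_maximalIdeal_pow_iff (n : ℕ) (x : AdicCompletion (maximalIdeal R) R) :
    x ∈ maximalIdeal (AdicCompletion (maximalIdeal R) R) ^ n ↔ AdicCompletion.eval (maximalIdeal R) R n x = 0 := by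
  have h : (AdicCompletion.eval (maximalIdeal R) R n).ker =
      (maximalIdeal R) ^ n • (⊤ : Submodule R (AdicCompletion (maximalIdeal R) R)) :=
    (AdicCompletion.pow_smul_top_eq_ker_eval (maximalIdeal R).fg_of_isNoetherianRing).symm
  rw [AdicCompletion.maximalIdeal_eq_map, ← Ideal.map_pow, ← Submodule.restrictScalars_mem R,
    ← Ideal.smul_top_eq_map, ← h, LinearMap.mem_ker]

theorem exists_sub_mem (n : ℕ) (x : AdicCompletion (maximalIdeal R) R) :
    ∃ r : R, x - algebraMap R (AdicCompletion (maximalIdeal R) R) r ∈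
      maximalIdeal (AdicCompletion (maximalIdeal R) R) ^ n := by
  obtain ⟨r, hr⟩ := Submodule.mkQ_surjective _ (AdicCompletion.eval (maximalIdeal R) R n x)
  refine ⟨r, ?_⟩
  rw [mem_maximalIdeal_pow_iff, map_sub, ← hr, sub_eq_zero]
  rfl

theorem mem_pow_of_algebraMap_mem (n : ℕ) (r : R)
    (h : algebraMap R (AdicCompletion (maximalIdeal R) R) r ∈
      maximalIdeal (AdicCompletion (maximalIdeal R) R) ^ n) : r ∈ maximalIdeal R ^ n := by
  rw [mem_maximalIdeal_pow_iff] at h
  change Submodule.Quotient.mk r = _ at h
  rw [Submodule.Quotient.mk_eq_zero] at h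
  simpa using h

end K679.AdicCompl
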