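import Groth.Agent.Deform.K679.ExalKit
import Mathlib.RingTheory.Extension.Cotangent.Basic

/-!
The extension of `B` by `M` attached to an extension of `B`-modules `0 → M → N → Ω → 0`.
-/

set_option autoImplicit false

universe u

open TensorProduct

namespace K679.ConormalExt

attribute [local instance] Exal.opModule Exal.isCentralScalar_opModule

section Triv

variable {A B N : Type u} [CommRing A] [CommRing B] [Algebra A B] [AddCommGroup N] [Module B N]

/-- Second component of an element of the trivial extension. -/
noncomputable def snd (t : (Exal.Ext.trivial A B N).E) : N := TrivSqZeroExt.snd (t : TrivSqZeroExt B N)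

theorem snd_add (t t' : (Exal.Ext.trivial A B N).E) : snd (t + t') = snd t + snd t' :=
  TrivSqZeroExt.snd_add _ _

theorem snd_mul (t t' : (Exal.Ext.trivial A B N).E) :
    snd (t * t') = (Exal.Ext.trivial A B N).proj t • snd t' + (Exal.Ext.trivial A B N).proj t' • snd t :=
  TrivSqZeroExt.snd_mul _ _

theorem snd_algebraMap (a : A) : snd (algebraMap A (Exal.Ext.trivial A B N).E a) = 0 := rfl

theorem ext {t t' : (Exal.Ext.trivial A B N).E} (h1 : (Exal.Ext.trivial A B N).proj t = (Exal.Ext.trivial A B N).proj t')
    (h2 : snd t = snd t') : t = t' := TrivSqZeroExt.ext h1 h2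

variable (A) in
/-- The element `(b, n)`. -/
noncomputable def mk (b : B) (n : N) : (Exal.Ext.trivial A B N).E :=
  (TrivSqZeroExt.inl b + TrivSqZeroExt.inr n : TrivSqZeroExt B N)

theorem proj_mk (b : B) (n : N) : (Exal.Ext.trivial A B N).proj (mk A b n) = b := by
  change TrivSqZeroExt.fst (TrivSqZeroExt.inl b + TrivSqZeroExt.inr n : TrivSqZeroExt B N) = b
  simp

theorem snd_mk (b : B) (n : N) : snd (mk A b n) = n := by
  change TrivSqZeroExt.snd (TrivSqZeroExt.inl b + TrivSqZeroExt.inr n : TrivSqZeroExt B N) = n
  simp

end Triv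

section Main

variable {A B : Type u} [CommRing A] [CommRing B] [Algebra A B]

theorem exists_extension (M N : Type u) [AddCommGroup M] [Module B M] [AddCommGroup N] [Module B N]
    (i : M →ₗ[B] N) (q : N →ₗ[B] Ω[B⁄A]) (hi : Function.Injective i) (hq : Function.Surjective q)
    (hex : Function.Exact i q) :
    ∃ P : Algebra.Extension.{u} A B, P.ker ^ 2 = ⊥ ∧
      ∃ (e₁ : P.Cotangent ≃ₗ[B] M) (e₂ : P.CotangentSpace ≃ₗ[B] N),
        (∀ x, e₂ (P.cotangentComplex x) = i (e₁ x)) ∧ (∀ y, q (e₂ y) = P.toKaehler y) := by
  let T := Exal.Ext.trivial A B N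
  let S : Subalgebra A T.E :=
    { carrier := {t | q (snd t) = KaehlerDifferential.D A B (T.proj t)}
      mul_mem' := by
        intro t t' ht ht'
        change q (snd (t * t')) = KaehlerDifferential.D A B (T.proj (t * t'))
        change q (snd t) = _ at ht
        change q (snd t') = _ at ht'
        rw [snd_mul, map_add, map_smul, map_smul, ht, ht', map_mul, Derivation.leibniz]
      add_mem' := by
        intro t t' ht ht'
        change q (snd (t + t')) = KaehlerDifferential.D A B (T.proj (t + t'))
        change q (snd t) = _ at ht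
        change q (snd t') = _ at ht'
        rw [snd_add, map_add, ht, ht', map_add, map_add]
      algebraMap_mem' := by
        intro a
        change q (snd (algebraMap A T.E a)) = KaehlerDifferential.D A B (T.proj (algebraMap A T.E a))
        rw [snd_algebraMap, map_zero, AlgHom.commutes, Derivation.map_algebraMap] }
  have hS : ∀ t : T.E, t ∈ S ↔ q (snd t) = KaehlerDifferential.D A B (T.proj t) := fun _ => Iff.rfl
  have hSs : ∀ b : B, ∃ s : S, T.proj (s : T.E) = b := by
    intro b
    obtain ⟨n, hn⟩ := hq (KaehlerDifferential.D A B b)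
    refine ⟨⟨mk A b n, ?_⟩, proj_mk b n⟩
    rw [hS, snd_mk, proj_mk, hn]
  let P : Algebra.Extension.{u} A B := Algebra.Extension.ofSurjective (P := S) (T.proj.comp S.val) hSs
  have hP : ∀ s : S, algebraMap P.Ring B s = T.proj (s : T.E) := fun s => rfl
  have hker : ∀ s : S, (s : P.Ring) ∈ P.ker ↔ T.proj (s : T.E) = 0 := fun s => Iff.rfl
  have hsq : P.ker ^ 2 = ⊥ := by
    rw [pow_two, eq_bot_iff, Ideal.mul_le]
    rintro s hs s' hs'
    have h1 : T.proj (Subtype.val (s : S)) = 0 := (hker s).1 hs
    have h2 : T.proj (Subtype.val (s' : S)) = 0 := (hker s').1 hs'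
    exact Subtype.ext (ExalKit.mul_eq_zero_of_proj T h1 h2)
  refine ⟨P, hsq, ?_⟩
  -- the kernel
  have hmem : ∀ m : M, mk A (0 : B) (i m) ∈ S := by
    intro m
    rw [hS, snd_mk, proj_mk, map_zero]
    exact hex.apply_apply_eq_zero m
  have hmem' : ∀ m : M, (⟨mk A (0 : B) (i m), hmem m⟩ : P.Ring) ∈ P.ker := fun m =>
    proj_mk (A := A) 0 (i m)
  let κ : M → P.ker := fun m => ⟨⟨mk A (0 : B) (i m), hmem m⟩, hmem' m⟩
  let ψ : M →ₗ[B] P.Cotangent :=
    { toFun := fun m => Algebra.Extension.Cotangent.mk (κ m)
      map_add' := fun m m' => by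
        rw [← map_add]
        congr 1
        apply Subtype.ext
        apply Subtype.ext
        refine ext ?_ ?_
        · rw [proj_mk]
          change (0 : B) = T.proj (mk A 0 (i m) + mk A 0 (i m'))
          rw [map_add, proj_mk, proj_mk, add_zero]
        · rw [snd_mk]
          change i (m + m') = snd (mk A 0 (i m) + mk A 0 (i m'))
          rw [snd_add, snd_mk, snd_mk, map_add]
      map_smul' := fun b m => by
        obtain ⟨s, hs⟩ := hSs b
        rw [RingHom.id_apply]
        conv_rhs => rw [← hs, ← hP s]
        rw [algebraMap_smul, ← map_smul]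
        congr 1
        apply Subtype.ext
        apply Subtype.ext
        refine ext ?_ ?_
        · rw [proj_mk]
          change (0 : B) = T.proj ((s : T.E) * mk A 0 (i m))
          rw [map_mul, proj_mk, mul_zero]
        · rw [snd_mk]
          change i (b • m) = snd ((s : T.E) * mk A 0 (i m))
          rw [snd_mul, snd_mk, proj_mk, zero_smul, add_zero, map_smul]
          exact congrArg (· • i m) hs.symm }
  have hψ : Function.Bijective ψ := by
    constructor
    · rw [injective_iff_map_eq_zero]
      intro m hm
      have h1 := (Algebra.Extension.Cotangent.mk_eq_zero_iff _).1 hm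
      rw [hsq, Ideal.mem_bot] at h1
      have h2 : mk A (0 : B) (i m) = 0 := congrArg Subtype.val h1
      have h3 : i m = 0 := by
        rw [← snd_mk (A := A) (0 : B) (i m), h2]; rfl
      exact hi (by rw [h3, map_zero])
    · intro y
      obtain ⟨⟨s, hs⟩, rfl⟩ := Algebra.Extension.Cotangent.mk_surjective y
      have h1 : T.proj (Subtype.val (s : S)) = 0 := (hker s).1 hs
      have h2 : q (snd (Subtype.val (s : S))) = 0 := by
        rw [(hS _).1 (Subtype.property (s : S)), h1, map_zero]
      obtain ⟨m, hm⟩ := (hex _).1 h2
      refine ⟨m, ?_⟩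
      change Algebra.Extension.Cotangent.mk _ = _
      congr 1
      apply Subtype.ext
      apply Subtype.ext
      refine ext ?_ ?_
      · rw [proj_mk]; exact h1.symm
      · rw [snd_mk]; exact hm
  let e₁ : P.Cotangent ≃ₗ[B] M := (LinearEquiv.ofBijective ψ hψ).symm
  have he₁ : ∀ m, e₁ (ψ m) = m := fun m => (LinearEquiv.ofBijective ψ hψ).symm_apply_apply m
  -- the differentials
  let _ : Module P.Ring N := Module.compHom N (algebraMap P.Ring B)
  have hst : IsScalarTower P.Ring B N := by
    constructor
    intro s b n
    change (s • b) • n = algebraMap P.Ring B s • (b • n)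
    rw [Algebra.smul_def, mul_smul]
  let _ : Module A N := Module.compHom N (algebraMap A B)
  have hst2 : IsScalarTower A P.Ring N := by
    constructor
    intro a s n
    change algebraMap P.Ring B (a • s) • n = algebraMap A B a • (algebraMap P.Ring B s • n)
    rw [Algebra.smul_def, map_mul, mul_smul, ← IsScalarTower.algebraMap_apply]
  let d : Derivation A P.Ring N :=
    { toFun := fun s => snd (Subtype.val (s : S))
      map_add' := fun s s' => snd_add _ _
      map_smul' := fun a s => by
        change snd (Subtype.val ((a • s : P.Ring) : S)) = algebraMap A B a • snd (Subtype.val (s : S))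
        have h1 : (Subtype.val ((a • s : P.Ring) : S)) = algebraMap A T.E a * Subtype.val (s : S) := by
          rw [Algebra.smul_def]; rfl
        rw [h1, snd_mul, snd_algebraMap, smul_zero, add_zero, AlgHom.commutes]
      map_one_eq_zero' := rfl
      leibniz' := fun s s' => snd_mul _ _ }
  let θ : P.CotangentSpace →ₗ[B] N := d.liftKaehlerDifferential.liftBaseChange B
  have hθ : ∀ s : P.Ring, θ ((1 : B) ⊗ₜ[P.Ring] KaehlerDifferential.D A P.Ring s) = snd (Subtype.val (s : S)) := by
    intro s
    change (d.liftKaehlerDifferential.liftBaseChange B) _ = _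
    rw [LinearMap.liftBaseChange_one_tmul, Derivation.liftKaehlerDifferential_comp_D]
    rfl
  have hqθ : ∀ y, q (θ y) = P.toKaehler y := by
    have : q ∘ₗ θ = P.toKaehler := by
      have h2 : ∀ x : Ω[P.Ring⁄A], q (θ ((1 : B) ⊗ₜ[P.Ring] x)) = P.toKaehler ((1 : B) ⊗ₜ[P.Ring] x) := by
        intro x
        have hx : x ∈ Submodule.span P.Ring (Set.range (KaehlerDifferential.D A P.Ring)) := by
          rw [KaehlerDifferential.span_range_derivation]; trivial
        induction hx using Submodule.span_induction with
        | mem x hx =>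
          obtain ⟨s, rfl⟩ := hx
          rw [hθ, (hS _).1 (Subtype.property (s : S))]
          rw [Algebra.Extension.toKaehler, KaehlerDifferential.mapBaseChange_tmul, one_smul,
            KaehlerDifferential.map_D]
          rfl
        | zero => rw [TensorProduct.tmul_zero, map_zero, map_zero, map_zero]
        | add x y _ _ hx hy => rw [TensorProduct.tmul_add, map_add, map_add, map_add, hx, hy]
        | smul a x _ hx =>
          have h3 : (1 : B) ⊗ₜ[P.Ring] (a • x) = algebraMap P.Ring B a • ((1 : B) ⊗ₜ[P.Ring] x) := by
            rw [TensorProduct.tmul_smul, algebraMap_smul]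
          rw [h3, map_smul, map_smul, map_smul, hx]
      refine TensorProduct.AlgebraTensorModule.curry_injective ?_
      ext x
      exact h2 _
    exact fun y => LinearMap.congr_fun this y
  have hθc : ∀ x, θ (P.cotangentComplex x) = i (e₁ x) := by
    intro x
    obtain ⟨m, rfl⟩ := hψ.2 x
    rw [he₁]
    change θ (P.cotangentComplex (Algebra.Extension.Cotangent.mk (κ m))) = _
    rw [Algebra.Extension.cotangentComplex_mk, hθ]
    exact snd_mk 0 (i m)
  have hθb : Function.Bijective θ := by
    constructor
    · rw [injective_iff_map_eq_zero]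
      intro y hy
      have h1 : P.toKaehler y = 0 := by rw [← hqθ, hy, map_zero]
      obtain ⟨x, rfl⟩ := (P.exact_cotangentComplex_toKaehler y).1 h1
      rw [hθc] at hy
      have h2 : e₁ x = 0 := hi (by rw [hy, map_zero])
      have h3 : x = 0 := e₁.injective (by rw [h2, map_zero])
      rw [h3, map_zero]
    · intro n
      obtain ⟨y, hy⟩ := P.toKaehler_surjective (q n)
      have h1 : q (n - θ y) = 0 := by rw [map_sub, hqθ, hy, sub_self]
      obtain ⟨m, hm⟩ := (hex _).1 h1
      refine ⟨y + P.cotangentComplex (e₁.symm m), ?_⟩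
      rw [map_add, hθc, LinearEquiv.apply_symm_apply, hm]
      abel
  exact ⟨e₁, LinearEquiv.ofBijective θ hθb, hθc, hqθ⟩

end Main

end K679.ConormalExt
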