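import Mathlib.RingTheory.Extension.Cotangent.Basic
import Mathlib.RingTheory.Smooth.Locus
import Mathlib.RingTheory.Ideal.MinimalPrime.Basic
import Mathlib.LinearAlgebra.Dual.Lemmas

/-!
Injectivity of the conormal map of a square-zero extension of a generically smooth reduced algebra by a projective module.
-/

set_option autoImplicit false

universe u

open TensorProduct

namespace K679.ConormalInj

/-- A splitting of `E → B` after mapping to `T` gives a map from the differentials. -/
theorem map_eq_zero_of_D_eq_zero {A E B T : Type*} [CommRing A] [CommRing E] [CommRing B] [CommRing T]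
    [Algebra A E] [Algebra A B] [Algebra E B] [IsScalarTower A E B] [Algebra A T]
    (f : E →ₐ[A] T) (τ : B →ₐ[A] T)
    (h : ∀ e e', (f e - τ (algebraMap E B e)) * (f e' - τ (algebraMap E B e')) = 0)
    (x : E) (hx : algebraMap E B x = 0) (hD : (1 : B) ⊗ₜ[E] (KaehlerDifferential.D A E x) = 0) : f x = 0 := by
  let : Algebra B T := τ.toRingHom.toAlgebra
  let : Algebra E T := (τ.toRingHom.comp (algebraMap E B)).toAlgebra
  have h1 : IsScalarTower E B T := IsScalarTower.of_algebraMap_eq fun _ => rfl
  have h2 : IsScalarTower A E T := IsScalarTower.of_algebraMap_eq fun a => by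
    change algebraMap A T a = τ (algebraMap E B (algebraMap A E a))
    rw [← IsScalarTower.algebraMap_apply, AlgHom.commutes]
  have hsm : ∀ (e : E) (t : T), e • t = τ (algebraMap E B e) * t := fun e t => rfl
  let d : Derivation A E T :=
    { toFun := fun e => f e - τ (algebraMap E B e)
      map_add' := fun e e' => by rw [map_add, map_add, map_add]; ring
      map_smul' := fun a e => by
        rw [Algebra.smul_def, map_mul, map_mul, map_mul, AlgHom.commutes, ← IsScalarTower.algebraMap_apply,
          AlgHom.commutes, RingHom.id_apply, Algebra.smul_def]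
        ring
      map_one_eq_zero' := by
        change f 1 - τ (algebraMap E B 1) = 0
        rw [map_one, map_one, map_one, sub_self]
      leibniz' := fun e e' => by
        change f (e * e') - τ (algebraMap E B (e * e')) = τ (algebraMap E B e) * (f e' - τ (algebraMap E B e')) +
          τ (algebraMap E B e') * (f e - τ (algebraMap E B e))
        rw [map_mul, map_mul, map_mul]
        linear_combination h e e' }
  have h3 : (d.liftKaehlerDifferential.liftBaseChange B) ((1 : B) ⊗ₜ[E] (KaehlerDifferential.D A E x)) = f x := by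
    rw [LinearMap.liftBaseChange_one_tmul, Derivation.liftKaehlerDifferential_comp_D]
    change f x - τ (algebraMap E B x) = f x
    rw [hx, map_zero, sub_zero]
  rw [← h3, hD, map_zero]

/-- Local version at a prime where `B` is smooth. -/
theorem exists_mul_eq_zero_of_smoothAt {A E B : Type u} [CommRing A] [CommRing E] [CommRing B]
    [Algebra A E] [Algebra A B] [Algebra E B] [IsScalarTower A E B]
    (hsurj : Function.Surjective (algebraMap E B))
    (hsq : ∀ x y : E, algebraMap E B x = 0 → algebraMap E B y = 0 → x * y = 0)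
    (p : Ideal B) [p.IsPrime] [Algebra.FormallySmooth A (Localization.AtPrime p)]
    (x : E) (hx : algebraMap E B x = 0) (hD : (1 : B) ⊗ₜ[E] (KaehlerDifferential.D A E x) = 0) :
    ∃ s : E, algebraMap E B s ∉ p ∧ s * x = 0 := by
  set q : Ideal E := p.comap (algebraMap E B) with hq
  -- the map of local rings
  let g₀ : Localization.AtPrime q →+* Localization.AtPrime p :=
    Localization.localRingHom q p (algebraMap E B) rfl
  have hg₀ : ∀ e, g₀ (algebraMap E _ e) = algebraMap B _ (algebraMap E B e) := fun e =>
    Localization.localRingHom_to_map q p (algebraMap E B) rfl e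
  let g : Localization.AtPrime q →ₐ[A] Localization.AtPrime p :=
    { g₀ with
      commutes' := fun a => by
        change g₀ (algebraMap A _ a) = _
        rw [IsScalarTower.algebraMap_apply A E (Localization.AtPrime q), hg₀,
          ← IsScalarTower.algebraMap_apply A E B, ← IsScalarTower.algebraMap_apply A B] }
  have hg : ∀ y, g y = g₀ y := fun _ => rfl
  have hgs : Function.Surjective g := by
    intro y
    obtain ⟨b, s, rfl⟩ := IsLocalization.exists_mk'_eq p.primeCompl y
    obtain ⟨e, rfl⟩ := hsurj b
    obtain ⟨s, hs⟩ := s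
    obtain ⟨t, rfl⟩ := hsurj s
    have ht : t ∈ q.primeCompl := hs
    refine ⟨IsLocalization.mk' _ e ⟨t, ht⟩, ?_⟩
    rw [hg]
    exact Localization.localRingHom_mk' q p (algebraMap E B) rfl e ⟨t, ht⟩
  have hker : ∀ y, g y = 0 → ∃ (e : E) (s : q.primeCompl), algebraMap E B e = 0 ∧ y * algebraMap E _ (s : E) =
      algebraMap E (Localization.AtPrime q) e := by
    intro y hy
    obtain ⟨e, s, rfl⟩ := IsLocalization.exists_mk'_eq q.primeCompl y
    have h1 : g (algebraMap E _ e) = 0 := by
      have h2 := IsLocalization.mk'_spec (Localization.AtPrime q) e s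
      rw [← h2, map_mul, hy, zero_mul]
    rw [hg, hg₀] at h1
    obtain ⟨t, ht⟩ := (IsLocalization.map_eq_zero_iff p.primeCompl _ _).1 h1
    obtain ⟨t, ht'⟩ := t
    obtain ⟨t, rfl⟩ := hsurj t
    refine ⟨t * e, ⟨t, ht'⟩ * s, ?_, ?_⟩
    · rw [map_mul]; exact ht
    · change _ * algebraMap E _ (t * (s : E)) = _
      have h2 := IsLocalization.mk'_spec (Localization.AtPrime q) e s
      rw [map_mul, map_mul]
      linear_combination (algebraMap E (Localization.AtPrime q) t) * h2
  have hmul : ∀ y y', g y = 0 → g y' = 0 → y * y' = 0 := by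
    intro y y' hy hy'
    obtain ⟨e, s, he, hs⟩ := hker y hy
    obtain ⟨e', s', he', hs'⟩ := hker y' hy'
    have hu := (IsLocalization.map_units (Localization.AtPrime q) s).mul
      (IsLocalization.map_units (Localization.AtPrime q) s')
    have h1 : (y * y') * (algebraMap E (Localization.AtPrime q) s * algebraMap E (Localization.AtPrime q) s') = 0 := by
      have h2 : (y * y') * (algebraMap E (Localization.AtPrime q) s * algebraMap E (Localization.AtPrime q) s') =
          (y * algebraMap E (Localization.AtPrime q) s) * (y' * algebraMap E (Localization.AtPrime q) s') := by ring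
      rw [h2, hs, hs', ← map_mul, hsq e e' he he', map_zero]
    exact hu.mul_left_eq_zero.1 h1
  have hnil : IsNilpotent (RingHom.ker (g : Localization.AtPrime q →+* Localization.AtPrime p)) := by
    refine ⟨2, ?_⟩
    rw [pow_two, Ideal.zero_eq_bot, eq_bot_iff, Ideal.mul_le]
    intro y hy y' hy'
    exact hmul y y' hy hy'
  let σ : Localization.AtPrime p →ₐ[A] Localization.AtPrime q :=
    Algebra.FormallySmooth.liftOfSurjective (AlgHom.id A (Localization.AtPrime p)) g hgs hnil
  have hσ : ∀ y, g (σ y) = y := fun y =>
    Algebra.FormallySmooth.liftOfSurjective_apply (AlgHom.id A (Localization.AtPrime p)) g hgs hnil y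
  have h0 : (IsScalarTower.toAlgHom A E (Localization.AtPrime q)) x = 0 := by
    refine map_eq_zero_of_D_eq_zero (IsScalarTower.toAlgHom A E (Localization.AtPrime q))
      (σ.comp (IsScalarTower.toAlgHom A B (Localization.AtPrime p))) (fun e e' => ?_) x hx hD
    have h3 : ∀ e : E, g ((IsScalarTower.toAlgHom A E (Localization.AtPrime q)) e -
        (σ.comp (IsScalarTower.toAlgHom A B (Localization.AtPrime p))) (algebraMap E B e)) = 0 := by
      intro e
      rw [map_sub, AlgHom.comp_apply, hσ]
      change g₀ (algebraMap E _ e) - algebraMap B _ (algebraMap E B e) = 0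
      rw [hg₀, sub_self]
    exact hmul _ _ (h3 e) (h3 e')
  change algebraMap E (Localization.AtPrime q) x = 0 at h0
  obtain ⟨s, hs⟩ := (IsLocalization.map_eq_zero_iff q.primeCompl _ _).1 h0
  exact ⟨s, s.2, hs⟩

/-- The conormal map of a square-zero extension by a projective module of a reduced algebra which is smooth at its
minimal primes is injective. -/
theorem cotangentComplex_injective {A B : Type u} [CommRing A] [CommRing B] [Algebra A B] [IsReduced B]
    (hsm : ∀ p : PrimeSpectrum B, p.asIdeal ∈ minimalPrimes B → Algebra.IsSmoothAt A p.asIdeal)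
    (P : Algebra.Extension.{u} A B) (hsq : P.ker ^ 2 = ⊥) [Module.Projective B P.Cotangent] :
    Function.Injective P.cotangentComplex := by
  rw [injective_iff_map_eq_zero]
  intro y hy
  obtain ⟨⟨x, hx⟩, rfl⟩ := Algebra.Extension.Cotangent.mk_surjective y
  rw [Algebra.Extension.cotangentComplex_mk] at hy
  rw [← Module.forall_dual_apply_eq_zero_iff B]
  intro φ
  have hsq' : ∀ x y : P.Ring, algebraMap P.Ring B x = 0 → algebraMap P.Ring B y = 0 → x * y = 0 := by
    intro x y hx hy
    have h1 : x * y ∈ P.ker ^ 2 := by
      rw [pow_two]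
      exact Ideal.mul_mem_mul hx hy
    rw [hsq] at h1
    exact h1
  have hmem : φ (Algebra.Extension.Cotangent.mk ⟨x, hx⟩) ∈ nilradical B := by
    rw [nilradical, Ideal.radical_eq_sInf, Ideal.mem_sInf]
    rintro J ⟨-, hJ⟩
    obtain ⟨p, hp, hpJ⟩ := Ideal.exists_minimalPrimes_le (I := (⊥ : Ideal B)) (J := J) bot_le
    refine hpJ ?_
    have hpp : p.IsPrime := hp.1.1
    have hfs : Algebra.FormallySmooth A (Localization.AtPrime p) := hsm ⟨p, hpp⟩ hp
    obtain ⟨s, hs, hsx⟩ := exists_mul_eq_zero_of_smoothAt P.algebraMap_surjective hsq' p x hx hy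
    have h1 : (algebraMap P.Ring B s) • Algebra.Extension.Cotangent.mk (P := P) ⟨x, hx⟩ = 0 := by
      rw [algebraMap_smul, ← map_smul]
      have : (s • (⟨x, hx⟩ : P.ker)) = 0 := Subtype.ext hsx
      rw [this, map_zero]
    have h2 : algebraMap P.Ring B s * φ (Algebra.Extension.Cotangent.mk ⟨x, hx⟩) = 0 := by
      rw [← smul_eq_mul, ← map_smul, h1, map_zero]
    rcases hpp.mem_or_mem (show algebraMap P.Ring B s * φ (Algebra.Extension.Cotangent.mk ⟨x, hx⟩) ∈ p by
      rw [h2]; exact zero_mem _) with h3 | h3
    · exact absurd h3 hs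
    · exact h3
  rwa [nilradical_eq_zero, Ideal.zero_eq_bot, Ideal.mem_bot] at hmem

end K679.ConormalInj
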