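import Groth.Agent.Deform.K679.ExalKit
import Mathlib.RingTheory.HopkinsLevitzki
import Mathlib.RingTheory.Filtration
import Mathlib.RingTheory.SimpleModule.Basic
import Mathlib.RingTheory.LocalRing.ResidueField.Basic

/-!
Extensions of local (Noetherian) rings: locality, Noetherianity, Krull intersection.
-/

set_option autoImplicit false

universe u v w w'

namespace K679.ExalKit

open Exal IsLocalRing

variable {A : Type u} {B L : Type v} [CommRing A] [CommRing B] [Algebra A B] [AddCommGroup L] [Module B L]

theorem isUnit_of_isUnit_proj (X : Ext A B L) {x : X.E} (h : IsUnit (X.proj x)) : IsUnit x := by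
  obtain ⟨b, hb⟩ := h.exists_right_inv
  obtain ⟨y, rfl⟩ := proj_surjective X b
  rw [← map_mul] at hb
  have h1 : X.proj (x * y - 1) = 0 := by rw [map_sub, hb, map_one, sub_self]
  have h2 : (x * y - 1) * (x * y - 1) = 0 := mul_eq_zero_of_proj X h1 h1
  exact IsUnit.of_mul_eq_one (y * (2 - x * y)) (by linear_combination -h2)

instance isLocalHom_proj (X : Ext A B L) : IsLocalHom X.proj :=
  ⟨fun _ h => isUnit_of_isUnit_proj X h⟩

theorem isLocalHom_proj' (X : Ext A B L) : IsLocalHom X.proj.toRingHom :=
  ⟨fun _ h => isUnit_of_isUnit_proj X h⟩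

theorem isLocalRing_E (X : Ext A B L) [IsLocalRing B] : IsLocalRing X.E := by
  have := isLocalHom_proj' X
  exact RingHom.domain_isLocalRing X.proj.toRingHom

theorem mem_maximalIdeal_iff (X : Ext A B L) [IsLocalRing B] [IsLocalRing X.E] (x : X.E) :
    x ∈ maximalIdeal X.E ↔ X.proj x ∈ maximalIdeal B := by
  rw [mem_maximalIdeal, mem_maximalIdeal, mem_nonunits_iff, mem_nonunits_iff]
  exact not_congr ⟨fun h => h.map X.proj, fun h => isUnit_of_isUnit_proj X h⟩

theorem incl_mem_maximalIdeal (X : Ext A B L) [IsLocalRing B] [IsLocalRing X.E] (z : L) :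
    X.incl z ∈ maximalIdeal X.E := by
  rw [mem_maximalIdeal_iff, proj_incl]
  exact zero_mem _

theorem map_maximalIdeal (X : Ext A B L) [IsLocalRing B] [IsLocalRing X.E] :
    (maximalIdeal X.E).map X.proj = maximalIdeal B := by
  apply le_antisymm
  · rw [Ideal.map_le_iff_le_comap]
    intro x hx
    exact (mem_maximalIdeal_iff X x).1 hx
  · intro b hb
    obtain ⟨x, rfl⟩ := proj_surjective X b
    exact Ideal.mem_map_of_mem _ ((mem_maximalIdeal_iff X x).2 hb)

theorem map_maximalIdeal_pow (X : Ext A B L) [IsLocalRing B] [IsLocalRing X.E] (n : ℕ) :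
    (maximalIdeal X.E ^ n).map X.proj = maximalIdeal B ^ n := by
  rw [Ideal.map_pow, map_maximalIdeal]

theorem exists_mem_pow (X : Ext A B L) [IsLocalRing B] [IsLocalRing X.E] (n : ℕ) {b : B}
    (hb : b ∈ maximalIdeal B ^ n) : ∃ x ∈ maximalIdeal X.E ^ n, X.proj x = b := by
  rw [← map_maximalIdeal_pow X n, Ideal.mem_map_iff_of_surjective _ (proj_surjective X)] at hb
  exact hb

/-- The middle ring of an extension of a Noetherian ring by a finite module is Noetherian. -/
theorem isNoetherianRing_E (X : Ext A B L) [IsNoetherianRing B] [Module.Finite B L] :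
    IsNoetherianRing X.E := by
  let : Module X.E B := Module.compHom B X.proj.toRingHom
  let : Module X.E L := Module.compHom L X.proj.toRingHom
  have hB : IsNoetherian X.E B := by
    rw [isNoetherian_iff']
    have h0 : IsNoetherian B B := inferInstance
    rw [isNoetherian_iff'] at h0
    let f : Submodule X.E B → Submodule B B := fun N =>
      { carrier := N
        add_mem' := N.add_mem
        zero_mem' := N.zero_mem
        smul_mem' := fun b x hx => by
          obtain ⟨e, rfl⟩ := proj_surjective X b
          exact N.smul_mem e hx }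
    exact StrictMono.wellFoundedGT (f := f) (fun N N' h => h)
  have hL : IsNoetherian X.E L := by
    rw [isNoetherian_iff']
    have h0 : IsNoetherian B L := inferInstance
    rw [isNoetherian_iff'] at h0
    let f : Submodule X.E L → Submodule B L := fun N =>
      { carrier := N
        add_mem' := N.add_mem
        zero_mem' := N.zero_mem
        smul_mem' := fun b x hx => by
          obtain ⟨e, rfl⟩ := proj_surjective X b
          exact N.smul_mem e hx }
    exact StrictMono.wellFoundedGT (f := f) (fun N N' h => h)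
  let i : L →ₗ[X.E] X.E :=
    { toFun := X.incl
      map_add' := map_add X.incl
      map_smul' := fun x z => (mul_incl X x z).symm }
  let p : X.E →ₗ[X.E] B :=
    { toFun := X.proj
      map_add' := map_add X.proj
      map_smul' := fun x y => map_mul X.proj x y }
  refine isNoetherian_of_range_eq_ker i p ?_
  ext x
  rw [LinearMap.mem_range, LinearMap.mem_ker]
  exact (X.isExtension.exact x).symm

section Simple

variable [IsLocalRing B] [IsSimpleModule B L]

omit [Algebra A B] in
theorem maximalIdeal_smul_simple {b : B} (hb : b ∈ maximalIdeal B) (z : L) : b • z = 0 := by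
  have h := IsSimpleModule.annihilator_isMaximal (R := B) (M := L)
  have h2 := IsLocalRing.eq_maximalIdeal h
  rw [← h2, Module.mem_annihilator] at hb
  exact hb z

theorem mul_incl_eq_zero (X : Ext A B L) [IsLocalRing X.E] {x : X.E} (hx : x ∈ maximalIdeal X.E) (z : L) :
    x * X.incl z = 0 := by
  rw [mul_incl, maximalIdeal_smul_simple ((mem_maximalIdeal_iff X x).1 hx), map_zero]

/-- Krull: some power of the maximal ideal of `E` meets `L` in `0`. -/
theorem exists_pow_inf_eq_bot (X : Ext A B L) [IsNoetherianRing B] [IsLocalRing X.E] :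
    ∃ n, ∀ x ∈ maximalIdeal X.E ^ n, X.proj x = 0 → x = 0 := by
  have hfin : Module.Finite B L := inferInstance
  have := isNoetherianRing_E X
  have hnt : Nontrivial L := IsSimpleModule.nontrivial B L
  obtain ⟨z, hz⟩ := exists_ne (0 : L)
  have hz' : X.incl z ≠ 0 := fun h => hz (incl_injective X (by rw [h, map_zero]))
  have hk := Ideal.iInf_pow_eq_bot_of_isLocalRing (I := maximalIdeal X.E) ((IsLocalRing.maximalIdeal.isMaximal X.E).ne_top)
  have : ∃ n, X.incl z ∉ maximalIdeal X.E ^ n := by
    by_contra hcon
    push Not at hcon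
    apply hz'
    have : X.incl z ∈ ⨅ i : ℕ, maximalIdeal X.E ^ i := by
      rw [Submodule.mem_iInf]
      exact hcon
    rwa [hk, Ideal.mem_bot] at this
  obtain ⟨n, hn⟩ := this
  refine ⟨n, fun x hx hpx => ?_⟩
  by_contra hx0
  obtain ⟨z', rfl⟩ := exists_incl X hpx
  apply hn
  have hz'0 : z' ≠ 0 := fun h => hx0 (by rw [h, map_zero])
  have hspan : Submodule.span B {z'} = ⊤ := IsSimpleModule.span_singleton_eq_top B hz'0
  have : z ∈ Submodule.span B {z'} := by rw [hspan]; trivial
  obtain ⟨b, rfl⟩ := Submodule.mem_span_singleton.1 this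
  obtain ⟨e, rfl⟩ := proj_surjective X b
  rw [← mul_incl]
  exact Ideal.mul_mem_left _ _ hx

end Simple

end K679.ExalKit
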