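import Groth.Agent.Deform.K679.ExalKit2
import Groth.Agent.Deform.K679.ExalLocal

/-!
Extensions by a simple module and completion-like maps `R → R'` of local Noetherian rings.
-/

set_option autoImplicit false

universe u

namespace K679.ExalCompl

open Exal IsLocalRing K679.ExalKit

variable {Λ R R' : Type u} [CommRing Λ] [CommRing R] [CommRing R'] [Algebra Λ R] [Algebra Λ R'] [Algebra R R']
  [IsScalarTower Λ R R'] [IsLocalRing R] [IsLocalRing R'] [IsNoetherianRing R] [IsNoetherianRing R']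
  [IsLocalHom (algebraMap R R')]
  (L : Type u) [AddCommGroup L] [Module R' L] [Module R L] [IsScalarTower R R' L]

omit [IsLocalRing R] [IsLocalRing R'] [IsNoetherianRing R] [IsNoetherianRing R'] [IsLocalHom (algebraMap R R')] in
theorem isSimpleModule_of_tower [IsSimpleModule R L] : IsSimpleModule R' L := by
  have h : IsSimpleOrder (Submodule R L) := (isSimpleModule_iff R L).1 inferInstance
  have hnt : Nontrivial L := IsSimpleModule.nontrivial R L
  rw [isSimpleModule_iff]
  refine { exists_pair_ne := ⟨⊥, ⊤, bot_ne_top⟩, eq_bot_or_eq_top := fun N => ?_ }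
  rcases h.eq_bot_or_eq_top (N.restrictScalars R) with h1 | h1
  · left
    rwa [Submodule.restrictScalars_eq_bot_iff] at h1
  · right
    rwa [Submodule.restrictScalars_eq_top_iff] at h1

omit [IsNoetherianRing R] [IsNoetherianRing R'] in
theorem map_maximalIdeal_le : (maximalIdeal R).map (algebraMap R R') ≤ maximalIdeal R' := by
  rw [Ideal.map_le_iff_le_comap]
  intro r hr
  rw [Ideal.mem_comap, mem_maximalIdeal, mem_nonunits_iff]
  intro h
  exact hr (isUnit_of_map_unit (algebraMap R R') r h)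

/-- Lifting from `R` to `R'` in an extension of `R'` by a simple module. -/
theorem isTrivial_of_lift [IsSimpleModule R' L]
    (hsurj : ∀ (n : ℕ) (x : R'), ∃ r : R, x - algebraMap R R' r ∈ maximalIdeal R' ^ n)
    (hker : ∀ (n : ℕ) (r : R), algebraMap R R' r ∈ maximalIdeal R' ^ n → r ∈ maximalIdeal R ^ n)
    (Z : Ext Λ R' L) (s : R →ₐ[Λ] Z.E) (hs : ∀ r, Z.proj (s r) = algebraMap R R' r) : Z.IsTrivial := by
  have hloc := isLocalRing_E Z
  obtain ⟨n, hn⟩ := exists_pow_inf_eq_bot Z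
  have hsm : ∀ r ∈ maximalIdeal R, s r ∈ maximalIdeal Z.E := by
    intro r hr
    rw [mem_maximalIdeal_iff, hs]
    exact map_maximalIdeal_le (Ideal.mem_map_of_mem _ hr)
  have hsn : ∀ r ∈ maximalIdeal R ^ n, s r ∈ maximalIdeal Z.E ^ n := by
    intro r hr
    have h1 : (maximalIdeal R ^ n).map s ≤ maximalIdeal Z.E ^ n := by
      rw [Ideal.map_pow]
      refine Ideal.pow_right_mono ?_ n
      rw [Ideal.map_le_iff_le_comap]
      exact hsm
    exact h1 (Ideal.mem_map_of_mem _ hr)
  let S : Subalgebra Λ (R' × (Z.E ⧸ maximalIdeal Z.E ^ n)) :=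
    { carrier := {p | ∃ r : R, p.1 - algebraMap R R' r ∈ maximalIdeal R' ^ n ∧
        p.2 = Ideal.Quotient.mk (maximalIdeal Z.E ^ n) (s r)}
      mul_mem' := by
        rintro ⟨x, y⟩ ⟨x', y'⟩ ⟨r, hr, hr'⟩ ⟨r1, hr1, hr1'⟩
        refine ⟨r * r1, ?_, ?_⟩
        · change x * x' - algebraMap R R' (r * r1) ∈ _
          have h2 : x * x' - algebraMap R R' (r * r1) =
              x' * (x - algebraMap R R' r) + algebraMap R R' r * (x' - algebraMap R R' r1) := by
            rw [map_mul]; ring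
          rw [h2]
          exact Ideal.add_mem _ (Ideal.mul_mem_left _ _ hr) (Ideal.mul_mem_left _ _ hr1)
        · change y * y' = _
          change y = _ at hr'
          change y' = _ at hr1'
          rw [hr', hr1', map_mul, map_mul]
      add_mem' := by
        rintro ⟨x, y⟩ ⟨x', y'⟩ ⟨r, hr, hr'⟩ ⟨r1, hr1, hr1'⟩
        refine ⟨r + r1, ?_, ?_⟩
        · change x + x' - algebraMap R R' (r + r1) ∈ _
          have h2 : x + x' - algebraMap R R' (r + r1) =
              (x - algebraMap R R' r) + (x' - algebraMap R R' r1) := by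
            rw [map_add]; ring
          rw [h2]
          exact Ideal.add_mem _ hr hr1
        · change y + y' = _
          change y = _ at hr'
          change y' = _ at hr1'
          rw [hr', hr1', map_add, map_add]
      algebraMap_mem' := by
        intro a
        refine ⟨algebraMap Λ R a, ?_, ?_⟩
        · change algebraMap Λ R' a - _ ∈ _
          rw [← IsScalarTower.algebraMap_apply, sub_self]
          exact zero_mem _
        · change algebraMap Λ (Z.E ⧸ maximalIdeal Z.E ^ n) a = _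
          rw [AlgHom.commutes]
          rfl }
  obtain ⟨h, hh⟩ := exists_algHom_of_graph S (fun x => by
    obtain ⟨r, hr⟩ := hsurj n x
    exact ⟨_, r, hr, rfl⟩) (by
    rintro e ⟨r, hr, hr'⟩
    change 0 - algebraMap R R' r ∈ _ at hr
    rw [zero_sub, neg_mem_iff] at hr
    change e = _ at hr'
    rw [hr', Ideal.Quotient.eq_zero_iff_mem]
    exact hsn r (hker n r hr))
  obtain ⟨f, hf, hf'⟩ := exists_lift_of_inf_eq_bot Z _ hn (AlgHom.id Λ R') h (by
    intro x
    obtain ⟨r, hr⟩ := hsurj n x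
    obtain ⟨w, hw, hw'⟩ := exists_mem_pow Z n hr
    refine ⟨s r + w, ?_, ?_⟩
    · rw [map_add, hs, hw']
      change _ = x
      ring
    · rw [map_add, Ideal.Quotient.eq_zero_iff_mem.2 hw, add_zero]
      exact (hh x _).1 ⟨r, hr, rfl⟩)
  exact ⟨f, hf⟩

/-- Injectivity of the pull-back on classes. -/
theorem nonempty_equiv_of_pullback [IsSimpleModule R' L]
    (hsurj : ∀ (n : ℕ) (x : R'), ∃ r : R, x - algebraMap R R' r ∈ maximalIdeal R' ^ n)
    (hker : ∀ (n : ℕ) (r : R), algebraMap R R' r ∈ maximalIdeal R' ^ n → r ∈ maximalIdeal R ^ n)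
    (X X' : Ext Λ R' L) (h : Nonempty ((X.pullback R).Equiv (X'.pullback R))) : Nonempty (X.Equiv X') := by
  obtain ⟨Z, hZ⟩ := exists_baer X X'
  obtain ⟨s, hs⟩ := (hZ R).1 h
  obtain ⟨e⟩ := (hZ R').2 (isTrivial_of_lift L hsurj hker Z s hs)
  obtain ⟨e1⟩ := nonempty_pullback_self_equiv X
  obtain ⟨e2⟩ := nonempty_pullback_self_equiv X'
  exact ⟨(e1.symm.trans e).trans e2⟩

/-- Surjectivity of the pull-back on classes. -/
theorem exists_pullback_equiv [IsSimpleModule R' L] [IsSimpleModule R L]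
    (hsurj : ∀ (n : ℕ) (x : R'), ∃ r : R, x - algebraMap R R' r ∈ maximalIdeal R' ^ n)
    (hker : ∀ (n : ℕ) (r : R), algebraMap R R' r ∈ maximalIdeal R' ^ n → r ∈ maximalIdeal R ^ n)
    (Y : Ext Λ R L) : ∃ X : Ext Λ R' L, Nonempty ((X.pullback R).Equiv Y) := by
  have hloc := isLocalRing_E Y
  obtain ⟨n, hn⟩ := exists_pow_inf_eq_bot Y
  set I : Ideal Y.E := maximalIdeal Y.E ^ (n + 1) with hI
  have hIn : ∀ x ∈ I, Y.proj x = 0 → x = 0 := fun x hx => hn x (Ideal.pow_le_pow_right (Nat.le_succ n) hx)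
  have hpow : ∀ r ∈ maximalIdeal R ^ (n + 1), algebraMap R R' r ∈ maximalIdeal R' ^ (n + 1) := by
    intro r hr
    have h1 : (maximalIdeal R ^ (n + 1)).map (algebraMap R R') ≤ maximalIdeal R' ^ (n + 1) := by
      rw [Ideal.map_pow]
      exact Ideal.pow_right_mono map_maximalIdeal_le _
    exact h1 (Ideal.mem_map_of_mem _ hr)
  have hprojI : ∀ y ∈ I, Y.proj y ∈ maximalIdeal R ^ (n + 1) := by
    intro y hy
    rw [← map_maximalIdeal_pow Y]
    exact Ideal.mem_map_of_mem _ hy
  obtain ⟨π, hπ⟩ := exists_factor (Ideal.Quotient.mkₐ Λ I) Ideal.Quotient.mk_surjective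
    ((Ideal.Quotient.mkₐ Λ (maximalIdeal R' ^ (n + 1))).comp ((IsScalarTower.toAlgHom Λ R R').comp Y.proj)) (by
      intro y hy
      rw [Ideal.Quotient.mkₐ_eq_mk, Ideal.Quotient.eq_zero_iff_mem] at hy
      change Ideal.Quotient.mk _ (algebraMap R R' (Y.proj y)) = 0
      rw [Ideal.Quotient.eq_zero_iff_mem]
      exact hpow _ (hprojI y hy))
  have hπ' : ∀ y, π (Ideal.Quotient.mk I y) =
      Ideal.Quotient.mk (maximalIdeal R' ^ (n + 1)) (algebraMap R R' (Y.proj y)) := hπ
  obtain ⟨X, f, hf1, hf2, hf3, hf4⟩ := exists_ofFiber (A := Λ) (B := R') (L := L) (C := Y.E ⧸ I)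
    (C' := R' ⧸ maximalIdeal R' ^ (n + 1)) π (Ideal.Quotient.mkₐ Λ (maximalIdeal R' ^ (n + 1)))
    ((Ideal.Quotient.mk I : Y.E →+ Y.E ⧸ I).comp Y.incl) (by
      intro b
      obtain ⟨r, hr⟩ := hsurj (n + 1) b
      obtain ⟨y, rfl⟩ := proj_surjective Y r
      refine ⟨Ideal.Quotient.mk I y, ?_⟩
      rw [hπ']
      exact ((Ideal.Quotient.mk_eq_mk_iff_sub_mem _ _).2 hr).symm) (by
      rw [injective_iff_map_eq_zero]
      intro z hz
      have h1 : Y.incl z ∈ I := Ideal.Quotient.eq_zero_iff_mem.1 hz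
      have h2 := hIn _ h1 (proj_incl Y z)
      exact incl_injective Y (by rw [h2, map_zero])) (by
      intro c
      obtain ⟨y, rfl⟩ := Ideal.Quotient.mk_surjective c
      rw [hπ', Ideal.Quotient.eq_zero_iff_mem]
      constructor
      · intro h
        obtain ⟨y', hy', hy''⟩ := exists_mem_pow Y (n + 1) (hker _ _ h)
        obtain ⟨z, hz⟩ := exists_incl Y (x := y - y') (by rw [map_sub, hy'', sub_self])
        refine ⟨z, ?_⟩
        change Ideal.Quotient.mk I (Y.incl z) = _
        rw [hz, map_sub, Ideal.Quotient.eq_zero_iff_mem.2 hy', sub_zero]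
      · rintro ⟨z, hz⟩
        change Ideal.Quotient.mk I (Y.incl z) = _ at hz
        rw [Ideal.Quotient.mk_eq_mk_iff_sub_mem] at hz
        have h1 := hprojI _ hz
        rw [map_sub, proj_incl, zero_sub, neg_mem_iff] at h1
        exact hpow _ h1) (by
      intro c b z h
      obtain ⟨y, rfl⟩ := Ideal.Quotient.mk_surjective c
      rw [hπ'] at h
      have h0 : algebraMap R R' (Y.proj y) - b ∈ maximalIdeal R' ^ (n + 1) :=
        (Ideal.Quotient.mk_eq_mk_iff_sub_mem _ _).1 h
      have h1 : algebraMap R R' (Y.proj y) - b ∈ maximalIdeal R' := Ideal.pow_le_self (Nat.succ_ne_zero n) h0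
      have h2 := maximalIdeal_smul_simple h1 z
      rw [sub_smul, sub_eq_zero, IsScalarTower.algebraMap_smul] at h2
      change Ideal.Quotient.mk I y * Ideal.Quotient.mk I (Y.incl z) = Ideal.Quotient.mk I (Y.incl (b • z))
      rw [← map_mul, mul_incl, h2])
  refine ⟨X, ?_⟩
  let S : Subalgebra Λ (Y.E × X.E) :=
    AlgHom.equalizer (((Ideal.Quotient.mkₐ Λ I).prod ((IsScalarTower.toAlgHom Λ R R').comp Y.proj)).comp
      (AlgHom.fst Λ Y.E X.E)) ((f.prod X.proj).comp (AlgHom.snd Λ Y.E X.E))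
  have hS : ∀ y x, (y, x) ∈ S ↔ (Ideal.Quotient.mk I y = f x ∧ algebraMap R R' (Y.proj y) = X.proj x) := by
    intro y x
    exact Prod.ext_iff
  obtain ⟨h, hh⟩ := exists_algHom_of_graph S (fun y => by
    obtain ⟨x, hx1, hx2⟩ := hf3 (Ideal.Quotient.mk I y) (algebraMap R R' (Y.proj y)) (hπ' y)
    exact ⟨x, (hS y x).2 ⟨hx1.symm, hx2.symm⟩⟩) (fun x hx => by
    rw [hS] at hx
    obtain ⟨h1, h2⟩ := hx
    refine hf4 x 0 ?_ ?_
    · rw [← h1, map_zero, map_zero]
    · rw [← h2, map_zero, map_zero, map_zero])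
  have hh' : ∀ y, Ideal.Quotient.mk I y = f (h y) ∧ algebraMap R R' (Y.proj y) = X.proj (h y) := fun y =>
    (hS y (h y)).1 ((hh y _).2 rfl)
  refine nonempty_pullback_equiv X Y h (fun y => (hh' y).2.symm) (fun z => ?_)
  refine ((hh _ _).1 ((hS _ _).2 ⟨?_, ?_⟩)).symm
  · rw [hf2]; rfl
  · rw [proj_incl, proj_incl, map_zero]

end K679.ExalCompl
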