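import Groth.Prelude.Def_Exal2
import Mathlib.Algebra.Algebra.Subalgebra.Basic
import Mathlib.RingTheory.Ideal.Quotient.Operations
import Mathlib.RingTheory.Derivation.Basic
import Mathlib.Tactic.LinearCombination

/-!
Toolkit for `Exal.Ext A B L`: extensions of a commutative algebra by a module.
-/

set_option autoImplicit false

universe u v w w'

namespace K679.ExalKit

open Exal

section Rel

variable {A : Type u} {C : Type v} {E : Type w} [CommRing A] [CommRing C] [CommRing E] [Algebra A C]
  [Algebra A E]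

/-- A subalgebra of `C × E` whose fibres over `C` are singletons is the graph of an algebra map. -/
theorem exists_algHom_of_graph (S : Subalgebra A (C × E)) (h1 : ∀ c, ∃ e, (c, e) ∈ S)
    (h2 : ∀ e, ((0 : C), e) ∈ S → e = 0) :
    ∃ f : C →ₐ[A] E, ∀ c e, (c, e) ∈ S ↔ e = f c := by
  let p : S →ₐ[A] C := (AlgHom.fst A C E).comp S.val
  have hp : Function.Bijective p := by
    constructor
    · rw [injective_iff_map_eq_zero]
      rintro ⟨⟨c, e⟩, hce⟩ h
      change c = 0 at h
      subst h
      have := h2 e hce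
      subst this
      rfl
    · intro c
      obtain ⟨e, he⟩ := h1 c
      exact ⟨⟨(c, e), he⟩, rfl⟩
  let q := AlgEquiv.ofBijective p hp
  refine ⟨((AlgHom.snd A C E).comp S.val).comp q.symm.toAlgHom, fun c e => ?_⟩
  have key : (c, ((AlgHom.snd A C E).comp S.val).comp q.symm.toAlgHom c) ∈ S := by
    have h3 : p (q.symm c) = c := q.apply_symm_apply c
    have h4 := (q.symm c).2
    have h5 : (q.symm c : C × E) = (c, ((AlgHom.snd A C E).comp S.val).comp q.symm.toAlgHom c) :=
      Prod.ext h3 rfl
    rwa [h5] at h4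
  constructor
  · intro h
    have := h2 (e - ((AlgHom.snd A C E).comp S.val).comp q.symm.toAlgHom c) (by
      have := S.sub_mem h key
      rwa [Prod.mk_sub_mk, sub_self] at this)
    exact sub_eq_zero.1 this
  · rintro rfl
    exact key

end Rel

variable {A : Type u} {B L : Type v} [CommRing A] [CommRing B] [Algebra A B] [AddCommGroup L] [Module B L]

theorem proj_incl (X : Ext A B L) (z : L) : X.proj (X.incl z) = 0 :=
  (X.isExtension.exact _).2 ⟨z, rfl⟩

theorem exists_incl (X : Ext A B L) {x : X.E} (h : X.proj x = 0) : ∃ z, X.incl z = x :=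
  (X.isExtension.exact _).1 h

theorem mul_incl (X : Ext A B L) (x : X.E) (z : L) : x * X.incl z = X.incl (X.proj x • z) :=
  X.isExtension.mul_incl x z

theorem incl_mul (X : Ext A B L) (x : X.E) (z : L) : X.incl z * x = X.incl (X.proj x • z) := by
  rw [mul_comm, mul_incl]

theorem incl_mul_incl (X : Ext A B L) (z z' : L) : X.incl z * X.incl z' = 0 := by
  rw [mul_incl, proj_incl, zero_smul, map_zero]

theorem incl_injective (X : Ext A B L) : Function.Injective X.incl := X.isExtension.incl_injective

theorem proj_surjective (X : Ext A B L) : Function.Surjective X.proj := X.isExtension.proj_surjective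

theorem mul_eq_zero_of_proj (X : Ext A B L) {x y : X.E} (hx : X.proj x = 0) (hy : X.proj y = 0) :
    x * y = 0 := by
  obtain ⟨z, rfl⟩ := exists_incl X hx
  obtain ⟨z', rfl⟩ := exists_incl X hy
  exact incl_mul_incl X z z'

/-- A homomorphism of extensions is bijective. -/
theorem bijective_of_hom {X Y : Ext A B L} (f : X.E →ₐ[A] Y.E) (h1 : ∀ x, Y.proj (f x) = X.proj x)
    (h2 : ∀ z, f (X.incl z) = Y.incl z) : Function.Bijective f := by
  constructor
  · rw [injective_iff_map_eq_zero]
    intro x hx
    have : X.proj x = 0 := by rw [← h1, hx, map_zero]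
    obtain ⟨z, rfl⟩ := exists_incl X this
    rw [h2] at hx
    have : z = 0 := incl_injective Y (by rw [hx, map_zero])
    rw [this, map_zero]
  · intro y
    obtain ⟨x, hx⟩ := proj_surjective X (Y.proj y)
    have : Y.proj (y - f x) = 0 := by rw [map_sub, h1, hx, sub_self]
    obtain ⟨z, hz⟩ := exists_incl Y this
    exact ⟨x + X.incl z, by rw [map_add, h2, hz]; ring⟩

/-- A homomorphism of extensions is an equivalence. -/
noncomputable def equivOfHom {X Y : Ext A B L} (f : X.E →ₐ[A] Y.E) (h1 : ∀ x, Y.proj (f x) = X.proj x)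
    (h2 : ∀ z, f (X.incl z) = Y.incl z) : X.Equiv Y where
  toAlgEquiv := AlgEquiv.ofBijective f (bijective_of_hom f h1 h2)
  proj_apply := h1
  apply_incl := h2

section Lift

variable {C : Type w} [CommRing C] [Algebra A C]

/-- Two lifts `C → E` of the same map to `B` differ by a map to `L`. -/
theorem exists_diff (X : Ext A B L) (s s' : C →ₐ[A] X.E) (h : ∀ c, X.proj (s c) = X.proj (s' c)) :
    ∃ D : C → L, (∀ c, X.incl (D c) = s' c - s c) ∧ (∀ c c', D (c + c') = D c + D c') ∧
      (∀ c c', D (c * c') = X.proj (s c) • D c' + X.proj (s c') • D c) ∧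
      (∀ a, D (algebraMap A C a) = 0) := by
  have h0 : ∀ c, ∃ z, X.incl z = s' c - s c := fun c => exists_incl X (by rw [map_sub, h, sub_self])
  choose D hD using h0
  refine ⟨D, hD, fun c c' => ?_, fun c c' => ?_, fun a => ?_⟩
  · apply incl_injective X
    rw [map_add, hD, hD, hD, map_add, map_add]; ring
  · apply incl_injective X
    rw [map_add, ← mul_incl, ← mul_incl, hD, hD, hD, map_mul, map_mul]
    have : (s' c - s c) * (s' c' - s c') = 0 := by rw [← hD, ← hD, incl_mul_incl]
    linear_combination this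
  · apply incl_injective X
    rw [hD, AlgHom.commutes, AlgHom.commutes, sub_self, map_zero]

/-- The difference of two lifts as a derivation. -/
theorem exists_derivation_of_lifts (X : Ext A B L) (g : C →ₐ[A] B) [Module C L] [Module A L]
    (hCL : ∀ (c : C) (z : L), c • z = g c • z) (hAL : ∀ (a : A) (z : L), a • z = algebraMap A B a • z)
    (s s' : C →ₐ[A] X.E) (hs : ∀ c, X.proj (s c) = g c) (hs' : ∀ c, X.proj (s' c) = g c) :
    ∃ D : Derivation A C L, ∀ c, X.incl (D c) = s' c - s c := by
  obtain ⟨D, hD, h1, h2, h3⟩ := exists_diff X s s' (fun c => by rw [hs, hs'])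
  refine ⟨{ toFun := D, map_add' := h1, map_smul' := ?_, map_one_eq_zero' := ?_, leibniz' := ?_ }, hD⟩
  · intro a c
    rw [Algebra.smul_def, h2, h3, smul_zero, add_zero, hs, RingHom.id_apply, hAL, AlgHom.commutes]
  · rw [LinearMap.coe_mk, AddHom.coe_mk, ← map_one (algebraMap A C), h3]
  · intro c c'
    change D (c * c') = c • D c' + c' • D c
    rw [h2, hs, hs, hCL, hCL]

/-- Adding a derivation to a lift. -/
theorem exists_lift_add_derivation (X : Ext A B L) (g : C →ₐ[A] B) [Module C L] [Module A L]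
    (hCL : ∀ (c : C) (z : L), c • z = g c • z)
    (s : C →ₐ[A] X.E) (hs : ∀ c, X.proj (s c) = g c) (D : Derivation A C L) :
    ∃ s' : C →ₐ[A] X.E, (∀ c, s' c = s c + X.incl (D c)) ∧ ∀ c, X.proj (s' c) = g c := by
  refine ⟨
    { toFun := fun c => s c + X.incl (D c)
      map_one' := ?_
      map_mul' := ?_
      map_zero' := ?_
      map_add' := ?_
      commutes' := ?_ }, fun c => rfl, fun c => ?_⟩
  · simp
  · intro c c'
    rw [Derivation.leibniz, hCL, hCL, map_add, ← hs, ← hs, ← mul_incl, ← mul_incl, map_mul]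
    linear_combination - incl_mul_incl X (D c) (D c')
  · simp
  · intro c c'
    rw [map_add, map_add, map_add]; ring
  · intro a
    rw [AlgHom.commutes, Derivation.map_algebraMap, map_zero, add_zero]
  · change X.proj (s c + X.incl (D c)) = g c
    rw [map_add, proj_incl, add_zero, hs]

end Lift

section Pullback

variable (B₀ : Type v) [CommRing B₀] [Algebra A B₀] [Algebra B₀ B] [IsScalarTower A B₀ B]
variable [Module B₀ L] [IsScalarTower B₀ B L]

/-- The middle ring of the pull-back maps to the middle ring. -/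
noncomputable def pullbackFst (X : Ext A B L) : (X.pullback B₀).E →ₐ[A] X.E :=
  (AlgHom.fst A X.E B₀).comp (X.fiberProd B₀).val

variable {B₀}

theorem proj_pullbackFst (X : Ext A B L) (x : (X.pullback B₀).E) :
    X.proj (pullbackFst B₀ X x) = algebraMap B₀ B ((X.pullback B₀).proj x) := by
  obtain ⟨x, hx⟩ := x
  exact hx

theorem pullbackFst_incl (X : Ext A B L) (z : L) :
    pullbackFst B₀ X ((X.pullback B₀).incl z) = X.incl z := rfl

theorem pullback_ext (X : Ext A B L) {x y : (X.pullback B₀).E}
    (h1 : pullbackFst B₀ X x = pullbackFst B₀ X y) (h2 : (X.pullback B₀).proj x = (X.pullback B₀).proj y) :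
    x = y :=
  Subtype.ext (Prod.ext h1 h2)

/-- Elements of the pull-back. -/
theorem exists_pullback_mk (X : Ext A B L) (x : X.E) (b : B₀) (h : X.proj x = algebraMap B₀ B b) :
    ∃ y : (X.pullback B₀).E, pullbackFst B₀ X y = x ∧ (X.pullback B₀).proj y = b :=
  ⟨⟨(x, b), h⟩, rfl, rfl⟩

/-- The pull-back is trivial if and only if the map `B₀ → B` lifts. -/
theorem pullback_isTrivial_iff (X : Ext A B L) :
    (X.pullback B₀).IsTrivial ↔ ∃ s : B₀ →ₐ[A] X.E, ∀ b, X.proj (s b) = algebraMap B₀ B b := by
  constructor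
  · rintro ⟨s, hs⟩
    exact ⟨(pullbackFst B₀ X).comp s, fun b => by
      rw [AlgHom.comp_apply, proj_pullbackFst, hs]⟩
  · rintro ⟨s, hs⟩
    refine ⟨AlgHom.codRestrict (s.prod (AlgHom.id A B₀)) (X.fiberProd B₀) hs, fun b => rfl⟩

/-- An extension of `B₀` mapping to `X` over `B₀ → B` and under `L` is the pull-back. -/
theorem nonempty_pullback_equiv (X : Ext A B L) (Y : Ext A B₀ L) (f : Y.E →ₐ[A] X.E)
    (h1 : ∀ y, X.proj (f y) = algebraMap B₀ B (Y.proj y)) (h2 : ∀ z, f (Y.incl z) = X.incl z) :
    Nonempty ((X.pullback B₀).Equiv Y) := by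
  refine ⟨(equivOfHom (X := Y) (Y := X.pullback B₀)
    (AlgHom.codRestrict (f.prod Y.proj) (X.fiberProd B₀) h1) (fun y => rfl) (fun z => ?_)).symm⟩
  apply pullback_ext
  · exact h2 z
  · change Y.proj (Y.incl z) = _
    rw [proj_incl]
    exact (proj_incl (X.pullback B₀) z).symm

end Pullback

section Trivial

theorem trivial_isTrivial : (Ext.trivial A B L).IsTrivial := by
  refine ⟨
    { toFun := fun b => (TrivSqZeroExt.inl b : TrivSqZeroExt B L)
      map_one' := rfl
      map_mul' := ?_
      map_zero' := rfl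
      map_add' := ?_
      commutes' := ?_ }, fun b => rfl⟩
  · intro b b'
    refine TrivSqZeroExt.ext rfl ?_
    change (0 : L) = b • (0 : L) + b' • (0 : L)
    rw [smul_zero, smul_zero, add_zero]
  · intro b b'
    refine TrivSqZeroExt.ext rfl ?_
    change (0 : L) = 0 + 0
    rw [add_zero]
  · intro a; rfl

/-- Two trivial extensions are equivalent. -/
theorem nonempty_equiv_of_isTrivial {X Y : Ext A B L} (hX : X.IsTrivial) (hY : Y.IsTrivial) :
    Nonempty (X.Equiv Y) := by
  obtain ⟨s, hs⟩ := hX
  obtain ⟨t, ht⟩ := hY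
  let S : Subalgebra A (X.E × Y.E) :=
    { carrier := {p | ∃ (b : B) (z : L), p = (s b + X.incl z, t b + Y.incl z)}
      mul_mem' := by
        rintro _ _ ⟨b, z, rfl⟩ ⟨b', z', rfl⟩
        refine ⟨b * b', b • z' + b' • z, Prod.ext ?_ ?_⟩
        · change (s b + X.incl z) * (s b' + X.incl z') = s (b * b') + X.incl (b • z' + b' • z)
          have h1 := mul_incl X (s b) z'
          have h2 := mul_incl X (s b') z
          rw [hs] at h1 h2
          rw [map_mul, map_add]
          linear_combination h1 + h2 + incl_mul_incl X z z'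
        · change (t b + Y.incl z) * (t b' + Y.incl z') = t (b * b') + Y.incl (b • z' + b' • z)
          have h1 := mul_incl Y (t b) z'
          have h2 := mul_incl Y (t b') z
          rw [ht] at h1 h2
          rw [map_mul, map_add]
          linear_combination h1 + h2 + incl_mul_incl Y z z'
      add_mem' := by
        rintro _ _ ⟨b, z, rfl⟩ ⟨b', z', rfl⟩
        refine ⟨b + b', z + z', Prod.ext ?_ ?_⟩
        · change (s b + X.incl z) + (s b' + X.incl z') = s (b + b') + X.incl (z + z')
          rw [map_add, map_add]; ring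
        · change (t b + Y.incl z) + (t b' + Y.incl z') = t (b + b') + Y.incl (z + z')
          rw [map_add, map_add]; ring
      algebraMap_mem' := by
        intro a
        refine ⟨algebraMap A B a, 0, Prod.ext ?_ ?_⟩
        · change algebraMap A X.E a = s (algebraMap A B a) + X.incl 0
          rw [map_zero, add_zero, AlgHom.commutes]
        · change algebraMap A Y.E a = t (algebraMap A B a) + Y.incl 0
          rw [map_zero, add_zero, AlgHom.commutes] }
  obtain ⟨f, hf⟩ := exists_algHom_of_graph S (fun x => by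
    obtain ⟨z, hz⟩ := exists_incl X (x := x - s (X.proj x)) (by rw [map_sub, hs, sub_self])
    exact ⟨t (X.proj x) + Y.incl z, X.proj x, z, Prod.ext (by rw [hz]; ring) rfl⟩) (by
    rintro e ⟨b, z, hbz⟩
    have h1 : (0 : X.E) = s b + X.incl z := congrArg Prod.fst hbz
    have h2 : e = t b + Y.incl z := congrArg Prod.snd hbz
    have h3 : b = 0 := by
      have := congrArg X.proj h1
      rw [map_zero, map_add, hs, proj_incl, add_zero] at this
      exact this.symm
    subst h3
    rw [map_zero, zero_add] at h1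
    have h4 : z = 0 := incl_injective X (by rw [← h1, map_zero])
    rw [h2, h4]; simp)
  refine ⟨equivOfHom f (fun x => ?_) (fun z => ?_)⟩
  · obtain ⟨b, z, hbz⟩ := (hf x (f x)).2 rfl
    have h1 : x = s b + X.incl z := congrArg Prod.fst hbz
    have h2 : f x = t b + Y.incl z := congrArg Prod.snd hbz
    rw [h2, h1, map_add, map_add, hs, ht, proj_incl, proj_incl]
  · refine ((hf _ _).1 ⟨0, z, Prod.ext ?_ ?_⟩).symm
    · simp
    · simp

theorem isTrivial_iff_nonempty_equiv_trivial (X : Ext A B L) :
    X.IsTrivial ↔ Nonempty (X.Equiv (Ext.trivial A B L)) := by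
  constructor
  · intro h
    exact nonempty_equiv_of_isTrivial h trivial_isTrivial
  · rintro ⟨e⟩
    obtain ⟨s, hs⟩ := trivial_isTrivial (A := A) (B := B) (L := L)
    exact ⟨e.symm.toAlgEquiv.toAlgHom.comp s, fun b => by
      change X.proj (e.symm.toAlgEquiv (s b)) = b
      rw [e.symm.proj_apply, hs]⟩

theorem isTrivial_of_equiv {X Y : Ext A B L} (e : X.Equiv Y) (h : X.IsTrivial) : Y.IsTrivial := by
  obtain ⟨s, hs⟩ := h
  exact ⟨e.toAlgEquiv.toAlgHom.comp s, fun b => by
    change Y.proj (e.toAlgEquiv (s b)) = b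
    rw [e.proj_apply, hs]⟩

end Trivial

section Glue

variable {C : Type w} [CommRing C] [Algebra A C]

/-- Glueing: a map to `E` is the same as compatible maps to `B` and to `E/I` when `I` meets the kernel in `0`. -/
theorem exists_lift_of_inf_eq_bot (X : Ext A B L) (I : Ideal X.E) (hI : ∀ x ∈ I, X.proj x = 0 → x = 0)
    (g : C →ₐ[A] B) (h : C →ₐ[A] X.E ⧸ I) (hgh : ∀ c, ∃ x, X.proj x = g c ∧ Ideal.Quotient.mk I x = h c) :
    ∃ f : C →ₐ[A] X.E, (∀ c, X.proj (f c) = g c) ∧ ∀ c, Ideal.Quotient.mk I (f c) = h c := by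
  let S : Subalgebra A (C × X.E) :=
    { carrier := {p | X.proj p.2 = g p.1 ∧ Ideal.Quotient.mkₐ A I p.2 = h p.1}
      mul_mem' := by
        rintro ⟨c, x⟩ ⟨c', x'⟩ ⟨h1, h2⟩ ⟨h3, h4⟩
        exact ⟨by simpa using congrArg₂ (· * ·) h1 h3, by simpa using congrArg₂ (· * ·) h2 h4⟩
      add_mem' := by
        rintro ⟨c, x⟩ ⟨c', x'⟩ ⟨h1, h2⟩ ⟨h3, h4⟩
        exact ⟨by simpa using congrArg₂ (· + ·) h1 h3, by simpa using congrArg₂ (· + ·) h2 h4⟩
      algebraMap_mem' := by
        intro a
        exact ⟨by simp, by simp only [Prod.algebraMap_apply, AlgHom.commutes]⟩ }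
  obtain ⟨f, hf⟩ := exists_algHom_of_graph S (fun c => by
    obtain ⟨x, hx⟩ := hgh c
    exact ⟨x, hx⟩) (by
    rintro e ⟨h1, h2⟩
    refine hI e ?_ (by simpa using h1)
    simpa [Ideal.Quotient.eq_zero_iff_mem] using h2)
  have hS : ∀ c, X.proj (f c) = g c ∧ Ideal.Quotient.mkₐ A I (f c) = h c := fun c => (hf c (f c)).2 rfl
  exact ⟨f, fun c => (hS c).1, fun c => (hS c).2⟩

end Glue

end K679.ExalKit
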