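import Groth.Agent.Deform.K679.ExalKit

/-!
Constructions of extensions: fibre products, quotients, Baer difference, push-out along a map of the kernel.
-/

set_option autoImplicit false

universe u v w w'

namespace K679.ExalKit

open Exal

section Factor

variable {A : Type u} {E : Type v} {C : Type w} {Z : Type w'} [CommRing A] [CommRing C] [CommRing E]
  [CommRing Z] [Algebra A C] [Algebra A E] [Algebra A Z]

/-- Factoring a map through a surjection. -/
theorem exists_factor (p : E →ₐ[A] C) (hp : Function.Surjective p) (T : E →ₐ[A] Z)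
    (h : ∀ x, p x = 0 → T x = 0) : ∃ s : C →ₐ[A] Z, ∀ x, s (p x) = T x := by
  obtain ⟨f, hf⟩ := exists_algHom_of_graph (p.prod T).range (fun c => by
    obtain ⟨x, rfl⟩ := hp c
    exact ⟨T x, x, rfl⟩) (by
    rintro e ⟨x, hx⟩
    have h1 : p x = 0 := congrArg Prod.fst hx
    have h2 : T x = e := congrArg Prod.snd hx
    rw [← h2, h x h1])
  exact ⟨f, fun x => ((hf (p x) (T x)).1 ⟨x, rfl⟩).symm⟩

end Factor

variable {A : Type u} {B L : Type v} [CommRing A] [CommRing B] [Algebra A B] [AddCommGroup L] [Module B L]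

section OfQuot

variable {W : Type v} [CommRing W] [Algebra A W] (q : W →ₐ[A] B) (hq : Function.Surjective q)
  (ι : L →+ W) (hmul : ∀ w z, w * ι z = ι (q w • z)) (hqι : ∀ z, q (ι z) = 0)
  (K : Ideal W) (hK0 : ∀ k ∈ K, q k = 0) (hKι : ∀ z, ι z ∈ K → z = 0)
  (hker : ∀ w, q w = 0 → ∃ z, w - ι z ∈ K)

/-- The extension `W/K` of `B` by `L`. -/
def ofQuot : Ext A B L where
  E := W ⧸ K
  proj := Ideal.Quotient.liftₐ K q hK0
  incl := (Ideal.Quotient.mk K : W →+ W ⧸ K).comp ι
  isExtension :=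
    { proj_surjective := fun b => by
        obtain ⟨w, hw⟩ := hq b
        exact ⟨Ideal.Quotient.mk K w, hw⟩
      incl_injective := by
        rw [injective_iff_map_eq_zero]
        intro z hz
        exact hKι z (Ideal.Quotient.eq_zero_iff_mem.1 hz)
      exact := fun x => by
        obtain ⟨w, rfl⟩ := Ideal.Quotient.mk_surjective x
        constructor
        · intro h
          obtain ⟨z, hz⟩ := hker w h
          exact ⟨z, ((Ideal.Quotient.mk_eq_mk_iff_sub_mem _ _).2 hz).symm⟩
        · rintro ⟨z, hz⟩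
          rw [← hz]
          exact hqι z
      mul_incl := fun x z => by
        obtain ⟨w, rfl⟩ := Ideal.Quotient.mk_surjective x
        change Ideal.Quotient.mk K (w * ι z) = Ideal.Quotient.mk K (ι (q w • z))
        rw [hmul] }

/-- The canonical map `W → W/K`. -/
def ofQuotMk : W →ₐ[A] (ofQuot q hq ι hmul hqι K hK0 hKι hker).E := Ideal.Quotient.mkₐ A K

theorem ofQuotMk_surjective : Function.Surjective (ofQuotMk q hq ι hmul hqι K hK0 hKι hker) :=
  Ideal.Quotient.mk_surjective

theorem ofQuotMk_eq_zero_iff (w : W) : ofQuotMk q hq ι hmul hqι K hK0 hKι hker w = 0 ↔ w ∈ K :=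
  Ideal.Quotient.eq_zero_iff_mem

theorem proj_ofQuotMk (w : W) :
    (ofQuot q hq ι hmul hqι K hK0 hKι hker).proj (ofQuotMk q hq ι hmul hqι K hK0 hKι hker w) = q w := rfl

theorem incl_ofQuot (z : L) :
    (ofQuot q hq ι hmul hqι K hK0 hKι hker).incl z = ofQuotMk q hq ι hmul hqι K hK0 hKι hker (ι z) := rfl

/-- Existence form of `ofQuot`. -/
theorem exists_ofQuot (q : W →ₐ[A] B) (hq : Function.Surjective q)
    (ι : L →+ W) (hmul : ∀ w z, w * ι z = ι (q w • z)) (hqι : ∀ z, q (ι z) = 0)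
    (K : Ideal W) (hK0 : ∀ k ∈ K, q k = 0) (hKι : ∀ z, ι z ∈ K → z = 0)
    (hker : ∀ w, q w = 0 → ∃ z, w - ι z ∈ K) :
    ∃ (X : Ext A B L) (m : W →ₐ[A] X.E), Function.Surjective m ∧ (∀ w, m w = 0 ↔ w ∈ K) ∧
      (∀ w, X.proj (m w) = q w) ∧ (∀ z, X.incl z = m (ι z)) :=
  ⟨ofQuot q hq ι hmul hqι K hK0 hKι hker, ofQuotMk q hq ι hmul hqι K hK0 hKι hker,
    ofQuotMk_surjective q hq ι hmul hqι K hK0 hKι hker, ofQuotMk_eq_zero_iff q hq ι hmul hqι K hK0 hKι hker,
    proj_ofQuotMk q hq ι hmul hqι K hK0 hKι hker, incl_ofQuot q hq ι hmul hqι K hK0 hKι hker⟩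

end OfQuot

section OfFiber

variable {C : Type v} {C' : Type w} [CommRing C] [CommRing C'] [Algebra A C] [Algebra A C']

/-- The extension obtained by pulling back a surjection `π : C → C'` with kernel `ι L` along `g : B → C'`. -/
theorem exists_ofFiber (π : C →ₐ[A] C') (g : B →ₐ[A] C') (ι : L →+ C) (hπ : ∀ b, ∃ c, π c = g b)
    (hι : Function.Injective ι) (hex : ∀ c, π c = 0 ↔ ∃ z, ι z = c)
    (hmul : ∀ c b z, π c = g b → c * ι z = ι (b • z)) :
    ∃ (X : Ext A B L) (f : X.E →ₐ[A] C), (∀ x, π (f x) = g (X.proj x)) ∧ (∀ z, f (X.incl z) = ι z) ∧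
      (∀ c b, π c = g b → ∃ x, f x = c ∧ X.proj x = b) ∧ (∀ x y, f x = f y → X.proj x = X.proj y → x = y) := by
  let S : Subalgebra A (C × B) := AlgHom.equalizer (π.comp (AlgHom.fst A C B)) (g.comp (AlgHom.snd A C B))
  have hS : ∀ x : C × B, x ∈ S ↔ π x.1 = g x.2 := fun x => Iff.rfl
  have hιS : ∀ z, (ι z, (0 : B)) ∈ S := fun z => by
    rw [hS, map_zero, hex]
    exact ⟨z, rfl⟩
  let X : Ext A B L :=
    { E := S
      proj := (AlgHom.snd A C B).comp S.val
      incl :=
        { toFun := fun z => ⟨(ι z, 0), hιS z⟩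
          map_zero' := by
            apply Subtype.ext
            simp
          map_add' := fun z z' => by
            apply Subtype.ext
            simp }
      isExtension :=
        { proj_surjective := fun b => by
            obtain ⟨c, hc⟩ := hπ b
            exact ⟨⟨(c, b), hc⟩, rfl⟩
          incl_injective := fun z z' h => hι (congrArg (fun e : S => e.1.1) h)
          exact := fun x => by
            obtain ⟨⟨c, b⟩, hx⟩ := x
            constructor
            · intro hb
              change b = 0 at hb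
              subst hb
              rw [hS, map_zero, hex] at hx
              obtain ⟨z, rfl⟩ := hx
              exact ⟨z, rfl⟩
            · rintro ⟨z, hz⟩
              exact (congrArg (fun e : S => e.1.2) hz).symm
          mul_incl := fun x z => by
            obtain ⟨⟨c, b⟩, hx⟩ := x
            apply Subtype.ext
            apply Prod.ext
            · exact hmul c b z hx
            · exact mul_zero _ } }
  exact ⟨X, (AlgHom.fst A C B).comp S.val, fun x => x.2, fun z => rfl, fun c b h => ⟨⟨(c, b), h⟩, rfl, rfl⟩,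
    fun x y h1 h2 => Subtype.ext (Prod.ext h1 h2)⟩

end OfFiber

section Baer

/-- The fibre product of two extensions. -/
def fiber (Y Y' : Ext A B L) : Subalgebra A (Y.E × Y'.E) :=
  AlgHom.equalizer (Y.proj.comp (AlgHom.fst A Y.E Y'.E)) (Y'.proj.comp (AlgHom.snd A Y.E Y'.E))

theorem mem_fiber (Y Y' : Ext A B L) (x : Y.E × Y'.E) : x ∈ fiber Y Y' ↔ Y.proj x.1 = Y'.proj x.2 := Iff.rfl

/-- The diagonal copy of `L` in the fibre product. -/
def diagIdeal (Y Y' : Ext A B L) : Ideal (fiber Y Y') where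
  carrier := {w | ∃ z, w.1 = (Y.incl z, Y'.incl z)}
  zero_mem' := ⟨0, Prod.ext (map_zero Y.incl).symm (map_zero Y'.incl).symm⟩
  add_mem' := by
    rintro x y ⟨z, hz⟩ ⟨z', hz'⟩
    exact ⟨z + z', by simp [hz, hz']⟩
  smul_mem' := by
    rintro ⟨⟨c1, c2⟩, hc⟩ x ⟨z, hz⟩
    refine ⟨Y.proj c1 • z, ?_⟩
    rw [smul_eq_mul, MulMemClass.coe_mul, hz]
    apply Prod.ext
    · exact mul_incl Y c1 z
    · rw [mem_fiber] at hc
      change c2 * Y'.incl z = Y'.incl (Y.proj c1 • z)
      rw [mul_incl, hc]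

/-- The Baer difference of two extensions. -/
theorem exists_baer_quot (Y Y' : Ext A B L) :
    ∃ (Z : Ext A B L) (m : fiber Y Y' →ₐ[A] Z.E), Function.Surjective m ∧ (∀ w, m w = 0 ↔ w ∈ diagIdeal Y Y') ∧
      (∀ w, Z.proj (m w) = Y.proj w.1.1) ∧
      (∀ z, Z.incl z = m ⟨(Y.incl z, 0), by rw [mem_fiber, map_zero]; exact proj_incl Y z⟩) := by
  let ι : L →+ fiber Y Y' :=
    { toFun := fun z => ⟨(Y.incl z, 0), by rw [mem_fiber, map_zero]; exact proj_incl Y z⟩
      map_zero' := by
        apply Subtype.ext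
        exact Prod.ext (map_zero Y.incl) rfl
      map_add' := fun z z' => by
        apply Subtype.ext; simp }
  refine exists_ofQuot (W := fiber Y Y') (Y.proj.comp ((AlgHom.fst A Y.E Y'.E).comp (fiber Y Y').val)) ?_
    ι ?_ ?_ (diagIdeal Y Y') ?_ ?_ ?_
  · intro b
    obtain ⟨y, hy⟩ := proj_surjective Y b
    obtain ⟨y', hy'⟩ := proj_surjective Y' b
    exact ⟨⟨(y, y'), by rw [mem_fiber]; exact hy.trans hy'.symm⟩, hy⟩
  · rintro ⟨⟨c1, c2⟩, hc⟩ z
    apply Subtype.ext
    apply Prod.ext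
    · exact mul_incl Y c1 z
    · exact mul_zero _
  · intro z
    exact proj_incl Y z
  · rintro k ⟨z, hz⟩
    change Y.proj k.1.1 = 0
    rw [hz]
    exact proj_incl Y z
  · rintro z ⟨z', hz'⟩
    have h1 : Y.incl z = Y.incl z' := congrArg Prod.fst hz'
    have h2 : (0 : Y'.E) = Y'.incl z' := congrArg Prod.snd hz'
    have h3 : z' = 0 := incl_injective Y' (by rw [← h2, map_zero])
    rw [h3] at h1
    exact incl_injective Y h1
  · rintro ⟨⟨c1, c2⟩, hc⟩ h
    change Y.proj c1 = 0 at h
    rw [mem_fiber] at hc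
    have h' : Y'.proj c2 = 0 := by rw [← hc]; exact h
    obtain ⟨z, rfl⟩ := exists_incl Y h
    obtain ⟨z', rfl⟩ := exists_incl Y' h'
    refine ⟨z - z', z', ?_⟩
    apply Prod.ext
    · change Y.incl z - Y.incl (z - z') = Y.incl z'
      rw [map_sub]; ring
    · change Y'.incl z' - 0 = Y'.incl z'
      rw [sub_zero]

/-- **Baer difference**: the pull-backs of `Y` and `Y'` along `C → B` are equivalent if and only if
`C → B` lifts to the Baer difference. -/
theorem exists_baer (Y Y' : Ext A B L) : ∃ Z : Ext A B L,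
    ∀ (C : Type v) [CommRing C] [Algebra A C] [Algebra C B] [IsScalarTower A C B] [Module C L]
      [IsScalarTower C B L],
      Nonempty ((Y.pullback C).Equiv (Y'.pullback C)) ↔
        ∃ s : C →ₐ[A] Z.E, ∀ c, Z.proj (s c) = algebraMap C B c := by
  obtain ⟨Z, m, hm, hm0, hmp, hmi⟩ := exists_baer_quot Y Y'
  refine ⟨Z, fun C _ _ _ _ _ _ => ⟨?_, ?_⟩⟩
  · rintro ⟨e⟩
    let T : (Y.pullback C).E →ₐ[A] Z.E := m.comp (AlgHom.codRestrict
      ((pullbackFst C Y).prod ((pullbackFst C Y').comp e.toAlgEquiv.toAlgHom)) (fiber Y Y') (fun q => by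
        rw [mem_fiber]
        change Y.proj (pullbackFst C Y q) = Y'.proj (pullbackFst C Y' (e.toAlgEquiv q))
        rw [proj_pullbackFst, proj_pullbackFst, e.proj_apply]))
    obtain ⟨s, hs⟩ := exists_factor (Y.pullback C).proj (proj_surjective _) T (fun q hq => by
      obtain ⟨z, rfl⟩ := exists_incl _ hq
      refine (hm0 _).2 ⟨z, Prod.ext rfl ?_⟩
      change pullbackFst C Y' (e.toAlgEquiv ((Y.pullback C).incl z)) = _
      rw [e.apply_incl]
      rfl)
    refine ⟨s, fun c => ?_⟩
    obtain ⟨q, rfl⟩ := proj_surjective (Y.pullback C) c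
    rw [hs, ← proj_pullbackFst]
    exact hmp _
  · rintro ⟨s, hs⟩
    let S : Subalgebra A ((Y.pullback C).E × Y'.E) :=
      { carrier := {p | ∃ w : fiber Y Y', w.1 = (pullbackFst C Y p.1, p.2) ∧ m w = s ((Y.pullback C).proj p.1)}
        mul_mem' := by
          rintro ⟨q, y⟩ ⟨q', y'⟩ ⟨w, hw, hw'⟩ ⟨v, hv, hv'⟩
          exact ⟨w * v, by rw [MulMemClass.coe_mul, hw, hv, Prod.mk_mul_mk, Prod.mk_mul_mk, map_mul],
            by rw [map_mul, hw', hv', Prod.mk_mul_mk, map_mul, map_mul]⟩
        add_mem' := by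
          rintro ⟨q, y⟩ ⟨q', y'⟩ ⟨w, hw, hw'⟩ ⟨v, hv, hv'⟩
          exact ⟨w + v, by rw [AddMemClass.coe_add, hw, hv, Prod.mk_add_mk, Prod.mk_add_mk, map_add],
            by rw [map_add, hw', hv', Prod.mk_add_mk, map_add, map_add]⟩
        algebraMap_mem' := by
          intro a
          refine ⟨algebraMap A _ a, ?_, ?_⟩
          · change algebraMap A (Y.E × Y'.E) a = _
            rw [Prod.algebraMap_apply, Prod.algebraMap_apply, AlgHom.commutes]
          · rw [AlgHom.commutes, Prod.algebraMap_apply, AlgHom.commutes, AlgHom.commutes] }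
    obtain ⟨f, hf⟩ := exists_algHom_of_graph S (fun q => by
      obtain ⟨w, hw⟩ := hm (s ((Y.pullback C).proj q))
      have h1 : Y.proj w.1.1 = Y.proj (pullbackFst C Y q) := by
        rw [← hmp, hw, hs, proj_pullbackFst]
      obtain ⟨z, hz⟩ := exists_incl Y (x := pullbackFst C Y q - w.1.1) (by rw [map_sub, h1, sub_self])
      have hd : (Y.incl z, Y'.incl z) ∈ fiber Y Y' := by
        rw [mem_fiber]; exact (proj_incl Y z).trans (proj_incl Y' z).symm
      refine ⟨w.1.2 + Y'.incl z, w + ⟨(Y.incl z, Y'.incl z), hd⟩, ?_, ?_⟩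
      · refine Prod.ext ?_ rfl
        change w.1.1 + Y.incl z = pullbackFst C Y q
        rw [hz]; ring
      · rw [map_add, hw, (hm0 _).2 ⟨z, rfl⟩, add_zero]) (by
      rintro e ⟨w, hw, hw'⟩
      rw [map_zero, map_zero, hm0] at hw'
      obtain ⟨z, hz⟩ := hw'
      rw [hw, map_zero] at hz
      have h1 : (0 : Y.E) = Y.incl z := congrArg Prod.fst hz
      have h2 : e = Y'.incl z := congrArg Prod.snd hz
      have h3 : z = 0 := incl_injective Y (by rw [← h1, map_zero])
      rw [h2, h3, map_zero])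
    have hfS : ∀ q, ∃ w : fiber Y Y', w.1 = (pullbackFst C Y q, f q) ∧ m w = s ((Y.pullback C).proj q) :=
      fun q => (hf q (f q)).2 rfl
    obtain ⟨e⟩ := nonempty_pullback_equiv (B₀ := C) Y' (Y.pullback C) f (fun q => by
      obtain ⟨w, hw, hw'⟩ := hfS q
      have h1 : w.1.2 = f q := congrArg Prod.snd hw
      have h2 : w.1.1 = pullbackFst C Y q := congrArg Prod.fst hw
      rw [← h1, ← proj_pullbackFst, ← h2]
      exact ((mem_fiber Y Y' w.1).1 w.2).symm) (fun z => by
      have hd : (Y.incl z, Y'.incl z) ∈ fiber Y Y' := by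
        rw [mem_fiber]; exact (proj_incl Y z).trans (proj_incl Y' z).symm
      refine ((hf _ _).1 ⟨⟨(Y.incl z, Y'.incl z), hd⟩, rfl, ?_⟩).symm
      rw [(hm0 _).2 ⟨z, rfl⟩]
      change 0 = s ((Y.pullback C).proj ((Y.pullback C).incl z))
      rw [proj_incl, map_zero])
    exact ⟨e.symm⟩

/-- The Baer difference is trivial iff the extensions are equivalent; the pull-back along the identity. -/
theorem nonempty_pullback_self_equiv (Y : Ext A B L) : Nonempty ((Y.pullback B).Equiv Y) :=
  nonempty_pullback_equiv (B₀ := B) Y Y (AlgHom.id A _) (fun _ => rfl) (fun _ => rfl)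

end Baer

section PushOut

variable {P : Type v} [CommRing P] [Algebra A P]

/-- Push-out: the extension attached to a surjection `π : P → B` and a linear map from its kernel to `L`. -/
theorem exists_ofKerHom (π : P →ₐ[A] B) (hπ : Function.Surjective π) (δ : RingHom.ker π →+ L)
    (hδ : ∀ (p : P) (j : RingHom.ker π), δ (p • j) = π p • δ j) :
    ∃ (X : Ext A B L) (u : P →ₐ[A] X.E), (∀ p, X.proj (u p) = π p) ∧ ∀ j : RingHom.ker π, u j = X.incl (δ j) := by
  obtain ⟨T, s, hs⟩ : ∃ (T : Ext A B L) (s : B →ₐ[A] T.E), ∀ b, T.proj (s b) = b :=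
    ⟨Ext.trivial A B L, trivial_isTrivial (A := A) (B := B) (L := L)⟩
  let W : Subalgebra A (T.E × P) := AlgHom.equalizer (T.proj.comp (AlgHom.fst A T.E P)) (π.comp (AlgHom.snd A T.E P))
  have hW : ∀ x : T.E × P, x ∈ W ↔ T.proj x.1 = π x.2 := fun x => Iff.rfl
  let ι : L →+ W :=
    { toFun := fun z => ⟨(T.incl z, 0), by rw [hW, map_zero]; exact proj_incl T z⟩
      map_zero' := by
        apply Subtype.ext
        exact Prod.ext (map_zero T.incl) rfl
      map_add' := fun z z' => by
        apply Subtype.ext; simp }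
  let K : Ideal W :=
    { carrier := {w | ∃ j : RingHom.ker π, w.1 = (- T.incl (δ j), (j : P))}
      zero_mem' := ⟨0, Prod.ext (by rw [map_zero, map_zero, neg_zero]; rfl) rfl⟩
      add_mem' := by
        rintro x y ⟨z, hz⟩ ⟨z', hz'⟩
        refine ⟨z + z', ?_⟩
        rw [AddMemClass.coe_add, hz, hz', Prod.mk_add_mk, map_add, map_add]
        refine Prod.ext ?_ rfl
        change -T.incl (δ z) + -T.incl (δ z') = -(T.incl (δ z) + T.incl (δ z'))
        ring
      smul_mem' := by
        rintro ⟨⟨c1, c2⟩, hc⟩ x ⟨j, hj⟩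
        refine ⟨c2 • j, ?_⟩
        rw [hW] at hc
        rw [smul_eq_mul, MulMemClass.coe_mul, hj, hδ]
        apply Prod.ext
        · change c1 * - T.incl (δ j) = - T.incl (π c2 • δ j)
          have hc' : T.proj c1 = π c2 := hc
          rw [← hc', ← mul_incl]; ring
        · rfl }
  have hK : ∀ w : W, w ∈ K ↔ ∃ j : RingHom.ker π, w.1 = (- T.incl (δ j), (j : P)) := fun w => Iff.rfl
  obtain ⟨X, m, hm, hm0, hmp, hmi⟩ := exists_ofQuot (W := W) (π.comp ((AlgHom.snd A T.E P).comp W.val)) (by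
      intro b
      obtain ⟨p, hp⟩ := hπ b
      exact ⟨⟨(s b, p), by rw [hW]; exact (hs b).trans hp.symm⟩, hp⟩) ι (by
      rintro ⟨⟨c1, c2⟩, hc⟩ z
      rw [hW] at hc
      have hc' : T.proj c1 = π c2 := hc
      apply Subtype.ext
      apply Prod.ext
      · change c1 * T.incl z = T.incl (π c2 • z)
        rw [mul_incl, hc']
      · exact mul_zero _) (by
      intro z
      exact map_zero π) K (by
      rintro k ⟨j, hj⟩
      change π k.1.2 = 0
      rw [hj]
      exact j.2) (by
      rintro z ⟨j, hj⟩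
      have h1 : T.incl z = - T.incl (δ j) := congrArg Prod.fst hj
      have h2 : (0 : P) = (j : P) := congrArg Prod.snd hj
      have h3 : j = 0 := Subtype.ext h2.symm
      rw [h3, map_zero, map_zero, neg_zero] at h1
      exact incl_injective T (by rw [h1, map_zero])) (by
      rintro ⟨⟨c1, c2⟩, hc⟩ h
      change π c2 = 0 at h
      rw [hW] at hc
      have hc' : T.proj c1 = π c2 := hc
      rw [h] at hc'
      obtain ⟨z, hz⟩ := exists_incl T hc'
      refine ⟨z + δ ⟨c2, h⟩, ⟨c2, h⟩, ?_⟩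
      apply Prod.ext
      · change c1 - T.incl (z + δ ⟨c2, h⟩) = - T.incl (δ ⟨c2, h⟩)
        rw [map_add, hz]; ring
      · change c2 - 0 = c2
        rw [sub_zero])
  refine ⟨X, m.comp (AlgHom.codRestrict ((s.comp π).prod (AlgHom.id A P)) W (fun p => by
    rw [hW]; exact hs _)), fun p => hmp _, fun j => ?_⟩
  rw [hmi]
  change m ⟨(s (π j), (j : P)), _⟩ = _
  rw [← sub_eq_zero, ← map_sub, hm0, hK]
  refine ⟨j, Prod.ext ?_ ?_⟩
  · change s (π j) - T.incl (δ j) = _
    have : π j = 0 := j.2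
    rw [this, map_zero, zero_sub]
  · change (j : P) - 0 = j
    rw [sub_zero]

end PushOut

end K679.ExalKit
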