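import Groth.Agent.Deform.K679.ExalKit2
import Groth.Agent.Deform.K679.ExalLocal
import Groth.Agent.Ega41.PowEval
import Groth.Agent.Ega41.MvPS

/-!
Extensions of local rings by simple modules and power series rings: lifting, classification, uniform Artin-Rees.
-/

set_option autoImplicit false

universe u v w

namespace K679.ExalPow

open Exal IsLocalRing K679.ExalKit

section Lift

variable {Λ : Type u} {B L : Type v} [CommRing Λ] [CommRing B] [Algebra Λ B] [AddCommGroup L] [Module B L]
  [IsLocalRing B] [IsNoetherianRing B] [IsSimpleModule B L]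

/-- Maps from power series rings lift to extensions of local Noetherian rings by simple modules. -/
theorem exists_lift_powerSeries {σ : Type w} [Finite σ] (X : Ext Λ B L) (g : MvPowerSeries σ Λ →ₐ[Λ] B)
    (hg : ∀ i, g (MvPowerSeries.X i) ∈ maximalIdeal B) :
    ∃ u : MvPowerSeries σ Λ →ₐ[Λ] X.E, ∀ p, X.proj (u p) = g p := by
  have hloc := isLocalRing_E X
  obtain ⟨n, hn⟩ := exists_pow_inf_eq_bot X
  choose x hx using fun i => proj_surjective X (g (MvPowerSeries.X i))
  have hxm : ∀ i, x i ∈ maximalIdeal X.E := fun i => by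
    rw [mem_maximalIdeal_iff, hx]; exact hg i
  obtain ⟨f, hf, -⟩ := exists_lift_of_inf_eq_bot X _ hn g
    (Groth.Agent.Ega41.PowEval.evalLevel (maximalIdeal X.E) x hxm n) (by
      intro p
      have h1 := Groth.Agent.Ega41.MvPS.sub_truncTotal_mem n p
      have h2 : g (p - ((MvPowerSeries.truncTotal n p : MvPolynomial σ Λ) : MvPowerSeries σ Λ)) ∈
          maximalIdeal B ^ n := by
        have h3 : (Groth.Agent.Ega41.MvPS.varIdeal σ Λ ^ n).map g ≤ maximalIdeal B ^ n := by
          rw [Ideal.map_pow]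
          refine Ideal.pow_right_mono ?_ n
          rw [Ideal.map_span, Ideal.span_le]
          rintro _ ⟨_, ⟨i, rfl⟩, rfl⟩
          exact hg i
        exact h3 (Ideal.mem_map_of_mem _ h1)
      obtain ⟨w, hw, hw'⟩ := exists_mem_pow X n h2
      have h4 : ∀ q : MvPolynomial σ Λ, g (q : MvPowerSeries σ Λ) = X.proj (MvPolynomial.aeval x q) := by
        intro q
        have : (g.comp (MvPolynomial.coeToMvPowerSeries.algHom (R := Λ) (σ := σ) Λ)) =
            X.proj.comp (MvPolynomial.aeval x) := by
          ext i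
          simp [hx]
        exact DFunLike.congr_fun this q
      refine ⟨MvPolynomial.aeval x (MvPowerSeries.truncTotal n p) + w, ?_, ?_⟩
      · rw [map_add, hw', ← h4, map_sub]; ring
      · rw [map_add, Ideal.Quotient.eq_zero_iff_mem.2 hw, add_zero]
        rfl)
  exact ⟨f, hf⟩

end Lift

section Classes

variable {Λ : Type u} {B L : Type v} {P : Type w} [CommRing Λ] [CommRing B] [Algebra Λ B] [AddCommGroup L]
  [Module B L] [CommRing P] [Algebra Λ P]

/-- Lifts of `P → B` with the same restriction to the kernel give equivalent extensions. -/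
theorem nonempty_equiv_of_lifts (X X' : Ext Λ B L) (π : P →ₐ[Λ] B) (hπ : Function.Surjective π)
    (u : P →ₐ[Λ] X.E) (u' : P →ₐ[Λ] X'.E) (hu : ∀ p, X.proj (u p) = π p) (hu' : ∀ p, X'.proj (u' p) = π p)
    (h : ∀ j, π j = 0 → ∃ z : L, X.incl z = u j ∧ X'.incl z = u' j) : Nonempty (X.Equiv X') := by
  let S : Subalgebra Λ (X.E × X'.E) :=
    { carrier := {p | ∃ (b : P) (z : L), p = (u b + X.incl z, u' b + X'.incl z)}
      mul_mem' := by
        rintro _ _ ⟨b, z, rfl⟩ ⟨b', z', rfl⟩
        refine ⟨b * b', π b • z' + π b' • z, Prod.ext ?_ ?_⟩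
        · change (u b + X.incl z) * (u b' + X.incl z') = u (b * b') + X.incl (π b • z' + π b' • z)
          have h1 := mul_incl X (u b) z'
          have h2 := mul_incl X (u b') z
          rw [hu] at h1 h2
          rw [map_mul, map_add]
          linear_combination h1 + h2 + incl_mul_incl X z z'
        · change (u' b + X'.incl z) * (u' b' + X'.incl z') = u' (b * b') + X'.incl (π b • z' + π b' • z)
          have h1 := mul_incl X' (u' b) z'
          have h2 := mul_incl X' (u' b') z
          rw [hu'] at h1 h2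
          rw [map_mul, map_add]
          linear_combination h1 + h2 + incl_mul_incl X' z z'
      add_mem' := by
        rintro _ _ ⟨b, z, rfl⟩ ⟨b', z', rfl⟩
        refine ⟨b + b', z + z', Prod.ext ?_ ?_⟩
        · change (u b + X.incl z) + (u b' + X.incl z') = u (b + b') + X.incl (z + z')
          rw [map_add, map_add]; ring
        · change (u' b + X'.incl z) + (u' b' + X'.incl z') = u' (b + b') + X'.incl (z + z')
          rw [map_add, map_add]; ring
      algebraMap_mem' := by
        intro a
        refine ⟨algebraMap Λ P a, 0, Prod.ext ?_ ?_⟩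
        · change algebraMap Λ X.E a = u (algebraMap Λ P a) + X.incl 0
          rw [map_zero, add_zero, AlgHom.commutes]
        · change algebraMap Λ X'.E a = u' (algebraMap Λ P a) + X'.incl 0
          rw [map_zero, add_zero, AlgHom.commutes] }
  obtain ⟨f, hf⟩ := exists_algHom_of_graph S (fun x => by
    obtain ⟨p, hp⟩ := hπ (X.proj x)
    obtain ⟨z, hz⟩ := exists_incl X (x := x - u p) (by rw [map_sub, hu, hp, sub_self])
    exact ⟨u' p + X'.incl z, p, z, Prod.ext (by rw [hz]; ring) rfl⟩) (by
    rintro e ⟨b, z, hbz⟩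
    have h1 : (0 : X.E) = u b + X.incl z := congrArg Prod.fst hbz
    have h2 : e = u' b + X'.incl z := congrArg Prod.snd hbz
    have h3 : π b = 0 := by
      have := congrArg X.proj h1
      rw [map_zero, map_add, hu, proj_incl, add_zero] at this
      exact this.symm
    obtain ⟨z', hz', hz''⟩ := h b h3
    rw [← hz', ← map_add] at h1
    have h4 : z' + z = 0 := incl_injective X (by rw [← h1, map_zero])
    rw [h2, ← hz'', ← map_add, h4, map_zero])
  refine ⟨equivOfHom f (fun x => ?_) (fun z => ?_)⟩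
  · obtain ⟨b, z, hbz⟩ := (hf x (f x)).2 rfl
    have h1 : x = u b + X.incl z := congrArg Prod.fst hbz
    have h2 : f x = u' b + X'.incl z := congrArg Prod.snd hbz
    rw [h2, h1, map_add, map_add, hu, hu', proj_incl, proj_incl]
  · refine ((hf _ _).1 ⟨0, z, Prod.ext ?_ ?_⟩).symm
    · simp
    · simp

/-- Two lifts of `π : P → B` to the same extension agree on the square of an ideal killing `L`. -/
theorem eq_of_mem_sq (X : Ext Λ B L) (π : P →ₐ[Λ] B) (u u' : P →ₐ[Λ] X.E) (hu : ∀ p, X.proj (u p) = π p)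
    (hu' : ∀ p, X.proj (u' p) = π p) (I : Ideal P) (hI : ∀ a ∈ I, ∀ z : L, π a • z = 0) (j : P)
    (hj : j ∈ I ^ 2) : u j = u' j := by
  rw [pow_two] at hj
  refine Submodule.mul_induction_on hj ?_ ?_
  · intro a ha b hb
    obtain ⟨z, hz⟩ := exists_incl X (x := u' a - u a) (by rw [map_sub, hu, hu', sub_self])
    obtain ⟨w, hw⟩ := exists_incl X (x := u' b - u b) (by rw [map_sub, hu, hu', sub_self])
    have h1 := mul_incl X (u a) w
    have h2 := mul_incl X (u b) z
    rw [hu, hI a ha, map_zero] at h1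
    rw [hu, hI b hb, map_zero] at h2
    have h3 := incl_mul_incl X z w
    have ea : u' a = u a + X.incl z := by rw [hz]; ring
    have eb : u' b = u b + X.incl w := by rw [hw]; ring
    rw [map_mul, map_mul, ea, eb]
    linear_combination -h1 - h2 - h3
  · intro x y hx hy
    rw [map_add, map_add, hx, hy]

end Classes

section Uniform

variable {Λ : Type u} {B : Type v} [CommRing Λ] [IsNoetherianRing Λ] [CommRing B] [Algebra Λ B]
  [IsLocalRing B] [IsNoetherianRing B]

/-- Uniform Artin-Rees bound for all extensions of `B` by simple modules. -/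
theorem exists_uniform {σ : Type w} [Finite σ] (g : MvPowerSeries σ Λ →ₐ[Λ] B)
    (hg : ∀ i, g (MvPowerSeries.X i) ∈ maximalIdeal B) (hgs : Function.Surjective g) :
    ∃ n : ℕ, ∀ (L : Type v) [AddCommGroup L] [Module B L] [IsSimpleModule B L] (X : Ext Λ B L) [IsLocalRing X.E],
      ∀ x ∈ maximalIdeal X.E ^ (n + 1), X.proj x = 0 → x = 0 := by
  have hN : IsNoetherianRing (MvPowerSeries σ Λ) := inferInstance
  set Q : Ideal (MvPowerSeries σ Λ) := (maximalIdeal B).comap g with hQ
  set J : Ideal (MvPowerSeries σ Λ) := RingHom.ker g with hJ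
  obtain ⟨c, hc⟩ := Ideal.exists_pow_inf_eq_pow_smul Q J
  refine ⟨c + 1, fun L _ _ _ X _ => ?_⟩
  obtain ⟨u, hu⟩ := exists_lift_powerSeries X g hg
  have huQ : ∀ q ∈ Q, u q ∈ maximalIdeal X.E := by
    intro q hq
    rw [mem_maximalIdeal_iff, hu]
    exact hq
  have hm : ∀ x ∈ maximalIdeal X.E, ∃ q ∈ Q, ∃ z, x = u q + X.incl z := by
    intro x hx
    obtain ⟨q, hq⟩ := hgs (X.proj x)
    obtain ⟨z, hz⟩ := exists_incl X (x := x - u q) (by rw [map_sub, hu, hq, sub_self])
    refine ⟨q, ?_, z, by rw [hz]; ring⟩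
    change g q ∈ maximalIdeal B
    rw [hq]
    exact (mem_maximalIdeal_iff X x).1 hx
  have key : ∀ m : ℕ, ∀ x ∈ maximalIdeal X.E ^ (m + 2), ∃ q ∈ Q ^ (m + 2), x = u q := by
    intro m
    induction m with
    | zero =>
      intro x hx
      rw [zero_add, pow_two] at hx ⊢
      refine Submodule.mul_induction_on hx ?_ ?_
      · intro a ha b hb
        obtain ⟨q, hq, z, rfl⟩ := hm a ha
        obtain ⟨q', hq', z', rfl⟩ := hm b hb
        refine ⟨q * q', Ideal.mul_mem_mul hq hq', ?_⟩
        have h1 := mul_incl_eq_zero X (huQ q hq) z'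
        have h2 := mul_incl_eq_zero X (huQ q' hq') z
        have h3 := incl_mul_incl X z z'
        rw [map_mul]
        linear_combination h1 + h2 + h3
      · rintro x y ⟨q, hq, rfl⟩ ⟨q', hq', rfl⟩
        exact ⟨q + q', add_mem hq hq', by rw [map_add]⟩
    | succ m ih =>
      intro x hx
      rw [show m + 1 + 2 = (m + 2) + 1 by ring, pow_succ'] at hx ⊢
      refine Submodule.mul_induction_on hx ?_ ?_
      · intro a ha b hb
        obtain ⟨q, hq, z, rfl⟩ := hm a ha
        obtain ⟨q', hq', rfl⟩ := ih b hb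
        refine ⟨q * q', Ideal.mul_mem_mul hq hq', ?_⟩
        have h2 := mul_incl_eq_zero X (huQ q' (Ideal.pow_le_self (by omega) hq')) z
        rw [map_mul]
        linear_combination h2
      · rintro x y ⟨q, hq, rfl⟩ ⟨q', hq', rfl⟩
        exact ⟨q + q', add_mem hq hq', by rw [map_add]⟩
  intro x hx hpx
  rw [show c + 1 + 1 = c + 2 by ring] at hx
  obtain ⟨q, hq, rfl⟩ := key c x hx
  rw [hu] at hpx
  have h1 : q ∈ Q ^ (c + 2) • (⊤ : Submodule (MvPowerSeries σ Λ) (MvPowerSeries σ Λ)) ⊓ J := by
    refine ⟨?_, hpx⟩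
    rw [smul_eq_mul, Ideal.mul_top]
    exact hq
  rw [hc (c + 2) (by omega)] at h1
  have h2 : Q ^ (c + 2 - c) • (Q ^ c • (⊤ : Submodule (MvPowerSeries σ Λ) (MvPowerSeries σ Λ)) ⊓ J) ≤ Q * J := by
    rw [smul_eq_mul]
    refine Ideal.mul_mono ?_ inf_le_right
    exact Ideal.pow_le_self (by omega)
  have h3 := h2 h1
  refine Submodule.mul_induction_on h3 ?_ ?_
  · intro a ha b hb
    obtain ⟨z, hz⟩ := exists_incl X (x := u b) (by rw [hu]; exact hb)
    rw [map_mul, ← hz]
    exact mul_incl_eq_zero X (huQ a ha) z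
  · intro x y hx hy
    rw [map_add, hx, hy, add_zero]

end Uniform

end K679.ExalPow
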