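import Groth.Agent.Fga.Torsor
import Groth.Agent.LocCohZ.K288.Sec
import Mathlib.Topology.Sheaves.SheafCondition.PairwiseIntersections

/-!
# Gerbes with abelian band on a space, elementwise, and `H² = 0`

`Grb X G`: objects `i : ι` living over opens `W i`, local isomorphisms `Arr i j U` (empty unless
`U ≤ W i ⊓ W j`), with differences in the abelian sheaf `G`.

* `Grb.exists_rig`: if `H²(X, G) = 0` there are "rigidified objects" `Rg i U` which exist locally and are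
  canonically (hence compatibly) isomorphic to each other.
* `Grb.exists_global`: if `H¹(X, G) = 0`, and `W i = W j = ⊤` then `Arr i j ⊤` is non-empty.
-/

set_option autoImplicit false

universe u v w

open CategoryTheory CategoryTheory.Limits Opposite TopologicalSpace

namespace K679

open Groth.Agent.Fga.Torsor K288.Sec

section potential

variable {C : Type u} [Category.{v} C]

/-- A general existence lemma for potentials. -/
theorem exists_potential_of_injective {A R : Cᵒᵖ ⥤ Type w} {G I : Cᵒᵖ ⥤ AddCommGrpCat.{w}}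
    [Injective I] (κ : G ⟶ I) (bd : R ⋙ AddCommGrpCat.free ⟶ A ⋙ AddCommGrpCat.free)
    (dl : R ⋙ AddCommGrpCat.free ⟶ G)
    (h : ∀ U, ∃ P : (A ⋙ AddCommGrpCat.free).obj U ⟶ G.obj U, bd.app U ≫ P = dl.app U) :
    ∃ P : A ⋙ AddCommGrpCat.free ⟶ I, bd ≫ P = dl ≫ κ := by
  let S : ShortComplex (Cᵒᵖ ⥤ AddCommGrpCat.{w}) :=
    ShortComplex.mk (kernel.ι bd) bd (kernel.condition _)
  have hS : S.Exact := ShortComplex.exact_of_f_is_kernel _ (kernelIsKernel _)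
  have h0 : kernel.ι bd ≫ dl ≫ κ = 0 := by
    have h1 : kernel.ι bd ≫ dl = 0 := by
      ext U : 2
      obtain ⟨P, hP⟩ := h U
      rw [NatTrans.comp_app, ← hP, ← Category.assoc, ← NatTrans.comp_app, kernel.condition]
      simp
    rw [← Category.assoc, h1, zero_comp]
  exact ⟨hS.descToInjective (dl ≫ κ) h0, hS.comp_descToInjective _ _⟩

end potential

variable {X : TopCat.{u}}

/-- Elementwise gerbes with abelian band `G`. -/
structure Grb (G : CohTop.Ab X) where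
  ι : Type u
  W : ι → Opens X
  Arr : ι → ι → Opens X → Type u
  le_l : ∀ {i j : ι} {U : Opens X}, Arr i j U → U ≤ W i
  le_r : ∀ {i j : ι} {U : Opens X}, Arr i j U → U ≤ W j
  res : ∀ {i j : ι} {U V : Opens X}, V ≤ U → Arr i j U → Arr i j V
  res_self : ∀ {i j : ι} {U : Opens X} (h : U ≤ U) (f : Arr i j U), res h f = f
  res_res : ∀ {i j : ι} {U V T : Opens X} (h : V ≤ U) (h' : T ≤ V) (f : Arr i j U),
    res h' (res h f) = res (h'.trans h) f
  one : ∀ (i : ι) {U : Opens X}, U ≤ W i → Arr i i U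
  res_one : ∀ (i : ι) {U V : Opens X} (h : V ≤ U) (hU : U ≤ W i),
    res h (one i hU) = one i (h.trans hU)
  comp : ∀ {i j k : ι} {U : Opens X}, Arr i j U → Arr j k U → Arr i k U
  comp_one : ∀ {i j : ι} {U : Opens X} (f : Arr i j U), comp f (one j (le_r f)) = f
  assoc : ∀ {i j k l : ι} {U : Opens X} (f : Arr i j U) (g : Arr j k U) (h : Arr k l U),
    comp (comp f g) h = comp f (comp g h)
  res_comp : ∀ {i j k : ι} {U V : Opens X} (h : V ≤ U) (f : Arr i j U) (g : Arr j k U),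
    res h (comp f g) = comp (res h f) (res h g)
  inv : ∀ {i j : ι} {U : Opens X}, Arr i j U → Nonempty (Arr j i U)
  d : ∀ {i j : ι} {U : Opens X}, Arr i j U → Arr i j U → G.obj.obj (op U)
  d_add : ∀ {i j : ι} {U : Opens X} (f g h : Arr i j U), d f g + d g h = d f h
  res_d : ∀ {i j : ι} {U V : Opens X} (h : V ≤ U) (f g : Arr i j U),
    rs G h (d f g) = d (res h f) (res h g)
  d_comp : ∀ {i j k : ι} {U : Opens X} (f f' : Arr i j U) (g g' : Arr j k U),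
    d (comp f g) (comp f' g') = d f f' + d g g'
  eq_of_d : ∀ {i j : ι} {U : Opens X} (f g : Arr i j U), d f g = 0 → f = g
  act : ∀ {i j : ι} {U : Opens X} (f : Arr i j U) (x : G.obj.obj (op U)), ∃ f', d f' f = x
  glue : ∀ {i j : ι} {U : Opens X} {κ : Type u} (V : κ → Opens X) (hV : ∀ a, V a ≤ U)
    (_ : U ≤ iSup V) (f : ∀ a, Arr i j (V a))
    (_ : ∀ a b, res (inf_le_left : V a ⊓ V b ≤ V a) (f a) =
      res (inf_le_right : V a ⊓ V b ≤ V b) (f b)), ∃ g : Arr i j U, ∀ a, res (hV a) g = f a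
  loc : ∀ (i j : ι) (x : X), x ∈ W i → x ∈ W j → ∃ U : Opens X, x ∈ U ∧ Nonempty (Arr i j U)

namespace Grb

variable {G : CohTop.Ab X} (𝒢 : Grb G)

theorem d_self {i j : 𝒢.ι} {U : Opens X} (f : 𝒢.Arr i j U) : 𝒢.d f f = 0 := by
  have := 𝒢.d_add f f f
  simpa using this

theorem d_symm {i j : 𝒢.ι} {U : Opens X} (f g : 𝒢.Arr i j U) : 𝒢.d g f = - 𝒢.d f g := by
  rw [eq_neg_iff_add_eq_zero, 𝒢.d_add, 𝒢.d_self]

theorem comp_one' {i j : 𝒢.ι} {U : Opens X} (f : 𝒢.Arr i j U) (h : U ≤ 𝒢.W j) :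
    𝒢.comp f (𝒢.one j h) = f := 𝒢.comp_one f

/-- Local arrows are enough to glue an arrow characterised by a locally unique property. -/
theorem exists_of_locally {i j : 𝒢.ι} {U : Opens X} (P : ∀ V : Opens X, 𝒢.Arr i j V → Prop)
    (hres : ∀ {V V' : Opens X} (h : V' ≤ V) (f : 𝒢.Arr i j V), P V f → P V' (𝒢.res h f))
    (huniq : ∀ {V : Opens X} (f g : 𝒢.Arr i j V), V ≤ U → P V f → P V g → f = g)
    (hloc : ∀ x ∈ U, ∃ V : Opens X, x ∈ V ∧ V ≤ U ∧ ∃ f : 𝒢.Arr i j V, P V f) :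
    ∃ g : 𝒢.Arr i j U, ∀ x ∈ U, ∃ (V : Opens X) (h : V ≤ U), x ∈ V ∧ P V (𝒢.res h g) := by
  choose V hxV hVU f hf using fun x : U => hloc x.1 x.2
  obtain ⟨g, hg⟩ := 𝒢.glue (κ := U) V hVU (fun x hx => Opens.mem_iSup.2 ⟨⟨x, hx⟩, hxV ⟨x, hx⟩⟩) f
    (fun a b => huniq _ _ (inf_le_left.trans (hVU a)) (hres _ _ (hf a)) (hres _ _ (hf b)))
  refine ⟨g, fun x hx => ⟨V ⟨x, hx⟩, hVU _, hxV _, ?_⟩⟩
  rw [hg ⟨x, hx⟩]
  exact hf _

/-! ### The potential -/

/-- All arrows over `U`. -/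
def AllArr (U : Opens X) : Type u := Σ i j, 𝒢.Arr i j U

/-- Restriction of arrows. -/
def resArr {U V : Opens X} (h : V ≤ U) (f : 𝒢.AllArr U) : 𝒢.AllArr V := ⟨f.1, f.2.1, 𝒢.res h f.2.2⟩

/-- The presheaf of all arrows. -/
def arrows : (Opens X)ᵒᵖ ⥤ Type u where
  obj U := 𝒢.AllArr U.unop
  map {U V} h := TypeCat.ofHom fun f => 𝒢.resArr h.unop.le f
  map_id U := by
    refine ConcreteCategory.hom_ext _ _ fun f => ?_
    change (⟨f.1, f.2.1, 𝒢.res _ f.2.2⟩ : Σ i j, 𝒢.Arr i j U.unop) = f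
    rw [𝒢.res_self]
    rfl
  map_comp {U V T} h h' := by
    refine ConcreteCategory.hom_ext _ _ fun f => ?_
    change (⟨f.1, f.2.1, 𝒢.res _ f.2.2⟩ : Σ i j, 𝒢.Arr i j T.unop) =
      ⟨f.1, f.2.1, 𝒢.res _ (𝒢.res _ f.2.2)⟩
    rw [𝒢.res_res]

/-- Triangles over `U`. -/
structure Tri (U : Opens X) where
  i : 𝒢.ι
  j : 𝒢.ι
  k : 𝒢.ι
  f : 𝒢.Arr i j U
  g : 𝒢.Arr j k U
  h : 𝒢.Arr i k U

/-- Restriction of triangles. -/
def resTri {U V : Opens X} (h : V ≤ U) (t : 𝒢.Tri U) : 𝒢.Tri V :=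
  ⟨t.i, t.j, t.k, 𝒢.res h t.f, 𝒢.res h t.g, 𝒢.res h t.h⟩

/-- The presheaf of triangles. -/
def tris : (Opens X)ᵒᵖ ⥤ Type u where
  obj U := 𝒢.Tri U.unop
  map {U V} e := TypeCat.ofHom fun t => 𝒢.resTri e.unop.le t
  map_id U := by
    refine ConcreteCategory.hom_ext _ _ fun t => ?_
    change (⟨t.i, t.j, t.k, 𝒢.res _ t.f, 𝒢.res _ t.g, 𝒢.res _ t.h⟩ : 𝒢.Tri U.unop) = t
    rw [𝒢.res_self, 𝒢.res_self, 𝒢.res_self]
  map_comp {U V T} e e' := by
    refine ConcreteCategory.hom_ext _ _ fun t => ?_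
    change (⟨t.i, t.j, t.k, 𝒢.res _ t.f, 𝒢.res _ t.g, 𝒢.res _ t.h⟩ : 𝒢.Tri T.unop) =
      ⟨t.i, t.j, t.k, 𝒢.res _ (𝒢.res _ t.f), 𝒢.res _ (𝒢.res _ t.g), 𝒢.res _ (𝒢.res _ t.h)⟩
    rw [𝒢.res_res, 𝒢.res_res, 𝒢.res_res]

/-- An arrow as an element of `arrows`. -/
def mkArr {i j : 𝒢.ι} {U : Opens X} (f : 𝒢.Arr i j U) : 𝒢.AllArr U := ⟨i, j, f⟩

/-- The boundary of a triangle. -/
noncomputable def bd : 𝒢.tris ⋙ AddCommGrpCat.free ⟶ 𝒢.arrows ⋙ AddCommGrpCat.free where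
  app U := AddCommGrpCat.ofHom (FreeAbelianGroup.lift fun t : 𝒢.Tri U.unop =>
    FreeAbelianGroup.of (𝒢.mkArr t.f) + FreeAbelianGroup.of (𝒢.mkArr t.g) -
      FreeAbelianGroup.of (𝒢.mkArr t.h))
  naturality U V e := by
    apply AddCommGrpCat.hom_ext
    apply FreeAbelianGroup.lift_ext
    intro (t : 𝒢.Tri U.unop)
    change FreeAbelianGroup.lift (fun t : 𝒢.Tri V.unop =>
        FreeAbelianGroup.of (𝒢.mkArr t.f) + FreeAbelianGroup.of (𝒢.mkArr t.g) -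
          FreeAbelianGroup.of (𝒢.mkArr t.h))
      (FreeAbelianGroup.map (𝒢.resTri e.unop.le) (FreeAbelianGroup.of t)) =
      FreeAbelianGroup.map (𝒢.resArr e.unop.le) (FreeAbelianGroup.lift (fun t : 𝒢.Tri U.unop =>
        FreeAbelianGroup.of (𝒢.mkArr t.f) + FreeAbelianGroup.of (𝒢.mkArr t.g) -
          FreeAbelianGroup.of (𝒢.mkArr t.h)) (FreeAbelianGroup.of t))
    rw [FreeAbelianGroup.map_of_apply, FreeAbelianGroup.lift_apply_of,
      FreeAbelianGroup.lift_apply_of, map_sub, map_add, FreeAbelianGroup.map_of_apply,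
      FreeAbelianGroup.map_of_apply, FreeAbelianGroup.map_of_apply]
    rfl

/-- The defect of a triangle. -/
noncomputable def dl : 𝒢.tris ⋙ AddCommGrpCat.free ⟶ G.obj where
  app U := AddCommGrpCat.ofHom (FreeAbelianGroup.lift fun t : 𝒢.Tri U.unop =>
    𝒢.d (𝒢.comp t.f t.g) t.h)
  naturality U V e := by
    apply AddCommGrpCat.hom_ext
    apply FreeAbelianGroup.lift_ext
    intro (t : 𝒢.Tri U.unop)
    change FreeAbelianGroup.lift (fun t : 𝒢.Tri V.unop => 𝒢.d (𝒢.comp t.f t.g) t.h)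
      (FreeAbelianGroup.map (𝒢.resTri e.unop.le) (FreeAbelianGroup.of t)) =
      G.obj.map e (FreeAbelianGroup.lift (fun t : 𝒢.Tri U.unop => 𝒢.d (𝒢.comp t.f t.g) t.h)
        (FreeAbelianGroup.of t))
    rw [FreeAbelianGroup.map_of_apply, FreeAbelianGroup.lift_apply_of,
      FreeAbelianGroup.lift_apply_of]
    have h1 := 𝒢.res_d e.unop.le (𝒢.comp t.f t.g) t.h
    rw [𝒢.res_comp] at h1
    exact h1.symm

section pointwise

variable {U : Opens X}

/-- Framed difference. -/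
def fd {i j : 𝒢.ι} (f : 𝒢.Arr i j U) (p : Σ r, 𝒢.Arr r i U) (q : Σ r, 𝒢.Arr r j U)
    (h : q.1 = p.1) : G.obj.obj (op U) := 𝒢.d (𝒢.comp p.2 f) (h ▸ q.2)

theorem fd_tri {i j k : 𝒢.ι} (f : 𝒢.Arr i j U) (g : 𝒢.Arr j k U) (h : 𝒢.Arr i k U)
    (p : Σ r, 𝒢.Arr r i U) (q : Σ r, 𝒢.Arr r j U) (s : Σ r, 𝒢.Arr r k U)
    (h1 : q.1 = p.1) (h2 : s.1 = q.1) (h3 : s.1 = p.1) :
    𝒢.fd f p q h1 + 𝒢.fd g q s h2 - 𝒢.fd h p s h3 = 𝒢.d (𝒢.comp f g) h := by
  obtain ⟨r, a⟩ := p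
  obtain ⟨r', b⟩ := q
  obtain ⟨r'', c⟩ := s
  dsimp only at h1 h2 h3
  subst h1
  subst h2
  unfold fd
  dsimp only
  have e1 : 𝒢.d (𝒢.comp a f) b = 𝒢.d (𝒢.comp a (𝒢.comp f g)) (𝒢.comp b g) := by
    rw [← 𝒢.assoc, 𝒢.d_comp, 𝒢.d_self g, add_zero]
  have e2 : 𝒢.d (𝒢.comp a (𝒢.comp f g)) (𝒢.comp a h) = 𝒢.d (𝒢.comp f g) h := by
    rw [𝒢.d_comp, 𝒢.d_self a, zero_add]
  rw [e1, 𝒢.d_add, sub_eq_iff_eq_add, ← e2, 𝒢.d_add]

theorem exists_pointwise (U : (Opens X)ᵒᵖ) :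
    ∃ P : (𝒢.arrows ⋙ AddCommGrpCat.free).obj U ⟶ G.obj.obj U, 𝒢.bd.app U ≫ P = 𝒢.dl.app U := by
  let Ob : Type u := {i : 𝒢.ι // Nonempty (𝒢.Arr i i U.unop)}
  let st : Setoid Ob :=
    { r := fun i j => Nonempty (𝒢.Arr i.1 j.1 U.unop)
      iseqv :=
        { refl := fun i => i.2
          symm := fun ⟨f⟩ => 𝒢.inv f
          trans := fun ⟨f⟩ ⟨g⟩ => ⟨𝒢.comp f g⟩ } }
  let rep : Ob → Ob := fun i => (Quotient.mk st i).out
  have hrep : ∀ i : Ob, Nonempty (𝒢.Arr (rep i).1 i.1 U.unop) := fun i => Quotient.mk_out (s := st) i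
  let fr : ∀ i : Ob, Σ r, 𝒢.Arr r i.1 U.unop := fun i => ⟨(rep i).1, (hrep i).some⟩
  have hl : ∀ {i j : 𝒢.ι}, 𝒢.Arr i j U.unop → Nonempty (𝒢.Arr i i U.unop) := fun f =>
    ⟨𝒢.comp f (𝒢.inv f).some⟩
  have hr : ∀ {i j : 𝒢.ι}, 𝒢.Arr i j U.unop → Nonempty (𝒢.Arr j j U.unop) := fun f =>
    ⟨𝒢.comp (𝒢.inv f).some f⟩
  have hfr : ∀ {i j : 𝒢.ι} (f : 𝒢.Arr i j U.unop), (fr ⟨j, hr f⟩).1 = (fr ⟨i, hl f⟩).1 := by
    intro i j f
    have : Quotient.mk st ⟨j, hr f⟩ = Quotient.mk st ⟨i, hl f⟩ := Quotient.sound (𝒢.inv f)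
    change ((Quotient.mk st ⟨j, hr f⟩).out).1 = ((Quotient.mk st ⟨i, hl f⟩).out).1
    rw [this]
  refine ⟨AddCommGrpCat.ofHom (FreeAbelianGroup.lift fun f : 𝒢.AllArr U.unop =>
    𝒢.fd f.2.2 (fr ⟨_, hl f.2.2⟩) (fr ⟨_, hr f.2.2⟩) (hfr f.2.2)), ?_⟩
  apply AddCommGrpCat.hom_ext
  apply FreeAbelianGroup.lift_ext
  intro (t : 𝒢.Tri U.unop)
  change FreeAbelianGroup.lift (fun f : 𝒢.AllArr U.unop =>
      𝒢.fd f.2.2 (fr ⟨_, hl f.2.2⟩) (fr ⟨_, hr f.2.2⟩) (hfr f.2.2))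
    (FreeAbelianGroup.lift (fun t : 𝒢.Tri U.unop =>
      FreeAbelianGroup.of (𝒢.mkArr t.f) + FreeAbelianGroup.of (𝒢.mkArr t.g) -
        FreeAbelianGroup.of (𝒢.mkArr t.h)) (FreeAbelianGroup.of t)) =
    FreeAbelianGroup.lift (fun t : 𝒢.Tri U.unop => 𝒢.d (𝒢.comp t.f t.g) t.h) (FreeAbelianGroup.of t)
  rw [FreeAbelianGroup.lift_apply_of, FreeAbelianGroup.lift_apply_of, map_sub, map_add,
    FreeAbelianGroup.lift_apply_of, FreeAbelianGroup.lift_apply_of, FreeAbelianGroup.lift_apply_of]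
  exact 𝒢.fd_tri t.f t.g t.h (fr ⟨t.i, _⟩) (fr ⟨t.j, _⟩) (fr ⟨t.k, _⟩) _ _ _

end pointwise

/-- The potential with values in an injective sheaf. -/
theorem exists_pot (I : CohTop.Ab X) [Injective I] (κ : G ⟶ I) :
    ∃ P : ∀ {i j : 𝒢.ι} {U : Opens X}, 𝒢.Arr i j U → I.obj.obj (op U),
      (∀ {i j : 𝒢.ι} {U V : Opens X} (h : V ≤ U) (f : 𝒢.Arr i j U), rs I h (P f) = P (𝒢.res h f)) ∧
      (∀ {i j k : 𝒢.ι} {U : Opens X} (f : 𝒢.Arr i j U) (g : 𝒢.Arr j k U) (h : 𝒢.Arr i k U),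
        P f + P g - P h = κ.hom.app (op U) (𝒢.d (𝒢.comp f g) h)) := by
  have hI : Injective I.obj :=
    Injective.injective_of_adjoint (sheafificationAdjunction (Opens.grothendieckTopology X) AddCommGrpCat.{u}) I
  obtain ⟨Φ, hΦ⟩ := exists_potential_of_injective κ.hom 𝒢.bd 𝒢.dl 𝒢.exists_pointwise
  refine ⟨fun {i j U} f => Φ.app (op U) (FreeAbelianGroup.of (𝒢.mkArr f)), ?_, ?_⟩
  · intro i j U V h f
    have := ConcreteCategory.congr_hom (Φ.naturality (homOfLE h).op) (FreeAbelianGroup.of (𝒢.mkArr f))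
    change Φ.app (op V) (FreeAbelianGroup.map (𝒢.resArr h)
      (FreeAbelianGroup.of (𝒢.mkArr f))) = I.obj.map (homOfLE h).op (Φ.app (op U) _) at this
    rw [FreeAbelianGroup.map_of_apply] at this
    exact this.symm
  · intro i j k U f g h
    let t : 𝒢.Tri U := ⟨i, j, k, f, g, h⟩
    have := ConcreteCategory.congr_hom (congr_app hΦ (op U)) (FreeAbelianGroup.of t)
    change Φ.app (op U) (FreeAbelianGroup.lift (fun t : 𝒢.Tri U =>
      FreeAbelianGroup.of (𝒢.mkArr t.f) + FreeAbelianGroup.of (𝒢.mkArr t.g) -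
        FreeAbelianGroup.of (𝒢.mkArr t.h)) (FreeAbelianGroup.of t)) =
      κ.hom.app (op U) (FreeAbelianGroup.lift (fun t : 𝒢.Tri U => 𝒢.d (𝒢.comp t.f t.g) t.h)
        (FreeAbelianGroup.of t)) at this
    rw [FreeAbelianGroup.lift_apply_of, FreeAbelianGroup.lift_apply_of] at this
    rw [← this]
    have e := map_sub (Φ.app (op U)).hom
      (FreeAbelianGroup.of (𝒢.mkArr f) + FreeAbelianGroup.of (𝒢.mkArr g) :
        (𝒢.arrows ⋙ AddCommGrpCat.free).obj (op U)) (FreeAbelianGroup.of (𝒢.mkArr h))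
    have e' := map_add (Φ.app (op U)).hom
      (FreeAbelianGroup.of (𝒢.mkArr f) : (𝒢.arrows ⋙ AddCommGrpCat.free).obj (op U))
      (FreeAbelianGroup.of (𝒢.mkArr g))
    exact (e.trans (congrArg (· - _) e')).symm

/-- Rigidified objects, canonically isomorphic to each other. -/
structure Rig where
  Rg : 𝒢.ι → Opens X → Type u
  le : ∀ {i : 𝒢.ι} {U : Opens X}, Rg i U → U ≤ 𝒢.W i
  res : ∀ {i : 𝒢.ι} {U V : Opens X}, V ≤ U → Rg i U → Rg i V
  res_self : ∀ {i : 𝒢.ι} {U : Opens X} (h : U ≤ U) (r : Rg i U), res h r = r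
  res_res : ∀ {i : 𝒢.ι} {U V T : Opens X} (h : V ≤ U) (h' : T ≤ V) (r : Rg i U),
    res h' (res h r) = res (h'.trans h) r
  e : ∀ {i j : 𝒢.ι} {U : Opens X}, Rg i U → Rg j U → 𝒢.Arr i j U
  e_self : ∀ {i : 𝒢.ι} {U : Opens X} (r : Rg i U), e r r = 𝒢.one i (le r)
  res_e : ∀ {i j : 𝒢.ι} {U V : Opens X} (h : V ≤ U) (r : Rg i U) (s : Rg j U),
    𝒢.res h (e r s) = e (res h r) (res h s)
  comp_e : ∀ {i j k : 𝒢.ι} {U : Opens X} (r : Rg i U) (s : Rg j U) (t : Rg k U),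
    𝒢.comp (e r s) (e s t) = e r t
  cov : ∀ x : X, ∃ (i : 𝒢.ι) (U : Opens X), x ∈ U ∧ Nonempty (Rg i U)

/-- The presheaf of objects. -/
def obs : (Opens X)ᵒᵖ ⥤ Type u where
  obj U := {i : 𝒢.ι // U.unop ≤ 𝒢.W i}
  map {U V} e := TypeCat.ofHom fun i => ⟨i.1, e.unop.le.trans i.2⟩

/-- **Main theorem on gerbes**: if `H²(X, G) = 0` there is a system of rigidified objects. -/
theorem exists_rig (hcov : ∀ x : X, ∃ i, x ∈ 𝒢.W i) (h2 : Subsingleton (CohTop.H G 2)) :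
    Nonempty 𝒢.Rig := by
  let S : ShortComplex (CohTop.Ab X) :=
    ShortComplex.mk (Injective.ι G) (cokernel.π (Injective.ι G)) (cokernel.condition _)
  have hS : S.ShortExact :=
    { exact := ShortComplex.exact_of_g_is_cokernel _ (cokernelIsCokernel _)
      mono_f := inferInstanceAs (Mono (Injective.ι G))
      epi_g := inferInstanceAs (Epi (cokernel.π (Injective.ι G))) }
  have hI : Injective S.X₂ := inferInstanceAs (Injective (Injective.under G))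
  have hmono : Mono S.f := hS.mono_f
  have hepi : Epi S.g := hS.epi_g
  have hfi : ∀ U : (Opens X)ᵒᵖ, Function.Injective (S.f.hom.app U) := injective_of_mono S.f
  -- `H¹(Q) = 0`
  have hQ : Subsingleton (Sheaf.H S.X₃ 1) := by
    refine subsingleton_of_forall_eq 0 fun x => ?_
    obtain ⟨y, hy⟩ := Abelian.Ext.covariant_sequence_exact₃
      ((constantSheaf (Opens.grothendieckTopology X) AddCommGrpCat.{u}).obj
        (AddCommGrpCat.of (ULift ℤ))) hS x (n₁ := 2) rfl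
      (Subsingleton.elim (α := Sheaf.H S.X₁ 2) _ _)
    have : Subsingleton (Sheaf.H S.X₂ 1) := inferInstance
    have hy0 : y = 0 := Subsingleton.elim (α := Sheaf.H S.X₂ 1) _ _
    rw [← hy, hy0]
    simp
  obtain ⟨P, P_res, P_tri⟩ := 𝒢.exists_pot S.X₂ S.f
  have P_comp : ∀ {i j k : 𝒢.ι} {U : Opens X} (f : 𝒢.Arr i j U) (g : 𝒢.Arr j k U),
      P (𝒢.comp f g) = P f + P g := by
    intro i j k U f g
    have := P_tri f g (𝒢.comp f g)
    rw [𝒢.d_self, map_zero, sub_eq_zero] at this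
    exact this.symm
  have P_one : ∀ (i : 𝒢.ι) {U : Opens X} (h : U ≤ 𝒢.W i), P (𝒢.one i h) = 0 := by
    intro i U h
    have := P_comp (𝒢.one i h) (𝒢.one i h)
    rw [𝒢.comp_one' (𝒢.one i h) h] at this
    simpa using this
  have P_sub : ∀ {i j : 𝒢.ι} {U : Opens X} (f f' : 𝒢.Arr i j U),
      P f - P f' = S.f.hom.app (op U) (𝒢.d f f') := by
    intro i j U f f'
    have := P_tri f (𝒢.one j (𝒢.le_r f)) f'
    rw [P_one, add_zero, 𝒢.comp_one] at this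
    exact this
  -- the difference of objects in `Q`
  have key : ∀ {U : Opens X} (i j : 𝒢.ι) (hi : U ≤ 𝒢.W i) (hj : U ≤ 𝒢.W j),
      ∃ q : S.X₃.obj.obj (op U), ∀ (V : Opens X) (h : V ≤ U) (f : 𝒢.Arr i j V),
        rs S.X₃ h q = S.g.hom.app (op V) (P f) := by
    intro U i j hi hj
    choose V hxV hV using fun x : U => 𝒢.loc i j x.1 (hi x.2) (hj x.2)
    have hcompat : ∀ {V V' : Opens X} (f : 𝒢.Arr i j V) (f' : 𝒢.Arr i j V') (T : Opens X)
        (h : T ≤ V) (h' : T ≤ V'), rs S.X₃ h (S.g.hom.app (op V) (P f)) =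
          rs S.X₃ h' (S.g.hom.app (op V') (P f')) := by
      intro V V' f f' T h h'
      have e1 := rs_app S.g h (P f)
      have e2 := rs_app S.g h' (P f')
      refine e1.trans (Eq.trans ?_ e2.symm)
      rw [P_res, P_res]
      have e3 := P_sub (𝒢.res h f) (𝒢.res h' f')
      have e4 := congrArg (S.g.hom.app (op T)).hom e3
      rw [map_sub] at e4
      exact sub_eq_zero.1 (e4.trans (app_eq_zero (S := S) _))
    obtain ⟨q, hq⟩ := exists_glue_iSup S.X₃ (V := U) (fun x : U => V x ⊓ U) (fun _ => inf_le_right)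
      (fun x hx => Opens.mem_iSup.2 ⟨⟨x, hx⟩, hxV ⟨x, hx⟩, hx⟩)
      (fun x => rs S.X₃ inf_le_left (S.g.hom.app (op (V x)) (P (hV x).some))) (by
        intro x y
        rw [rs_rs, rs_rs]
        exact hcompat _ _ _ _ _)
    refine ⟨q, fun V' h f => ?_⟩
    refine eq_of_iSup S.X₃ (fun x : V' => V ⟨x.1, h x.2⟩ ⊓ V') (fun _ => inf_le_right)
      (fun x hx => Opens.mem_iSup.2 ⟨⟨x, hx⟩, hxV ⟨x, h hx⟩, hx⟩) _ _ fun x => ?_
    have e5 := congrArg (rs S.X₃ (inf_le_inf_left (V ⟨x.1, h x.2⟩) h)) (hq ⟨x.1, h x.2⟩)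
    rw [rs_rs, rs_rs] at e5
    rw [rs_rs, e5]
    exact hcompat _ _ _ _ _
  have keyuniq : ∀ {U : Opens X} (i j : 𝒢.ι) (hi : U ≤ 𝒢.W i) (hj : U ≤ 𝒢.W j)
      (q q' : S.X₃.obj.obj (op U)) (_ : ∀ (V : Opens X) (h : V ≤ U) (_ : 𝒢.Arr i j V),
        rs S.X₃ h q = rs S.X₃ h q'), q = q' := by
    intro U i j hi hj q q' hqq
    choose V hxV hV using fun x : U => 𝒢.loc i j x.1 (hi x.2) (hj x.2)
    refine eq_of_iSup S.X₃ (fun x : U => V x ⊓ U) (fun _ => inf_le_right)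
      (fun x hx => Opens.mem_iSup.2 ⟨⟨x, hx⟩, hxV ⟨x, hx⟩, hx⟩) _ _ fun x => ?_
    exact hqq _ _ (𝒢.res inf_le_left (hV x).some)
  choose dq hdq using @key
  let D : Diff 𝒢.obs S.X₃.obj :=
    { d := fun {U} a b => dq (U := U.unop) a.1 b.1 a.2 b.2
      d_add := by
        intro U a b c
        refine keyuniq (U := U.unop) a.1 c.1 a.2 c.2 _ _ fun V h f => ?_
        -- work locally where arrows to `b` exist
        choose V' hxV' hV' using fun x : V => 𝒢.loc a.1 b.1 x.1 (a.2 (h x.2)) (b.2 (h x.2))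
        refine eq_of_iSup S.X₃ (fun x : V => V' x ⊓ V) (fun _ => inf_le_right)
          (fun x hx => Opens.mem_iSup.2 ⟨⟨x, hx⟩, hxV' ⟨x, hx⟩, hx⟩) _ _ fun x => ?_
        rw [rs_rs, rs_rs]
        let g : 𝒢.Arr a.1 b.1 (V' x ⊓ V) := 𝒢.res inf_le_left (hV' x).some
        let f' : 𝒢.Arr a.1 c.1 (V' x ⊓ V) := 𝒢.res inf_le_right f
        let g' : 𝒢.Arr b.1 c.1 (V' x ⊓ V) := 𝒢.comp (𝒢.inv g).some f'
        have hle : V' x ⊓ V ≤ U.unop := inf_le_right.trans h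
        have e1 := hdq a.1 b.1 a.2 b.2 _ hle g
        have e2 := hdq b.1 c.1 b.2 c.2 _ hle g'
        have e3 := hdq a.1 c.1 a.2 c.2 _ hle (𝒢.comp g g')
        rw [map_add]
        refine (congrArg₂ (· + ·) e1 e2).trans (Eq.trans ?_ e3.symm)
        rw [P_comp g g']
        exact (map_add (S.g.hom.app _).hom _ _).symm
      map_d := by
        intro U V f a b
        refine keyuniq (U := V.unop) a.1 b.1 (f.unop.le.trans a.2) (f.unop.le.trans b.2) _ _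
          fun T h g => ?_
        have e1 := hdq a.1 b.1 a.2 b.2 T (h.trans f.unop.le) g
        have e2 := hdq a.1 b.1 (f.unop.le.trans a.2) (f.unop.le.trans b.2) T h g
        refine Eq.trans ?_ (e1.trans e2.symm)
        exact rs_rs S.X₃ f.unop.le h _ }
  have hD : ∀ {U : Opens X} {i j : 𝒢.ι} (hi : U ≤ 𝒢.W i) (hj : U ≤ 𝒢.W j) (f : 𝒢.Arr i j U),
      D.d (U := op U) ⟨i, hi⟩ ⟨j, hj⟩ = S.g.hom.app (op U) (P f) := by
    intro U i j hi hj f
    have := hdq i j hi hj U le_rfl f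
    rw [rs_self] at this
    exact this
  have hT : LocNonempty (Opens.grothendieckTopology X) 𝒢.obs (⊤ : Opens X) := by
    refine ⟨{ arrows := fun V _ => ∃ i, V ≤ 𝒢.W i
              downward_closed := fun {V W _} ⟨i, hi⟩ g => ⟨i, g.le.trans hi⟩ }, ?_, ?_⟩
    · intro x _
      obtain ⟨i, hi⟩ := hcov x
      exact ⟨𝒢.W i, homOfLE le_top, ⟨i, le_rfl⟩, hi⟩
    · rintro V f ⟨i, hi⟩
      exact ⟨⟨i, hi⟩⟩
  obtain ⟨Φ⟩ := D.exists_potential_of_H1 (X := (⊤ : Opens X)) isTerminalTop S.X₃ hQ hT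
  -- rigidified objects
  let Rg : 𝒢.ι → Opens X → Type u := fun i U =>
    {s : S.X₂.obj.obj (op U) // ∃ h : U ≤ 𝒢.W i, S.g.hom.app (op U) s = Φ.φ (U := op U) ⟨i, h⟩}
  let res : ∀ {i : 𝒢.ι} {U V : Opens X}, V ≤ U → Rg i U → Rg i V := fun {i U V} h r =>
    ⟨rs S.X₂ h r.1, h.trans r.2.choose, by
      have e1 := rs_app S.g h r.1
      refine e1.symm.trans ?_
      have e2 := r.2.choose_spec
      have e3 := Φ.map_φ (homOfLE h).op ⟨i, r.2.choose⟩
      exact (congrArg (rs S.X₃ h) e2).trans e3⟩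
  have hPe : ∀ {i j : 𝒢.ι} {U : Opens X} (r : Rg i U) (s : Rg j U),
      ∃ f : 𝒢.Arr i j U, P f = r.1 - s.1 := by
    intro i j U r s
    obtain ⟨g, hg⟩ := 𝒢.exists_of_locally (i := i) (j := j) (U := U)
      (fun V f => ∃ h : V ≤ U, P f = rs S.X₂ h (r.1 - s.1)) (by
        rintro V V' h f ⟨hV, hf⟩
        refine ⟨h.trans hV, ?_⟩
        rw [← P_res, hf, rs_rs]) (by
        rintro V f g hVU ⟨h, hf⟩ ⟨h', hg⟩
        apply 𝒢.eq_of_d
        apply hfi (op V)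
        have := P_sub f g
        rw [hf, hg, sub_self] at this
        rw [map_zero]
        exact this.symm) (by
        intro x hx
        obtain ⟨V, hxV, ⟨f⟩⟩ := 𝒢.loc i j x (r.2.choose hx) (s.2.choose hx)
        let f' : 𝒢.Arr i j (V ⊓ U) := 𝒢.res inf_le_left f
        have hle : V ⊓ U ≤ U := inf_le_right
        have e1 : S.g.hom.app (op (V ⊓ U)) (rs S.X₂ hle (r.1 - s.1) - P f') = 0 := by
          have e2 := hD (hle.trans r.2.choose) (hle.trans s.2.choose) f'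
          have e3 := Φ.sub_φ (U := op (V ⊓ U)) ⟨i, hle.trans r.2.choose⟩ ⟨j, hle.trans s.2.choose⟩
          have e4 := (res hle r).2.choose_spec
          have e5 := (res hle s).2.choose_spec
          have e6 := map_sub (S.g.hom.app (op (V ⊓ U))).hom (rs S.X₂ hle r.1) (rs S.X₂ hle s.1)
          have e7 := map_sub (S.g.hom.app (op (V ⊓ U))).hom
            (rs S.X₂ hle (r.1 - s.1)) (P f')
          refine e7.trans ?_
          rw [sub_eq_zero, map_sub]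
          refine e6.trans ((congrArg₂ (· - ·) e4 e5).trans ?_)
          exact e3.trans e2
        obtain ⟨y, hy⟩ := exists_of_map_eq_zero hS _ e1
        obtain ⟨f'', hf''⟩ := 𝒢.act f' y
        refine ⟨V ⊓ U, ⟨hxV, hx⟩, hle, f'', hle, ?_⟩
        have e8 := P_sub f'' f'
        rw [hf'', hy] at e8
        exact sub_left_inj.1 e8)
    refine ⟨g, ?_⟩
    -- check locally
    choose V hVU hxV hVle hV using fun x : U => hg x.1 x.2
    refine eq_of_iSup S.X₂ V hVU (fun x hx => Opens.mem_iSup.2 ⟨⟨x, hx⟩, hxV ⟨x, hx⟩⟩) _ _ fun x => ?_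
    rw [P_res]
    exact hV x
  have hPuniq : ∀ {i j : 𝒢.ι} {U : Opens X} (f g : 𝒢.Arr i j U), P f = P g → f = g := by
    intro i j U f g h
    apply 𝒢.eq_of_d
    apply hfi (op U)
    have := P_sub f g
    rw [h, sub_self] at this
    rw [map_zero]
    exact this.symm
  choose e he using @hPe
  exact ⟨{
    Rg := Rg
    le := fun r => r.2.choose
    res := res
    res_self := fun h r => Subtype.ext (rs_self S.X₂ h r.1)
    res_res := fun h h' r => Subtype.ext (rs_rs S.X₂ h h' r.1)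
    e := e
    e_self := fun {i U} r => hPuniq _ _ (by rw [he, P_one, sub_self])
    res_e := fun {i j U V} h r s => hPuniq _ _ (by
      rw [← P_res, he, he, map_sub])
    comp_e := fun {i j k U} r s t => hPuniq _ _ (by
      rw [P_comp, he, he, he]; abel)
    cov := by
      intro x
      obtain ⟨i, hi⟩ := hcov x
      obtain ⟨R, hR, hR'⟩ := locallySurjective_of_epi S.g (V := 𝒢.W i)
        (Φ.φ (U := op (𝒢.W i)) ⟨i, le_rfl⟩)
      obtain ⟨V, f, hf, hx⟩ := hR x hi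
      obtain ⟨y, hy⟩ := hR' V f hf
      refine ⟨i, V, hx, ⟨⟨y, f.le, ?_⟩⟩⟩
      exact hy.trans (Φ.map_φ f.op ⟨i, le_rfl⟩) }⟩

/-- The presheaf of arrows between two objects. -/
def arr (i j : 𝒢.ι) : (Opens X)ᵒᵖ ⥤ Type u where
  obj U := 𝒢.Arr i j U.unop
  map {U V} h := TypeCat.ofHom fun f => 𝒢.res h.unop.le f
  map_id U := by
    refine ConcreteCategory.hom_ext _ _ fun f => ?_
    exact 𝒢.res_self _ f
  map_comp {U V T} h h' := by
    refine ConcreteCategory.hom_ext _ _ fun f => ?_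
    exact (𝒢.res_res _ _ f).symm

/-- The difference operation on `arr i j`. -/
def arrD (i j : 𝒢.ι) : Diff (𝒢.arr i j) G.obj where
  d {U} f g := 𝒢.d (U := U.unop) f g
  d_add {U} f g h := 𝒢.d_add (U := U.unop) f g h
  map_d {U V} h f g := 𝒢.res_d h.unop.le f g

/-- If `H¹(X, G) = 0`, two global objects are isomorphic. -/
theorem exists_global {i j : 𝒢.ι} (hi : ⊤ ≤ 𝒢.W i) (hj : ⊤ ≤ 𝒢.W j)
    (h1 : Subsingleton (CohTop.H G 1)) : Nonempty (𝒢.Arr i j ⊤) := by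
  have hT : LocNonempty (Opens.grothendieckTopology X) (𝒢.arr i j) (⊤ : Opens X) := by
    refine ⟨{ arrows := fun V _ => Nonempty (𝒢.Arr i j V)
              downward_closed := fun {V W _} ⟨f⟩ g => ⟨𝒢.res g.le f⟩ }, ?_, fun V f h => h⟩
    intro x _
    obtain ⟨U, hxU, hU⟩ := 𝒢.loc i j x (hi trivial) (hj trivial)
    exact ⟨U, homOfLE le_top, hU, hxU⟩
  obtain ⟨Φ⟩ := (𝒢.arrD i j).exists_potential_of_H1 (X := (⊤ : Opens X)) isTerminalTop G h1 hT
  have hsub : ∀ {U : Opens X} (f g : 𝒢.Arr i j U),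
      Φ.φ (U := op U) f - Φ.φ (U := op U) g = 𝒢.d f g := fun {U} f g => Φ.sub_φ (U := op U) f g
  obtain ⟨g, -⟩ := 𝒢.exists_of_locally (i := i) (j := j) (U := ⊤)
    (fun V f => Φ.φ (U := op V) f = 0) (by
      intro V V' h f hf
      have e1 := Φ.map_φ (homOfLE h).op f
      refine e1.symm.trans ?_
      exact (congrArg (rs G h) hf).trans (map_zero (rs G h))) (by
      intro V f g _ hf hg
      apply 𝒢.eq_of_d
      rw [← hsub, hf, hg, sub_zero]) (by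
      intro x _
      obtain ⟨U, hxU, ⟨f⟩⟩ := 𝒢.loc i j x (hi trivial) (hj trivial)
      obtain ⟨f', hf'⟩ := 𝒢.act f (- Φ.φ (U := op U) f)
      refine ⟨U, hxU, le_top, f', ?_⟩
      rw [← hsub] at hf'
      exact sub_left_inj.1 (hf'.trans (zero_sub _).symm))
  exact ⟨g⟩

end Grb

end K679
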