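import Groth.Agent.Deform.K679.ThDesc
import Groth.Agent.Deform.K679.HomSh

/-!
# Twisting a global thickening

`twist`: the system of rigidified objects attached to a global thickening `ob₀`, a short exact sequence
`0 → N → I → Q → 0` and `q : F ⟶ Q`; `exists_of_desc`: if the glued thickening is isomorphic to `ob₀`,
then `q` lifts to `I`.
-/

set_option autoImplicit false
universe u

open CategoryTheory CategoryTheory.Limits AlgebraicGeometry Opposite TopologicalSpace
open Groth.Agent.Sga67.Sec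
open K696.Base K696.Thk K696.LHom

namespace K679

namespace TArr

variable {X₀ S : Scheme.{u}} {p₀ : X₀ ⟶ S} {M : X₀.Modules} {W₁ W₂ : X₀.Opens} {a : ThOb p₀ M W₁}
  {b : ThOb p₀ M W₂} {U : X₀.Opens}

theorem diff_self (f : TArr a b U) : diff f f = 0 := by
  have h := diff_add f f f
  exact (add_eq_left.1 h)

theorem eq_of_diff_eq {f g h : TArr a b U} (e : diff f h = diff g h) : f = g := by
  apply eq_of_diff
  have h1 := diff_add f h g
  have h2 := diff_add g h g
  rw [diff_self] at h2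
  rw [← h1, e, h2]

theorem rs_add {U' : X₀.Opens} (h : U' ≤ U) (f : TArr a b U) (D : SDer p₀ M U) :
    (f.add D).rs h = (f.rs h).add (SDer.rs h D) := rfl

theorem add_zero' (f : TArr a b U) : f.add 0 = f := by
  apply eq_of_diff
  rw [diff_add']

theorem one_add_comp (h : U ≤ W₁) (D D' : SDer p₀ M U) :
    ((one a h).add D).comp ((one a h).add D') = (one a h).add (D + D') := by
  apply eq_of_diff_eq (h := (one a h).comp (one a h))
  rw [diff_comp, diff_add', diff_add']
  exact (diff_add' (one a h) (D + D')).symm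

end TArr

namespace Twist

section post

variable {X : Scheme.{u}} {F : X.Modules} {S : ShortComplex X.Modules} (hS : S.ShortExact)
  {U : X.Opens}

include hS in
theorem post_injective : Function.Injective (LocHom.post (F := F) (U := U) S.f) := by
  intro φ ψ h
  have hm := hS.mono_f
  refine LocHom.ext' fun W hW s => ?_
  exact injective_of_mono S.f W (congrArg (fun z => LocHom.app z hW s) h)

theorem post_post (φ : LocHom F S.X₁ U) : LocHom.post S.g (LocHom.post S.f φ) = 0 := by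
  refine LocHom.ext' fun W hW s => ?_
  rw [LocHom.post_app, LocHom.post_app, ← appS_comp, S.zero]
  rfl

include hS in
theorem exists_post (φ : LocHom F S.X₂ U) (h1 : LocHom.post S.g φ = 0) :
    ∃ δ : LocHom F S.X₁ U, LocHom.post S.f δ = φ := by
  have hm := hS.mono_f
  have key : ∀ (W : X.Opens) (hW : W ≤ U) (s : Sec F W), ∃ t : Sec S.X₁ W,
      appS S.f W t = φ.app hW s := fun W hW s =>
    exists_of_appS_eq_zero hS.exact _ (congrArg (fun z => LocHom.app z hW s) h1)
  choose t ht using key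
  refine ⟨{ app := fun {W} hW => AddMonoidHom.mk' (t W hW) fun a b => by
              apply injective_of_mono S.f W
              rw [map_add, ht, ht, ht, map_add]
            app_smul := fun {W} hW a s => by
              apply injective_of_mono S.f W
              change appS S.f W (t W hW (a • s)) = appS S.f W (a • t W hW s)
              rw [map_smul, ht, ht, LocHom.app_smul]
            app_res := fun {W W'} hW hW' s => by
              apply injective_of_mono S.f W'
              change appS S.f W' (t W' _ (res F hW' s)) = appS S.f W' (res _ hW' (t W hW s))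
              rw [ht, appS_res, ht, LocHom.app_res] }, ?_⟩
  exact LocHom.ext' fun W hW s => ht W hW s

theorem post_rs {G H : X.Modules} (f : G ⟶ H) {U' : X.Opens} (h : U' ≤ U) (φ : LocHom F G U) :
    LocHom.post f (LocHom.rs h φ) = LocHom.rs h (LocHom.post f φ) := rfl

end post

variable {X : Scheme.{u}} {F : X.Modules} {S : ShortComplex X.Modules} (hS : S.ShortExact)
  (hF : FlatMod.IsFinLocFree F) (q : F ⟶ S.X₃)

/-- Local lifts of `q`. -/
def LL (U : X.Opens) : Type u := {ψ : LocHom F S.X₂ U // LocHom.post S.g ψ = LocHom.ofHom U q}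

variable {q}

/-- The difference of two local lifts. -/
noncomputable def δ {U : X.Opens} (ψ ψ' : LL q U) : LocHom F S.X₁ U :=
  (exists_post hS (ψ.1 - ψ'.1) (by rw [map_sub, ψ.2, ψ'.2, sub_self])).choose

theorem post_δ {U : X.Opens} (ψ ψ' : LL q U) : LocHom.post S.f (δ hS ψ ψ') = ψ.1 - ψ'.1 :=
  (exists_post hS (ψ.1 - ψ'.1) (by rw [map_sub, ψ.2, ψ'.2, sub_self])).choose_spec

/-- Restriction of local lifts. -/
def rsLL {U V : X.Opens} (h : V ≤ U) (ψ : LL q U) : LL q V :=
  ⟨LocHom.rs h ψ.1, by rw [post_rs, ψ.2, LocHom.rs_ofHom]⟩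

theorem δ_self {U : X.Opens} (ψ : LL q U) : δ hS ψ ψ = 0 := by
  apply post_injective hS
  rw [post_δ, sub_self, map_zero]

theorem δ_add {U : X.Opens} (ψ ψ' ψ'' : LL q U) : δ hS ψ ψ' + δ hS ψ' ψ'' = δ hS ψ ψ'' := by
  apply post_injective hS
  rw [map_add, post_δ, post_δ, post_δ, sub_add_sub_cancel]

theorem rs_δ {U V : X.Opens} (h : V ≤ U) (ψ ψ' : LL q U) :
    LocHom.rs h (δ hS ψ ψ') = δ hS (rsLL h ψ) (rsLL h ψ') := by
  apply post_injective hS
  rw [post_rs, post_δ, post_δ, map_sub]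
  rfl

include hS hF in
theorem exists_LL (q : F ⟶ S.X₃) (x : X) : ∃ U : X.Opens, x ∈ U ∧ Nonempty (LL q U) := by
  have he := hS.epi_g
  obtain ⟨W, n, hxW, ⟨fr⟩⟩ := Groth.Agent.LoccohB.FinLocFreeFrame.exists_frame hF x
  obtain ⟨V, hV, ψ, hxV, h⟩ := HomSh.exists_lift_frame S.g fr (LocHom.ofHom W q) x hxW
  exact ⟨V, hxV, ⟨ψ, by rw [h, LocHom.rs_ofHom]⟩⟩

section rig

variable {X₀ T : Scheme.{u}} {p₀ : X₀ ⟶ T} {M : X₀.Modules} {e : X ≃ₜ X₀}
  (B : Band p₀ M e (HomSh.sh F S.X₁)) (ob₀ : ThOb p₀ M ⊤)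

/-- The band on local homomorphisms. -/
noncomputable def βL (U : X.Opens) : LocHom F S.X₁ U ≃+ SDer p₀ M (e.opensCongr U) := B.β U

theorem βL_rs {U V : X.Opens} (h : V ≤ U) (φ : LocHom F S.X₁ U) :
    βL B V (LocHom.rs h φ) = SDer.rs (e.opensCongr.monotone h) (βL B U φ) := B.nat h φ

theorem hloc₀ : ∀ (_ _ : PUnit.{u + 1}) (x : X₀), x ∈ (⊤ : X₀.Opens) → x ∈ (⊤ : X₀.Opens) →
    ∃ U : X₀.Opens, x ∈ U ∧ Nonempty (TArr ob₀ ob₀ U) :=
  fun _ _ x _ _ => ⟨⊤, trivial, ⟨TArr.one ob₀ le_top⟩⟩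

/-- The twisted isomorphism. -/
noncomputable def tw {U : X.Opens} (ψ ψ' : LL q U) : TArr ob₀ ob₀ (e.opensCongr U) :=
  (TArr.one ob₀ le_top).add (βL B U (δ hS ψ ψ'))

theorem tw_self {U : X.Opens} (ψ : LL q U) : tw hS B ob₀ ψ ψ = TArr.one ob₀ le_top := by
  unfold tw
  rw [δ_self, map_zero, TArr.add_zero']

theorem rs_tw {U V : X.Opens} (h : V ≤ U) (ψ ψ' : LL q U) :
    (tw hS B ob₀ ψ ψ').rs (e.opensCongr.monotone h) = tw hS B ob₀ (rsLL h ψ) (rsLL h ψ') := by
  unfold tw
  rw [TArr.rs_add, ← βL_rs, rs_δ]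
  rfl

theorem tw_comp {U : X.Opens} (ψ ψ' ψ'' : LL q U) :
    (tw hS B ob₀ ψ ψ').comp (tw hS B ob₀ ψ' ψ'') = tw hS B ob₀ ψ ψ'' := by
  unfold tw
  rw [TArr.one_add_comp, ← map_add, δ_add]

/-- The twisted system of rigidified objects. -/
noncomputable def twist : (grb B (fun _ : PUnit.{u + 1} => ⊤) (fun _ => ob₀) (hloc₀ ob₀)).Rig where
  Rg _ U := LL q U
  le {_ U} _ := fun _ _ => trivial
  res h ψ := rsLL h ψ
  res_self _ _ := rfl
  res_res _ _ _ := rfl
  e ψ ψ' := tw hS B ob₀ ψ ψ'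
  e_self ψ := tw_self hS B ob₀ ψ
  res_e h ψ ψ' := rs_tw hS B ob₀ h ψ ψ'
  comp_e ψ ψ' ψ'' := tw_comp hS B ob₀ ψ ψ' ψ''
  cov x := by
    obtain ⟨U, hxU, hU⟩ := exists_LL hS hF q x
    exact ⟨PUnit.unit, U, hxU, hU⟩

section desc

variable (q)

/-- The descended local lifts. -/
noncomputable def ηL (R : (grb B (fun _ : PUnit.{u + 1} => ⊤) (fun _ => ob₀) (hloc₀ ob₀)).Rig)
    (θ : ∀ V : JS R, TArr ob₀ ob₀ V.1) (V : JS R)
    (ψ : LocHom F S.X₂ (e.opensCongr.symm V.1)) : LocHom F S.X₂ (e.opensCongr.symm V.1) :=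
  ψ - LocHom.post S.f ((βL B (e.opensCongr.symm V.1)).symm
    (SDer.rs (e.opensCongr.apply_symm_apply V.1).le (TArr.diff (θ V) (TArr.one ob₀ le_top))))

include hS hF in
/-- If the twisted thickening is isomorphic to the original one, then `q` lifts. -/
theorem exists_of_desc (Φ : (thSys (twist hS hF (q := q) B ob₀)).glued ⟶ ob₀.T.X)
    (hj : ∀ V : JS (twist hS hF (q := q) B ob₀), jU ob₀.T (le_top : V.1 ≤ ⊤) ≫
      muS (twist hS hF (q := q) B ob₀) V ≫ Φ = X₀.homOfLE (le_top : V.1 ≤ ⊤) ≫ ob₀.T.j)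
    (θ : ∀ V : JS (twist hS hF (q := q) B ob₀), TArr ob₀ ob₀ V.1)
    (hθ : ∀ (V : JS (twist hS hF (q := q) B ob₀)) {T : X₀.Opens} (hT : Sm p₀ T) (hTV : T ≤ V.1)
      (s : Γ(ob₀.T.X, ob₀.T.im T)), (θ V).app hT hTV s =
      appOfHom (a := ob₀) (b := ob₀) le_top le_top
        (muS (twist hS hF (q := q) B ob₀) V ≫ Φ) (hj V) hTV s) :
    ∃ i : F ⟶ S.X₂, i ≫ S.g = q := by
  let R := twist hS hF (q := q) B ob₀
  let ψ : ∀ V : JS R, LL q (e.opensCongr.symm V.1) := fun V => rg R V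
  let η : ∀ V : JS R, LocHom F S.X₂ (e.opensCongr.symm V.1) := fun V => ηL B ob₀ R θ V (ψ V).1
  have hη : ∀ (V V' : JS R) (h : V' ≤ V),
      LocHom.rs (e.opensCongr.symm.monotone (show V'.1 ≤ V.1 from h)) (η V) = η V' := by
    intro V V' h
    have hle : V'.1 ≤ V.1 := h
    have hle' : e.opensCongr.symm V'.1 ≤ e.opensCongr.symm V.1 := e.opensCongr.symm.monotone hle
    have h1 : θ V' = TArr.comp (eS R (rg R V') (resS R hle (rg R V)) : TArr ob₀ ob₀ V'.1)
        ((θ V).rs hle) := by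
      refine TArr.ext' fun T hT hTV s => ?_
      exact θ_comp R Φ hj θ hθ h hT hTV s
    have h2 : TArr.diff (θ V') (TArr.one ob₀ le_top) =
        TArr.diff (eS R (rg R V') (resS R hle (rg R V)) : TArr ob₀ ob₀ V'.1)
          (TArr.one ob₀ le_top) +
        SDer.rs hle (TArr.diff (θ V) (TArr.one ob₀ le_top)) := by
      rw [h1, TArr.rs_diff]
      exact TArr.diff_comp _ (TArr.one ob₀ le_top) _ (TArr.one ob₀ le_top)
    have h3 : SDer.rs (e.opensCongr.apply_symm_apply V'.1).le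
        (TArr.diff (eS R (rg R V') (resS R hle (rg R V)) : TArr ob₀ ob₀ V'.1)
          (TArr.one ob₀ le_top)) =
        βL B (e.opensCongr.symm V'.1) (δ hS (ψ V') (rsLL hle' (ψ V))) := by
      rw [TArr.rs_diff]
      exact TArr.diff_add' (TArr.one ob₀ le_top) _
    have h4 : SDer.rs (e.opensCongr.apply_symm_apply V'.1).le
        (SDer.rs hle (TArr.diff (θ V) (TArr.one ob₀ le_top))) =
        βL B (e.opensCongr.symm V'.1) (LocHom.rs hle' ((βL B (e.opensCongr.symm V.1)).symm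
          (SDer.rs (e.opensCongr.apply_symm_apply V.1).le
            (TArr.diff (θ V) (TArr.one ob₀ le_top))))) := by
      rw [βL_rs, AddEquiv.apply_symm_apply]
      rfl
    change LocHom.rs hle' ((ψ V).1 - LocHom.post S.f _) = (ψ V').1 - LocHom.post S.f _
    rw [h2, map_add (SDer.rs _), h3, h4, ← map_add, AddEquiv.symm_apply_apply, map_add, post_δ,
      map_sub, post_rs]
    change LocHom.rs hle' (ψ V).1 - _ = (ψ V').1 - ((ψ V').1 - LocHom.rs hle' (ψ V).1 + _)
    abel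
  have hcov : ∀ x ∈ (⊤ : X.Opens), ∃ V : JS R, x ∈ e.opensCongr.symm V.1 := by
    intro x _
    obtain ⟨V, hV, hx⟩ := (thSys R).cover (e x)
    exact ⟨⟨V, hV⟩, hx⟩
  obtain ⟨Ψ, hΨ⟩ := LocHom.exists_glue (F := F) (G := S.X₂) (U := ⊤)
    (fun V : JS R => e.opensCongr.symm V.1) (fun V => le_top) hcov η (by
      intro V V'
      refine LocHom.ext_of_cover (ι := {V'' : JS R // V''.1 ≤ V.1 ⊓ V'.1})
        (fun V'' => e.opensCongr.symm V''.1.1)
        (fun V'' => (e.opensCongr.symm.monotone V''.2).trans (OrderIso.map_inf _ _ _).le) ?_ ?_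
      · intro x hx
        obtain ⟨T, hT, h1, h2, hxT⟩ := (thSys R).inter V.1 V.2 V'.1 V'.2 (e x) hx.1 hx.2
        exact ⟨⟨⟨T, hT⟩, le_inf h1 h2⟩, hxT⟩
      · rintro ⟨V'', h''⟩
        have e1 := hη V V'' (h''.trans inf_le_left)
        have e2 := hη V' V'' (h''.trans inf_le_right)
        exact e1.trans e2.symm)
  refine ⟨Ψ.toHom, hom_ext fun U s => ?_⟩
  have key : LocHom.post S.g Ψ = LocHom.ofHom ⊤ q := by
    refine LocHom.ext_of_cover (fun V : JS R => e.opensCongr.symm V.1) (fun V => le_top) hcov ?_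
    intro V
    rw [← post_rs, hΨ, LocHom.rs_ofHom]
    change LocHom.post S.g ((ψ V).1 - LocHom.post S.f _) = _
    rw [map_sub, post_post, sub_zero, (ψ V).2]
  rw [appS_comp, LocHom.toHom_app]
  exact congrArg (fun z => LocHom.app z le_top s) key

end desc

end rig

end Twist

end K679
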