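import Groth.Agent.Deform.K679.SmallH2
import Groth.Agent.Deform.K679.ThTwist
import Groth.Agent.Deform.K679.ArtSmall

/-!
# Rigidity over the dual numbers implies `Ext¹(Ω, O) = 0`
-/

set_option autoImplicit false
universe u

open CategoryTheory CategoryTheory.Limits AlgebraicGeometry Opposite TopologicalSpace
open K696.Base K696.Thk K679.DerBand

namespace K679.RigidExt

open K679.SmallOb K679.ArtSmall

section glued

variable {X₀ S : Scheme.{u}} {p₀ : X₀ ⟶ S} {M : X₀.Modules}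
variable {X : TopCat.{u}} {e : X ≃ₜ X₀} {G : CohTop.Ab X} {B : Band p₀ M e G} {ι : Type u}
  {W : ι → X₀.Opens} {ob : ∀ i, ThOb p₀ M (W i)}
  {hloc : ∀ (i j : ι) (x : X₀), x ∈ W i → x ∈ W j → ∃ U : X₀.Opens, x ∈ U ∧
      Nonempty (TArr (ob i) (ob j) U)} (R : (grb B W ob hloc).Rig)

/-- The glued lift is flat and cartesian. -/
theorem flat_isPullback_of_rig {S₀ : Scheme.{u}} (i : S₀ ⟶ S) (f₀ : X₀ ⟶ S₀) (hp : f₀ ≫ i = p₀)
    (hflat : ∀ k, Flat (ob k).st)
    (hpb : ∀ k, IsPullback (ob k).T.j ((W k).ι ≫ f₀) (ob k).st i) :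
    Flat (str R) ∧ IsPullback (thSys R).i f₀ (str R) i := by
  refine ⟨?_, ?_⟩
  · rw [IsZariskiLocalAtSource.iff_of_openCover (P := @Flat) (thSys R).cov]
    intro V
    have h1 : (thSys R).ι V ≫ str R = stS R V := ι_str R V
    change Flat ((thSys R).ι V ≫ str R)
    rw [h1]
    have hfl : Flat (ob (ix R V)).st := hflat (ix R V)
    unfold stS
    have ho : IsOpenImmersion
        (isAffineOpen_im (ob (ix R V)).T (smS R V).1 (le_of_RgS R (rg R V))).fromSpec := inferInstance
    have ho' : Flat (isAffineOpen_im (ob (ix R V)).T (smS R V).1 (le_of_RgS R (rg R V))).fromSpec :=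
      HasRingHomProperty.of_isOpenImmersion (P := @Flat) RingHom.Flat.containsIdentities
    exact @Flat.comp _ _ _ _ _ ho' hfl
  · refine Groth.Agent.CalgA.TwoGlue.isPullback_of_cover (by rw [i_str, hp]) (thSys R).cov
      (fun V : JS R => V.1.toScheme) (fun V : JS R => V.1.ι) (fun V : JS R => (thSys R).inc V)
      (fun V => ((thSys R).isPullback_i V).flip) ?_
    intro V
    have h1 : (thSys R).ι V ≫ str R = stS R V := ι_str R V
    change IsPullback ((thSys R).inc V) (V.1.ι ≫ f₀) ((thSys R).ι V ≫ str R) i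
    rw [h1]
    have h2 := (isPullback_incS (ob (ix R V)).T (smS R V).1 (le_of_RgS R (rg R V))).paste_vert
      (hpb (ix R V))
    rw [← Category.assoc, Scheme.homOfLE_ι] at h2
    exact h2

end glued

variable {k R : Type u} [Field k] [CommRing R] (φ : R →+* k) (s : k →+* R) (hs : φ.comp s = RingHom.id k)
  (t : R) (htt : t * t = 0) (hker : RingHom.ker φ = Ideal.span {t})
  (hann : ∀ c, φ c = 0 ↔ c * t = 0)
  {X : Scheme.{u}} (q : X ⟶ Spec (CommRingCat.of k))

include hs in
theorem map_comp_map : Spec.map (CommRingCat.ofHom φ) ≫ Spec.map (CommRingCat.ofHom s) = 𝟙 _ := by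
  rw [← Spec.map_comp, ← CommRingCat.ofHom_comp, hs, CommRingCat.ofHom_id, Spec.map_id]

/-- The inclusion in the trivial deformation. -/
noncomputable def j₀ : X ⟶ pullback q (Spec.map (CommRingCat.ofHom s)) :=
  pullback.lift (𝟙 X) (q ≫ Spec.map (CommRingCat.ofHom φ))
    (by rw [Category.id_comp, Category.assoc, map_comp_map φ s hs, Category.comp_id])

theorem isPullback_j₀ : IsPullback (j₀ φ s hs q) q (pullback.snd _ _)
    (Spec.map (CommRingCat.ofHom φ)) := by
  refine IsPullback.of_right (h₁₂ := pullback.fst q (Spec.map (CommRingCat.ofHom s)))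
    (v₁₃ := q) (h₂₂ := Spec.map (CommRingCat.ofHom s)) ?_ ?_ (IsPullback.of_hasPullback _ _)
  · unfold j₀
    rw [pullback.lift_fst, map_comp_map φ s hs]
    exact IsPullback.of_horiz_isIso ⟨by rw [Category.id_comp, Category.comp_id]⟩
  · unfold j₀
    rw [pullback.lift_snd]

include hs hann htt hker in
/-- Rigidity over the dual numbers implies `Ext¹(Ω, O) = 0`. -/
theorem subsingleton_ext [Flat q] [HasExt.{u} X.Modules] {Ω : X.Modules} {d : OmegaSh.Der q Ω}
    (hd : OmegaSh.IsUniversal d) (hΩ : FlatMod.IsFinLocFree Ω)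
    (hr : ∀ (Y : Scheme.{u}) (f : Y ⟶ Spec (CommRingCat.of R)) (i : X ⟶ Y), Flat f →
      IsPullback i q f (Spec.map (CommRingCat.ofHom φ)) →
      ∃ Φ : Y ≅ pullback q (Spec.map (CommRingCat.ofHom s)),
          Φ.hom ≫ pullback.snd _ _ = f ∧ i ≫ Φ.hom ≫ pullback.fst _ _ = 𝟙 X) :
    Subsingleton (Abelian.Ext.{u} Ω (Coh.structureModule X) 1) := by
  have hφ : Function.Surjective φ := fun c => ⟨s c, congr($hs c)⟩
  have hcl : IsClosedImmersion (Spec.map (CommRingCat.ofHom φ)) :=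
    IsClosedImmersion.spec_of_surjective _ hφ
  have hk : (RingHom.ker φ) ^ 2 = ⊥ := by
    rw [hker, Ideal.span_singleton_pow, pow_two, htt, Ideal.span_singleton_eq_bot]
  have hsur : Surjective (Spec.map (CommRingCat.ofHom φ)) :=
    (K204.ArtThick.isFiniteOrderThickening_spec φ hφ ⟨2, hk⟩).1.2
  have hsq : IsPullback (𝟙 X) q (q ≫ Spec.map (CommRingCat.ofHom φ))
      (Spec.map (CommRingCat.ofHom φ)) := by
    have h1 : IsPullback (𝟙 X) q q (𝟙 _) :=
      IsPullback.of_horiz_isIso ⟨by rw [Category.id_comp, Category.comp_id]⟩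
    have h2 := isPullback_comp_mono h1 (Spec.map (CommRingCat.ofHom φ))
    rw [Category.id_comp] at h2
    exact h2
  have htt' : g R t * g R t = 0 := by rw [← map_mul, htt, map_zero]
  have h₁ := ker_app φ t hker
  have h₀ : ∀ c : Γ(Spec (CommRingCat.of R), ⊤),
      (Spec.map (CommRingCat.ofHom φ)).app ⊤ c = 0 ↔ c * g R t = 0 := by
    intro c
    obtain ⟨a, rfl⟩ := (g R).surjective c
    rw [app_g_eq_zero, hann, ← map_mul, map_eq_zero_iff _ (g R).injective]
  have hp := isPullback_j₀ φ s hs q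
  have hc₁ : IsClosedImmersion (j₀ φ s hs q) := MorphismProperty.of_isPullback hp.flip inferInstance
  have hs₁ : Surjective (j₀ φ s hs q) := MorphismProperty.of_isPullback hp.flip inferInstance
  have hisoι : IsIso (⊤ : X.Opens).ι := inferInstanceAs (IsIso X.topIso.hom)
  let T₀ : Th (⊤ : X.Opens) :=
    { X := pullback q (Spec.map (CommRingCat.ofHom s))
      j := (⊤ : X.Opens).ι ≫ j₀ φ s hs q
      cl := inferInstance
      su := inferInstance }
  let st₀ : T₀.X ⟶ Spec (CommRingCat.of R) := pullback.snd _ _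
  have hfl₀ : Flat st₀ :=
    inferInstanceAs (Flat (pullback.snd q (Spec.map (CommRingCat.ofHom s))))
  have hpb₀ : IsPullback T₀.j ((⊤ : X.Opens).ι ≫ q) st₀ (Spec.map (CommRingCat.ofHom φ)) := by
    have hι : IsPullback (⊤ : X.Opens).ι ((⊤ : X.Opens).ι ≫ q) q (𝟙 _) :=
      IsPullback.of_horiz_isIso ⟨by rw [Category.comp_id]⟩
    have := hι.paste_horiz hp
    rw [Category.id_comp] at this
    exact this
  let ob₀ : ThOb (q ≫ Spec.map (CommRingCat.ofHom φ)) (pN (𝟙 X) (Coh.structureModule X)) ⊤ :=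
    ob hsq htt' h₁ h₀ T₀ hpb₀
  let B := band hsq (N := Coh.structureModule X) hd (Homeomorph.refl X) (fun x => rfl)
  let F : X.Modules := (Scheme.Modules.pullback (𝟙 X)).obj Ω
  let α : F ≅ Ω := (Scheme.Modules.pullbackId X).app Ω
  have hF : FlatMod.IsFinLocFree F :=
    Groth.Agent.PerfA.PerfLocal.isFinLocFree_of_iso α.symm hΩ
  have hen : EnoughInjectives X.Modules := Groth.Agent.S0485.result _ _
  have hS : (ShortComplex.mk (Injective.ι (Coh.structureModule X))
      (cokernel.π (Injective.ι (Coh.structureModule X))) (cokernel.condition _)).ShortExact :=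
    { exact := ShortComplex.exact_cokernel _
      mono_f := inferInstance
      epi_g := inferInstance }
  have hE : Subsingleton (Abelian.Ext.{u} F (Coh.structureModule X) 1) := by
    refine (ExtSh.subsingleton_ext_one_iff F hS (Abelian.Ext.subsingleton_of_injective _ _ 0)).2 ?_
    intro q₀
    let Rg := Twist.twist hS hF (q := q₀) B ob₀
    obtain ⟨hfl, hpb⟩ := flat_isPullback_of_rig Rg (Spec.map (CommRingCat.ofHom φ)) q rfl
      (fun _ => hfl₀) (fun _ => hpb₀)
    obtain ⟨Φ, hΦ1, hΦ2⟩ := hr _ _ _ hfl hpb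
    have hiΦ : (thSys Rg).i ≫ Φ.hom = j₀ φ s hs q := by
      apply pullback.hom_ext
      · rw [Category.assoc, hΦ2]
        exact (pullback.lift_fst _ _ _).symm
      · rw [Category.assoc, hΦ1, i_str]
        exact (pullback.lift_snd _ _ _).symm
    have hj : ∀ V : JS Rg, jU ob₀.T (le_top : V.1 ≤ ⊤) ≫
        muS Rg V ≫ Φ.hom = X.homOfLE (le_top : V.1 ≤ ⊤) ≫ ob₀.T.j := by
      intro V
      have h1 : jU ob₀.T (le_top : V.1 ≤ ⊤) ≫ muS Rg V = V.1.ι ≫ (thSys Rg).i := jU_muS Rg V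
      refine (Category.assoc _ _ _).symm.trans ((congrArg (· ≫ Φ.hom) h1).trans ?_)
      change (V.1.ι ≫ (thSys Rg).i) ≫ Φ.hom = X.homOfLE _ ≫ (⊤ : X.Opens).ι ≫ j₀ φ s hs q
      rw [Category.assoc, hiΦ, ← Category.assoc, Scheme.homOfLE_ι]
    let θ : ∀ V : JS Rg, TArr ob₀ ob₀ V.1 := fun V =>
      arrOfHom hsq htt' h₁ h₀ T₀ hpb₀ T₀ hpb₀ (U := V.1) le_top le_top (muS Rg V ≫ Φ.hom) (hj V)
        (by
          have h2 : muS Rg V ≫ str Rg = (T₀.im V.1).ι ≫ st₀ := muS_str Rg V
          refine (Category.assoc _ _ _).trans (Eq.trans ?_ h2)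
          exact congrArg (fun z => muS Rg V ≫ z) hΦ1)
    exact Twist.exists_of_desc hS hF q₀ B ob₀ Φ.hom hj θ (fun V T hT hTV s => rfl)
  refine subsingleton_of_forall_eq 0 fun x => ?_
  have h1 : x = (Abelian.Ext.mk₀ α.inv).comp ((Abelian.Ext.mk₀ α.hom).comp x (zero_add _))
      (zero_add _) := by
    rw [Abelian.Ext.mk₀_comp_mk₀_assoc, α.inv_hom_id, Abelian.Ext.mk₀_id_comp]
  rw [h1, hE.elim ((Abelian.Ext.mk₀ α.hom).comp x (zero_add _)) 0, Abelian.Ext.comp_zero]

end K679.RigidExt
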