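import Groth.Agent.Deform.K679.ExalKit2
import Groth.Agent.Deform.K679.ExalLocal
import Mathlib.RingTheory.Artinian.Ring

/-!
Small extensions of Artinian local algebras and extensions by the residue field.
-/

set_option autoImplicit false

universe u

namespace K679.SmallExt

open Exal IsLocalRing K679.ExalKit

variable {k : Type u} [Field k] {Λ : Type u} [CommRing Λ] [Algebra k Λ]
  {R : Type u} [CommRing R] [Algebra Λ R] [IsLocalRing R]

/-- Maps from a local ring with residue field `k` to the quotient of a local Artinian ring with residue field `k` are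
local. -/
theorem mem_maximalIdeal_iff_of_small
    {C : Type u} [CommRing C] [Algebra Λ C] [IsLocalRing C] [IsArtinianRing C]
    (hC : ∀ b : C, ∃ c : k, b - algebraMap Λ C (algebraMap k Λ c) ∈ maximalIdeal C)
    (t : C) (ht : t ∈ maximalIdeal C) (φ : R →ₐ[Λ] C ⧸ Ideal.span {t}) (r : R) (c : C)
    (hcr : Ideal.Quotient.mk (Ideal.span {t}) c = φ r) : c ∈ maximalIdeal C ↔ r ∈ maximalIdeal R := by
  have hnt : Nontrivial (C ⧸ Ideal.span {t}) := by
    rw [Ideal.Quotient.nontrivial_iff]
    intro h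
    have h2 : Ideal.span {t} ≤ maximalIdeal C := by rwa [Ideal.span_singleton_le_iff_mem]
    rw [h, top_le_iff] at h2
    exact (maximalIdeal.isMaximal C).ne_top h2
  have hnil : ∀ x ∈ maximalIdeal C, IsNilpotent x := by
    obtain ⟨n, hn⟩ := IsArtinianRing.isNilpotent_jacobson_bot (R := C)
    rw [IsLocalRing.jacobson_eq_maximalIdeal ⊥ bot_ne_top] at hn
    intro x hx
    refine ⟨n, ?_⟩
    have := Ideal.pow_mem_pow hx n
    rw [hn] at this
    simpa using this
  constructor
  · intro hc
    rw [mem_maximalIdeal, mem_nonunits_iff]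
    intro hr
    have h1 := hr.map φ
    rw [← hcr] at h1
    have h2 := (hnil c hc).map (Ideal.Quotient.mk (Ideal.span {t}))
    exact (h2.not_isUnit) h1
  · intro hr
    obtain ⟨a, ha⟩ := hC c
    set r' : R := r - algebraMap Λ R (algebraMap k Λ a) with hr'
    have h1 : φ r' = Ideal.Quotient.mk (Ideal.span {t}) (c - algebraMap Λ C (algebraMap k Λ a)) := by
      rw [hr', map_sub, map_sub, hcr, AlgHom.commutes]
      rfl
    have h2 : ¬ IsUnit r' := by
      intro h
      have h3 := h.map φ
      rw [h1] at h3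
      exact ((hnil _ ha).map (Ideal.Quotient.mk (Ideal.span {t}))).not_isUnit h3
    have h3 : algebraMap Λ R (algebraMap k Λ a) ∈ maximalIdeal R := by
      have : algebraMap Λ R (algebraMap k Λ a) = r - r' := by rw [hr']; ring
      rw [this]
      exact Ideal.sub_mem _ hr h2
    have h4 : a = 0 := by
      by_contra h
      exact (mem_maximalIdeal _).1 h3 (((IsUnit.mk0 a h).map (algebraMap k Λ)).map (algebraMap Λ R))
    rw [h4, map_zero, map_zero, sub_zero] at ha
    exact ha

/-- Triviality of all extensions by the residue field gives liftings along small extensions. -/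
theorem exists_lift_of_forall_isTrivial
    (H : ∀ X : Ext Λ R (ResidueField R), X.IsTrivial)
    {C : Type u} [CommRing C] [Algebra Λ C] [IsLocalRing C] [IsArtinianRing C]
    (hC : ∀ b : C, ∃ c : k, b - algebraMap Λ C (algebraMap k Λ c) ∈ maximalIdeal C)
    (t : C) (ht : t ∈ maximalIdeal C) (htm : ∀ b ∈ maximalIdeal C, b * t = 0)
    (φ : R →ₐ[Λ] C ⧸ Ideal.span {t}) :
    ∃ φ' : R →ₐ[Λ] C, (Ideal.Quotient.mkₐ Λ (Ideal.span {t})).comp φ' = φ := by
  by_cases ht0 : t = 0
  · have hbij : Function.Bijective (Ideal.Quotient.mkₐ Λ (Ideal.span {t})) := by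
      constructor
      · rw [injective_iff_map_eq_zero]
        intro a ha
        rw [Ideal.Quotient.mkₐ_eq_mk, Ideal.Quotient.eq_zero_iff_mem, ht0] at ha
        simpa using ha
      · exact Ideal.Quotient.mk_surjective
    refine ⟨(AlgEquiv.ofBijective _ hbij).symm.toAlgHom.comp φ, ?_⟩
    ext r
    exact (AlgEquiv.ofBijective _ hbij).apply_symm_apply (φ r)
  have hloc := mem_maximalIdeal_iff_of_small (R := R) hC t ht φ
  -- multiplication by `t` on `C/(t)`
  let μ : (C ⧸ Ideal.span {t}) →ₗ[C] C := Submodule.liftQ (Ideal.span {t}) (LinearMap.toSpanSingleton C C t) (by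
    intro x hx
    rw [Ideal.mem_span_singleton'] at hx
    obtain ⟨a, rfl⟩ := hx
    rw [LinearMap.mem_ker, LinearMap.toSpanSingleton_apply, smul_eq_mul, mul_assoc, htm t ht, mul_zero])
  have hμ : ∀ c, μ (Ideal.Quotient.mk (Ideal.span {t}) c) = c * t := fun c => rfl
  have hμφ : ∀ r c, Ideal.Quotient.mk (Ideal.span {t}) c = φ r → μ (φ r) = c * t := by
    intro r c h
    rw [← h, hμ]
  let ι : ResidueField R →+ C := QuotientAddGroup.lift (maximalIdeal R).toAddSubgroup
    (μ.toAddMonoidHom.comp φ.toRingHom.toAddMonoidHom) (by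
      intro r hr
      obtain ⟨c, hc⟩ := Ideal.Quotient.mk_surjective (φ r)
      change μ (φ r) = 0
      rw [hμφ r c hc, htm c ((hloc r c hc).2 hr)])
  have hι : ∀ r c, Ideal.Quotient.mk (Ideal.span {t}) c = φ r → ι (residue R r) = c * t := fun r c h =>
    hμφ r c h
  obtain ⟨X, f, hf1, hf2, hf3, hf4⟩ := exists_ofFiber (A := Λ) (B := R) (L := ResidueField R) (C := C)
    (C' := C ⧸ Ideal.span {t}) (Ideal.Quotient.mkₐ Λ (Ideal.span {t})) φ ι
    (fun b => Ideal.Quotient.mk_surjective _) (by
      rw [injective_iff_map_eq_zero]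
      intro z hz
      obtain ⟨r, rfl⟩ := residue_surjective z
      obtain ⟨c, hc⟩ := Ideal.Quotient.mk_surjective (φ r)
      rw [hι r c hc] at hz
      rw [residue_eq_zero_iff, ← hloc r c hc, mem_maximalIdeal, mem_nonunits_iff]
      intro hu
      exact ht0 (hu.mul_right_eq_zero.1 hz)) (by
      intro c
      constructor
      · intro h
        rw [Ideal.Quotient.mkₐ_eq_mk, Ideal.Quotient.eq_zero_iff_mem, Ideal.mem_span_singleton'] at h
        obtain ⟨d, rfl⟩ := h
        obtain ⟨a, ha⟩ := hC d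
        refine ⟨residue R (algebraMap Λ R (algebraMap k Λ a)), ?_⟩
        rw [hι _ (algebraMap Λ C (algebraMap k Λ a)) (by rw [AlgHom.commutes]; rfl)]
        have := htm _ ha
        rw [sub_mul, sub_eq_zero] at this
        exact this.symm
      · rintro ⟨z, rfl⟩
        obtain ⟨r, rfl⟩ := residue_surjective z
        obtain ⟨c, hc⟩ := Ideal.Quotient.mk_surjective (φ r)
        rw [hι r c hc, Ideal.Quotient.mkₐ_eq_mk, Ideal.Quotient.eq_zero_iff_mem]
        exact Ideal.mul_mem_left _ _ (Ideal.mem_span_singleton_self t)) (by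
      intro c b z hcb
      obtain ⟨r, rfl⟩ := residue_surjective z
      obtain ⟨d, hd⟩ := Ideal.Quotient.mk_surjective (φ r)
      have h1 : b • residue R r = residue R (b * r) := rfl
      rw [h1, hι r d hd, hι (b * r) (c * d) (by rw [map_mul, map_mul, hd]; exact congrArg (· * φ r) hcb),
        mul_assoc])
  obtain ⟨s, hs⟩ := H X
  refine ⟨f.comp s, ?_⟩
  ext r
  rw [AlgHom.comp_apply, AlgHom.comp_apply, hf1, hs]

/-- Liftings along small extensions of Artinian rings give triviality of all extensions by the residue field. -/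
theorem isTrivial_of_forall_lift [IsNoetherianRing R]
    (hR : ∀ r : R, ∃ c : k, r - algebraMap Λ R (algebraMap k Λ c) ∈ maximalIdeal R)
    (H : ∀ (B : Type u) [CommRing B] [Algebra Λ B] [IsLocalRing B] [IsArtinianRing B],
      (∀ b : B, ∃ c : k, b - algebraMap Λ B (algebraMap k Λ c) ∈ IsLocalRing.maximalIdeal B) →
      ∀ t : B, t ∈ IsLocalRing.maximalIdeal B → (∀ b ∈ IsLocalRing.maximalIdeal B, b * t = 0) →
      ∀ φ : R →ₐ[Λ] B ⧸ Ideal.span {t},
        ∃ φ' : R →ₐ[Λ] B, (Ideal.Quotient.mkₐ Λ (Ideal.span {t})).comp φ' = φ)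
    (X : Ext Λ R (ResidueField R)) : X.IsTrivial := by
  have hsimple : IsSimpleModule R (ResidueField R) :=
    isSimpleModule_iff_quot_maximal.2 ⟨maximalIdeal R, inferInstance, ⟨LinearEquiv.refl _ _⟩⟩
  have hloc := isLocalRing_E X
  have hnoeth := isNoetherianRing_E X
  obtain ⟨n, hn⟩ := exists_pow_inf_eq_bot X
  set I : Ideal X.E := maximalIdeal X.E ^ (n + 1) with hI
  have hIn : ∀ x ∈ I, X.proj x = 0 → x = 0 := fun x hx => hn x (Ideal.pow_le_pow_right (Nat.le_succ n) hx)
  have hIm : I ≤ maximalIdeal X.E := Ideal.pow_le_self (Nat.succ_ne_zero n)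
  have hnt : Nontrivial (X.E ⧸ I) := by
    rw [Ideal.Quotient.nontrivial_iff]
    intro h
    rw [h, top_le_iff] at hIm
    exact (maximalIdeal.isMaximal X.E).ne_top hIm
  have hlocq : IsLocalRing (X.E ⧸ I) := IsLocalRing.of_surjective' (Ideal.Quotient.mk I) Ideal.Quotient.mk_surjective
  have hmax : ∀ x : X.E, Ideal.Quotient.mk I x ∈ maximalIdeal (X.E ⧸ I) ↔ x ∈ maximalIdeal X.E := by
    intro x
    have hlh : IsLocalHom (Ideal.Quotient.mk I) := IsLocalHom.of_surjective _ Ideal.Quotient.mk_surjective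
    rw [mem_maximalIdeal, mem_maximalIdeal, mem_nonunits_iff, mem_nonunits_iff]
    exact not_congr ⟨fun h => hlh.map_nonunit x h, fun h => h.map _⟩
  have hnq : IsNoetherianRing (X.E ⧸ I) :=
    isNoetherianRing_of_surjective X.E _ (Ideal.Quotient.mk I) Ideal.Quotient.mk_surjective
  have hart : IsArtinianRing (X.E ⧸ I) := by
    rw [isArtinianRing_iff_isNilpotent_maximalIdeal]
    refine ⟨n + 1, ?_⟩
    have h1 : maximalIdeal (X.E ⧸ I) = (maximalIdeal X.E).map (Ideal.Quotient.mk I) := by
      apply le_antisymm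
      · intro x hx
        obtain ⟨y, rfl⟩ := Ideal.Quotient.mk_surjective x
        exact Ideal.mem_map_of_mem _ ((hmax y).1 hx)
      · rw [Ideal.map_le_iff_le_comap]
        intro x hx
        exact (hmax x).2 hx
    rw [h1, ← Ideal.map_pow]
    exact Ideal.map_quotient_self I
  set t : X.E := X.incl 1 with ht
  have htm : t ∈ maximalIdeal X.E := incl_mem_maximalIdeal X 1
  have hincl : ∀ z, ∃ e, X.incl z = e * t := by
    intro z
    obtain ⟨r, rfl⟩ := residue_surjective z
    obtain ⟨e, rfl⟩ := proj_surjective X r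
    refine ⟨e, ?_⟩
    rw [ht, mul_incl]
    congr 1
    change residue R (X.proj e) = residue R (X.proj e * 1)
    rw [mul_one]
  set C := X.E ⧸ I with hC
  obtain ⟨φ, hφ⟩ := exists_factor X.proj (proj_surjective X)
    ((Ideal.Quotient.mkₐ Λ (Ideal.span {Ideal.Quotient.mk I t})).comp (Ideal.Quotient.mkₐ Λ I)) (by
      intro x hx
      obtain ⟨z, rfl⟩ := exists_incl X hx
      obtain ⟨e, he⟩ := hincl z
      rw [he]
      change Ideal.Quotient.mk (Ideal.span {Ideal.Quotient.mk I t}) (Ideal.Quotient.mk I (e * t)) = 0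
      rw [Ideal.Quotient.eq_zero_iff_mem, map_mul]
      exact Ideal.mul_mem_left _ _ (Ideal.mem_span_singleton_self _))
  obtain ⟨φ', hφ'⟩ := H C (by
      intro b
      obtain ⟨x, rfl⟩ := Ideal.Quotient.mk_surjective b
      obtain ⟨c, hc⟩ := hR (X.proj x)
      refine ⟨c, ?_⟩
      have h1 : Ideal.Quotient.mk I x - algebraMap Λ C (algebraMap k Λ c) =
          Ideal.Quotient.mk I (x - algebraMap Λ X.E (algebraMap k Λ c)) := by
        rw [map_sub]; rfl
      rw [h1, hmax, mem_maximalIdeal_iff, map_sub, AlgHom.commutes]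
      exact hc) (Ideal.Quotient.mk I t) ((hmax t).2 htm) (by
      intro b hb
      obtain ⟨x, rfl⟩ := Ideal.Quotient.mk_surjective b
      rw [hmax] at hb
      rw [← map_mul, ht, mul_incl_eq_zero X hb, map_zero]) φ
  obtain ⟨f, hf, hf'⟩ := exists_lift_of_inf_eq_bot X I hIn (AlgHom.id Λ R) φ' (by
    intro r
    obtain ⟨x₀, hx₀⟩ := proj_surjective X r
    have h1 : Ideal.Quotient.mk (Ideal.span {Ideal.Quotient.mk I t}) (φ' r) =
        Ideal.Quotient.mk (Ideal.span {Ideal.Quotient.mk I t}) (Ideal.Quotient.mk I x₀) := by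
      have h2 : Ideal.Quotient.mk (Ideal.span {Ideal.Quotient.mk I t}) (φ' r) = φ r :=
        DFunLike.congr_fun hφ' r
      rw [h2, ← hx₀, hφ]; rfl
    rw [Ideal.Quotient.mk_eq_mk_iff_sub_mem, Ideal.mem_span_singleton'] at h1
    obtain ⟨d, hd⟩ := h1
    obtain ⟨e, rfl⟩ := Ideal.Quotient.mk_surjective d
    refine ⟨x₀ + e * t, ?_, ?_⟩
    · rw [map_add, hx₀, ht, mul_incl, proj_incl, add_zero]; rfl
    · rw [map_add, map_mul, hd]; ring)
  exact ⟨f, hf⟩

end K679.SmallExt
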