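import Groth.Agent.Deform.K679.SmallH2

/-!
# Uniqueness of lifts along a small extension when `Ext¹(Ω, O) = 0`
-/

set_option autoImplicit false
universe u

open CategoryTheory CategoryTheory.Limits AlgebraicGeometry Opposite TopologicalSpace
open K696.Base K696.Thk K679.DerBand

namespace K679.SmallLift

open K679.SmallOb

variable {R R₁ : Type u} [CommRing R] [CommRing R₁] (φ : R →+* R₁) (hφ : Function.Surjective φ)

variable {X Y S₀ : Scheme.{u}} {i : X ⟶ Y} {q : X ⟶ S₀} {f : Y ⟶ Spec (CommRingCat.of R₁)}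
  {s₀ : S₀ ⟶ Spec (CommRingCat.of R)}
  (hsq : IsPullback i q (f ≫ Spec.map (CommRingCat.ofHom φ)) s₀) [IsClosedImmersion s₀]
  [IsClosedImmersion (Spec.map (CommRingCat.ofHom φ))]
  {tt : Γ(Spec (CommRingCat.of R), ⊤)} (htt : tt * tt = 0)
  (h₁ : RingHom.ker ((Spec.map (CommRingCat.ofHom φ)).app ⊤).hom = Ideal.span {tt})
  (h₀ : ∀ c : Γ(Spec (CommRingCat.of R), ⊤), s₀.app ⊤ c = 0 ↔ c * tt = 0)

include hφ in
/-- Global lifts are isomorphic, for a family of lifts. -/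
theorem exists_arr_top [Surjective i] (hk : (RingHom.ker φ) ^ 2 = ⊥) {Ω : X.Modules}
    {d : OmegaSh.Der q Ω}
    (hd : OmegaSh.IsUniversal d) (hΩ : FlatMod.IsFinLocFree Ω) [HasExt.{u} X.Modules]
    (hE : Subsingleton (Abelian.Ext.{u} Ω (Coh.structureModule X) 1))
    {ι : Type u} (T : ι → Th (⊤ : Y.Opens)) (st : ∀ a, (T a).X ⟶ Spec (CommRingCat.of R))
    (hpb : ∀ a, IsPullback (T a).j ((⊤ : Y.Opens).ι ≫ f) (st a) (Spec.map (CommRingCat.ofHom φ)))
    (hs : ∀ a, Smooth (st a)) (hfl : ∀ a, Flat (st a)) (a b : ι) :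
    Nonempty (TArr (ob hsq htt h₁ h₀ (T a) (st := st a) (hpb a))
      (ob hsq htt h₁ h₀ (T b) (st := st b) (hpb b)) ⊤) := by
  have hcl : IsClosedImmersion i := isClosedImmersion_i hsq
  let e : X ≃ₜ Y := homeo i
  let B := band hsq (N := Coh.structureModule X) hd e (fun x => rfl)
  let ob' : ∀ a : ι, ThOb (f ≫ Spec.map (CommRingCat.ofHom φ))
      (pN i (Coh.structureModule X)) (⊤ : Y.Opens) := fun a =>
    ob hsq htt h₁ h₀ (T a) (st := st a) (hpb a)
  have hloc : ∀ (a b : ι) (x : Y), x ∈ (⊤ : Y.Opens) → x ∈ (⊤ : Y.Opens) →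
      ∃ U : Y.Opens, x ∈ U ∧ Nonempty (TArr (ob' a) (ob' b) U) := fun a b x ha hb =>
    exists_arr φ hφ hsq htt h₁ h₀ (T a) (hpb a) (T b) (hpb b) hk x ha hb
  have htop : (⊤ : TopologicalSpace.Opens X) ≤ e.opensCongr.symm (⊤ : Y.Opens) :=
    (le_symm_iff e _ _).2 le_top
  obtain ⟨A⟩ := (grb B (fun _ : ι => (⊤ : Y.Opens)) ob' hloc).exists_global (i := a) (j := b)
    htop htop (subsingleton_H hΩ _ 0 hE)
  have h : (⊤ : Y.Opens) ≤ e.opensCongr (⊤ : TopologicalSpace.Opens X) := fun _ _ => trivial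
  exact ⟨TArr.rs h (show TArr (ob' a) (ob' b) (e.opensCongr ⊤) from A)⟩

/-- A pair as a family. -/
def pr {α : Sort*} (x y : α) : ULift.{u} Bool → α := fun b => if b.down then x else y

include hφ hsq htt h₁ h₀ in
/-- Smooth lifts along small extensions are isomorphic if `Ext¹(Ω, O) = 0` on the closed fibre. -/
theorem exists_iso [Surjective i] [Surjective (Spec.map (CommRingCat.ofHom φ))]
    (hk : (RingHom.ker φ) ^ 2 = ⊥) {Ω : X.Modules}
    {d : OmegaSh.Der q Ω}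
    (hd : OmegaSh.IsUniversal d) (hΩ : FlatMod.IsFinLocFree Ω) [HasExt.{u} X.Modules]
    (hE : Subsingleton (Abelian.Ext.{u} Ω (Coh.structureModule X) 1))
    {Y₁ Y₂ : Scheme.{u}} (j₁ : Y ⟶ Y₁) (j₂ : Y ⟶ Y₂) (g₁ : Y₁ ⟶ Spec (CommRingCat.of R))
    (g₂ : Y₂ ⟶ Spec (CommRingCat.of R)) [Smooth g₁] [Smooth g₂]
    (hp₁ : IsPullback j₁ f g₁ (Spec.map (CommRingCat.ofHom φ)))
    (hp₂ : IsPullback j₂ f g₂ (Spec.map (CommRingCat.ofHom φ))) :
    ∃ Φ : Y₁ ≅ Y₂, j₁ ≫ Φ.hom = j₂ ∧ Φ.hom ≫ g₂ = g₁ := by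
  have hc₁ : IsClosedImmersion j₁ := MorphismProperty.of_isPullback hp₁.flip inferInstance
  have hc₂ : IsClosedImmersion j₂ := MorphismProperty.of_isPullback hp₂.flip inferInstance
  have hs₁ : Surjective j₁ := MorphismProperty.of_isPullback hp₁.flip inferInstance
  have hs₂ : Surjective j₂ := MorphismProperty.of_isPullback hp₂.flip inferInstance
  have hisoι : IsIso (⊤ : Y.Opens).ι := inferInstanceAs (IsIso Y.topIso.hom)
  let T : ULift.{u} Bool → Th (⊤ : Y.Opens) := fun b => match b with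
    | ⟨true⟩ => { X := Y₁, j := (⊤ : Y.Opens).ι ≫ j₁, cl := inferInstance, su := inferInstance }
    | ⟨false⟩ => { X := Y₂, j := (⊤ : Y.Opens).ι ≫ j₂, cl := inferInstance, su := inferInstance }
  let st : ∀ b, (T b).X ⟶ Spec (CommRingCat.of R) := fun b => match b with
    | ⟨true⟩ => g₁
    | ⟨false⟩ => g₂
  have hpb : ∀ b, IsPullback (T b).j ((⊤ : Y.Opens).ι ≫ f) (st b)
      (Spec.map (CommRingCat.ofHom φ)) := by
    have hι : IsPullback (⊤ : Y.Opens).ι ((⊤ : Y.Opens).ι ≫ f) f (𝟙 _) :=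
      IsPullback.of_horiz_isIso ⟨by rw [Category.comp_id]⟩
    rintro ⟨_ | _⟩
    · have := hι.paste_horiz hp₂
      rw [Category.id_comp] at this
      exact this
    · have := hι.paste_horiz hp₁
      rw [Category.id_comp] at this
      exact this
  have hs : ∀ b, Smooth (st b) := by
    rintro ⟨_ | _⟩
    · exact (inferInstance : Smooth g₂)
    · exact (inferInstance : Smooth g₁)
  have hfl : ∀ b, Flat (st b) := fun b => inferInstance
  obtain ⟨A⟩ := exists_arr_top φ hφ hsq htt h₁ h₀ hk hd hΩ hE T st hpb hs hfl ⟨true⟩ ⟨false⟩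
  obtain ⟨Φ, h1, h2, -⟩ := A.exists_iso
  refine ⟨Φ, ?_, h2⟩
  have h3 : (⊤ : Y.Opens).ι ≫ j₁ ≫ Φ.hom = (⊤ : Y.Opens).ι ≫ j₂ :=
    (Category.assoc _ _ _).symm.trans h1
  exact (cancel_epi (⊤ : Y.Opens).ι).1 h3

end K679.SmallLift
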