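import Groth.Agent.Deform.K679.ThLift
import Groth.Agent.CalgA.TwoGlue
import Groth.Agent.EGA2.K36.GlueAff
import Mathlib.AlgebraicGeometry.Morphisms.Flat

/-!
# Isomorphisms of thickenings and morphisms of schemes

* `TArr.ofHom`: from a morphism of schemes to a family;
* `TArr.exists_hom`: a global isomorphism of thickenings comes from an isomorphism of schemes;
* `exists_lift_of_rig`: the glued deformation.
-/

set_option autoImplicit false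
universe u

open CategoryTheory CategoryTheory.Limits AlgebraicGeometry Opposite TopologicalSpace
open Groth.Agent.Sga67.Sec (Sec res resO res_res resO_resO res_self resO_self res_smul
  eq_of_locally eqO_of_locally)
open K696.Base K696.Thk

namespace K679

variable {X₀ S : Scheme.{u}} {p₀ : X₀ ⟶ S} {M : X₀.Modules}

section jU

variable {W : X₀.Opens} (T : Th W) {U : X₀.Opens} (h : U ≤ W)

theorem range_jU : Set.range (X₀.homOfLE h ≫ T.j) ⊆ Set.range (T.im U).ι := by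
  rw [Scheme.Opens.range_ι]
  rintro _ ⟨x, rfl⟩
  rw [Scheme.Hom.comp_apply]
  refine (mem_thIm T _).2 ?_
  rw [Scheme.homOfLE_apply]
  exact x.2

/-- The inclusion of `U` in its thickening. -/
noncomputable def jU : U.toScheme ⟶ (T.im U).toScheme :=
  IsOpenImmersion.lift (T.im U).ι (X₀.homOfLE h ≫ T.j) (range_jU T h)

theorem jU_ι : jU T h ≫ (T.im U).ι = X₀.homOfLE h ≫ T.j := IsOpenImmersion.lift_fac _ _ _

theorem isPullback_jU : IsPullback (jU T h) (X₀.homOfLE h) (T.im U).ι T.j := by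
  refine IsOpenImmersion.isPullback _ _ _ _ (jU_ι T h).symm ?_
  rw [Scheme.Opens.opensRange_ι]
  have h1 : T.j ⁻¹ᵁ T.im U = W.ι ⁻¹ᵁ U := preimage_im T.j _
  rw [h1]
  apply le_antisymm
  · intro x hx
    exact ⟨⟨x.1, hx⟩, Subtype.ext (Scheme.homOfLE_apply h _)⟩
  · intro x hx
    obtain ⟨y, rfl⟩ := hx
    change (X₀.homOfLE h y).1 ∈ U
    rw [Scheme.homOfLE_apply]
    exact y.2

instance isClosedImmersion_jU : IsClosedImmersion (jU T h) :=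
  MorphismProperty.of_isPullback (isPullback_jU T h).flip T.cl

instance surjective_jU : Surjective (jU T h) :=
  MorphismProperty.of_isPullback (isPullback_jU T h).flip T.su

theorem down_homOfLE {V : X₀.Opens} (hV : V ≤ U)
    (e : U.ι ⁻¹ᵁ V ≤ (X₀.homOfLE h) ⁻¹ᵁ (W.ι ⁻¹ᵁ V)) (a : Γ(W.toScheme, W.ι ⁻¹ᵁ V)) :
    down U hV (ev (X₀.homOfLE h) e a) = down W (hV.trans h) a := by
  have h1 := ev_down W (hV.trans h) a le_rfl
  conv_lhs => rw [← h1]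
  rw [ev_comp (X₀.homOfLE h) W.ι le_rfl e (by rw [Scheme.homOfLE_ι]),
    ev_congr (Scheme.homOfLE_ι X₀ h) _ le_rfl, down_ev]

theorem π_down {V : X₀.Opens} (hV : V ≤ U)
    (e : U.ι ⁻¹ᵁ V ≤ (jU T h) ⁻¹ᵁ ((T.im U).ι ⁻¹ᵁ (T.im V)))
    (s : Γ((T.im U).toScheme, (T.im U).ι ⁻¹ᵁ (T.im V))) :
    T.π (hV.trans h) (down (T.im U) (T.im_mono hV) s) = down U hV (ev (jU T h) e s) := by
  have h1 := ev_down (T.im U) (T.im_mono hV) s le_rfl
  have h2 : U.ι ⁻¹ᵁ V ≤ (X₀.homOfLE h) ⁻¹ᵁ (W.ι ⁻¹ᵁ V) := by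
    rw [← Scheme.Hom.comp_preimage, Scheme.homOfLE_ι]
  have h3 : U.ι ⁻¹ᵁ V ≤ (X₀.homOfLE h ≫ T.j) ⁻¹ᵁ (T.im V) := by
    rw [Scheme.Hom.comp_preimage]
    exact h2.trans ((X₀.homOfLE h).preimage_mono (T.le_preimage_im V))
  conv_rhs => rw [← h1]
  rw [ev_comp (jU T h) (T.im U).ι le_rfl e (by rw [jU_ι]; exact h3), ev_congr (jU_ι T h) _ h3,
    ← ev_comp (X₀.homOfLE h) T.j (T.le_preimage_im V) h2 h3, down_homOfLE h hV h2]
  rfl

end jU

variable {W₁ W₂ : X₀.Opens} {a : ThOb p₀ M W₁} {b : ThOb p₀ M W₂} {U : X₀.Opens} (h₁ : U ≤ W₁)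
  (h₂ : U ≤ W₂)

section ofHom

variable (h : (a.T.im U).toScheme ⟶ b.T.X) (hj : jU a.T h₁ ≫ h = X₀.homOfLE h₂ ≫ b.T.j)

include hj in
theorem le_ofHom {V : X₀.Opens} : (a.T.im U).ι ⁻¹ᵁ (a.T.im V) ≤ h ⁻¹ᵁ (b.T.im V) := by
  intro y hy
  obtain ⟨x, rfl⟩ := (surjective_jU a.T h₁).surj y
  change h (jU a.T h₁ x) ∈ b.T.im V
  rw [← Scheme.Hom.comp_apply, hj, Scheme.Hom.comp_apply]
  refine (mem_thIm b.T _).2 ?_
  rw [Scheme.homOfLE_apply]
  have h3 : (a.T.im U).ι (jU a.T h₁ x) ∈ a.T.im V := hy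
  rw [← Scheme.Hom.comp_apply, jU_ι, Scheme.Hom.comp_apply, mem_thIm, Scheme.homOfLE_apply] at h3
  exact h3

/-- The map on sections. -/
noncomputable def appOfHom {V : X₀.Opens} (hVU : V ≤ U) :
    Γ(b.T.X, b.T.im V) →+* Γ(a.T.X, a.T.im V) :=
  (down (a.T.im U) (a.T.im_mono hVU)).comp (ev h (le_ofHom h₁ h₂ h hj))

theorem appOfHom_apply {V : X₀.Opens} (hVU : V ≤ U) (s : Γ(b.T.X, b.T.im V)) :
    appOfHom h₁ h₂ h hj hVU s = down (a.T.im U) (a.T.im_mono hVU) (ev h (le_ofHom h₁ h₂ h hj) s) := rfl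

theorem appOfHom_st (hst : h ≫ b.st = (a.T.im U).ι ≫ a.st) {V : X₀.Opens} (hVU : V ≤ U)
    {Z : S.Opens} (hZ : V ≤ p₀ ⁻¹ᵁ Z) (c : Γ(S, Z)) :
    appOfHom h₁ h₂ h hj hVU (ev b.st (b.T.le_of_le b.st p₀ b.w hZ) c) =
      ev a.st (a.T.le_of_le a.st p₀ a.w hZ) c := by
  rw [appOfHom_apply, ev_comp h b.st (b.T.le_of_le b.st p₀ b.w hZ) (le_ofHom h₁ h₂ h hj)
      ((le_ofHom h₁ h₂ h hj).trans (h.preimage_mono (b.T.le_of_le b.st p₀ b.w hZ))),
    ev_congr hst _ ((a.T.im U).ι.preimage_mono (a.T.le_of_le a.st p₀ a.w hZ)),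
    ← ev_comp (a.T.im U).ι a.st (a.T.le_of_le a.st p₀ a.w hZ) le_rfl, down_ev]

theorem π_appOfHom {V : X₀.Opens} (hVU : V ≤ U) (s : Γ(b.T.X, b.T.im V)) :
    a.T.π (hVU.trans h₁) (appOfHom h₁ h₂ h hj hVU s) = b.T.π (hVU.trans h₂) s := by
  have e0 : U.ι ⁻¹ᵁ V ≤ (jU a.T h₁) ⁻¹ᵁ ((a.T.im U).ι ⁻¹ᵁ (a.T.im V)) := by
    rw [← Scheme.Hom.comp_preimage, jU_ι, Scheme.Hom.comp_preimage]
    have h2 : U.ι ⁻¹ᵁ V ≤ (X₀.homOfLE h₁) ⁻¹ᵁ (W₁.ι ⁻¹ᵁ V) := by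
      rw [← Scheme.Hom.comp_preimage, Scheme.homOfLE_ι]
    exact h2.trans ((X₀.homOfLE h₁).preimage_mono (a.T.le_preimage_im V))
  have e1 : U.ι ⁻¹ᵁ V ≤ (X₀.homOfLE h₂) ⁻¹ᵁ (W₂.ι ⁻¹ᵁ V) := by
    rw [← Scheme.Hom.comp_preimage, Scheme.homOfLE_ι]
  have e2 : U.ι ⁻¹ᵁ V ≤ (X₀.homOfLE h₂ ≫ b.T.j) ⁻¹ᵁ (b.T.im V) := by
    rw [Scheme.Hom.comp_preimage]
    exact e1.trans ((X₀.homOfLE h₂).preimage_mono (b.T.le_preimage_im V))
  rw [appOfHom_apply, π_down a.T h₁ hVU e0, ev_comp (jU a.T h₁) h (le_ofHom h₁ h₂ h hj) e0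
    (by rw [hj]; exact e2), ev_congr hj _ e2, ← ev_comp (X₀.homOfLE h₂) b.T.j (b.T.le_preimage_im V) e1 e2,
    down_homOfLE h₂ hVU e1]
  rfl

/-- The isomorphism of thickenings given by a morphism of schemes. -/
noncomputable def TArr.ofHom (hst : h ≫ b.st = (a.T.im U).ι ≫ a.st)
    (hκ : ∀ (V : X₀.Opens) (hV : Sm p₀ V) (hVU : V ≤ U) (m : Sec M V),
      appOfHom h₁ h₂ h hj hVU (b.κ hV (hVU.trans h₂) m) = a.κ hV (hVU.trans h₁) m) :
    TArr a b U where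
  le_l := h₁
  le_r := h₂
  app _ hVU := appOfHom h₁ h₂ h hj hVU
  res_app {V V'} hV hV' hVU h' s := by
    rw [appOfHom_apply, appOfHom_apply, resO_down, res_ev, ev_res]
  π_app hV hVU s := π_appOfHom h₁ h₂ h hj hVU s
  κ_app hV hVU m := hκ _ hV hVU m
  st_app {V} hV hVU Z hZ c := appOfHom_st h₁ h₂ h hj hst hVU hZ c

theorem TArr.ofHom_app (hst : h ≫ b.st = (a.T.im U).ι ≫ a.st)
    (hκ : ∀ (V : X₀.Opens) (hV : Sm p₀ V) (hVU : V ≤ U) (m : Sec M V),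
      appOfHom h₁ h₂ h hj hVU (b.κ hV (hVU.trans h₂) m) = a.κ hV (hVU.trans h₁) m)
    {V : X₀.Opens} (hV : Sm p₀ V) (hVU : V ≤ U) (s : Γ(b.T.X, b.T.im V)) :
    (TArr.ofHom h₁ h₂ h hj hst hκ).app hV hVU s = appOfHom h₁ h₂ h hj hVU s := rfl

end ofHom

section global

/-- Morphisms out of `T.X` which agree on the small pieces are equal. -/
theorem hom_ext_im {T : Th (⊤ : X₀.Opens)} {Y : Scheme.{u}} {f g : T.X ⟶ Y}
    (h : ∀ (V : X₀.Opens) (hV : Sm p₀ V),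
      (isAffineOpen_im T hV.1 le_top).fromSpec ≫ f = (isAffineOpen_im T hV.1 le_top).fromSpec ≫ g) :
    f = g := by
  refine K36.GlueAff.hom_ext_opens (fun V : {V : X₀.Opens // Sm p₀ V} => T.im V.1) ?_ ?_
  · intro x
    obtain ⟨y, rfl⟩ := T.j.surjective x
    obtain ⟨V, hV, hy, -⟩ := exists_sm p₀ y.1 ⊤ trivial
    exact ⟨⟨V, hV⟩, (mem_thIm T y).2 hy⟩
  · rintro ⟨V, hV⟩
    have h1 := (isAffineOpen_im T hV.1 le_top).isoSpec_hom_fromSpec
    change (T.im V).ι ≫ f = (T.im V).ι ≫ g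
    rw [← h1, Category.assoc, Category.assoc, h V hV]

variable {a : ThOb p₀ M (⊤ : X₀.Opens)} {b : ThOb p₀ M (⊤ : X₀.Opens)}

/-- The morphism of schemes attached to a global isomorphism of thickenings. -/
theorem TArr.exists_mor (f : TArr a b ⊤) : ∃ φ : a.T.X ⟶ b.T.X,
    ∀ (V : X₀.Opens) (hV : Sm p₀ V), (isAffineOpen_im a.T hV.1 le_top).fromSpec ≫ φ =
      Spec.map (CommRingCat.ofHom (f.app hV le_top)) ≫ (isAffineOpen_im b.T hV.1 le_top).fromSpec := by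
  let g : ∀ V : {V : X₀.Opens // Sm p₀ V}, (a.T.im V.1).toScheme ⟶ b.T.X := fun V =>
    (a.T.im V.1).toSpecΓ ≫ Spec.map (CommRingCat.ofHom (f.app V.2 le_top)) ≫
      (isAffineOpen_im b.T V.2.1 le_top).fromSpec
  have hg : ∀ (V V' : {V : X₀.Opens // Sm p₀ V}) (h : V'.1 ≤ V.1),
      a.T.X.homOfLE (a.T.im_mono h) ≫ g V = g V' := by
    rintro ⟨V, hV⟩ ⟨V', hV'⟩ h
    change a.T.X.homOfLE (a.T.im_mono h) ≫ (a.T.im V).toSpecΓ ≫
      Spec.map (CommRingCat.ofHom (f.app hV le_top)) ≫ (isAffineOpen_im b.T hV.1 le_top).fromSpec =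
      (a.T.im V').toSpecΓ ≫ Spec.map (CommRingCat.ofHom (f.app hV' le_top)) ≫
        (isAffineOpen_im b.T hV'.1 le_top).fromSpec
    have e1 := Scheme.Opens.toSpecΓ_SpecMap_presheaf_map (a.T.im V') (a.T.im V) (a.T.im_mono h)
    have e2 := (isAffineOpen_im b.T hV.1 le_top).map_fromSpec (isAffineOpen_im b.T hV'.1 le_top)
      (homOfLE (b.T.im_mono h)).op
    have e3 : CommRingCat.ofHom (f.app hV le_top) ≫ a.T.X.presheaf.map (homOfLE (a.T.im_mono h)).op =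
        b.T.X.presheaf.map (homOfLE (b.T.im_mono h)).op ≫ CommRingCat.ofHom (f.app hV' le_top) := by
      ext s
      exact (f.res_app hV hV' le_top h s).symm
    rw [← reassoc_of% e1, ← Spec.map_comp_assoc, e3, Spec.map_comp, Category.assoc, e2]
  obtain ⟨φ, hφ⟩ := K36.GlueAff.exists_glue_opens (fun V : {V : X₀.Opens // Sm p₀ V} => a.T.im V.1)
    (fun x => by
      obtain ⟨y, rfl⟩ := a.T.j.surjective x
      obtain ⟨V, hV, hy, -⟩ := exists_sm p₀ y.1 ⊤ trivial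
      exact ⟨⟨V, hV⟩, (mem_thIm a.T y).2 hy⟩) g (by
    intro V V'
    refine K36.GlueAff.hom_ext_homOfLE (ι := {V'' : X₀.Opens // Sm p₀ V'' ∧ V'' ≤ V.1 ∧ V'' ≤ V'.1})
      (fun V'' => a.T.im V''.1) (fun V'' => le_inf (a.T.im_mono V''.2.2.1) (a.T.im_mono V''.2.2.2)) ?_ ?_
    · intro x hx
      obtain ⟨y, rfl⟩ := a.T.j.surjective x
      obtain ⟨V'', hV'', hy, hle⟩ := exists_sm p₀ y.1 (V.1 ⊓ V'.1)
        ⟨(mem_thIm a.T y).1 hx.1, (mem_thIm a.T y).1 hx.2⟩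
      exact ⟨⟨V'', hV'', hle.trans inf_le_left, hle.trans inf_le_right⟩, (mem_thIm a.T y).2 hy⟩
    · intro V''
      rw [Scheme.homOfLE_homOfLE_assoc, Scheme.homOfLE_homOfLE_assoc]
      exact (hg V ⟨V''.1, V''.2.1⟩ V''.2.2.1).trans (hg V' ⟨V''.1, V''.2.1⟩ V''.2.2.2).symm)
  refine ⟨φ, fun V hV => ?_⟩
  have h1 := hφ ⟨V, hV⟩
  have h2 := (isAffineOpen_im a.T hV.1 le_top).isoSpec_inv_ι
  change (a.T.im V).ι ≫ φ = _ at h1
  rw [← h2, Category.assoc, h1]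
  change _ ≫ (a.T.im V).toSpecΓ ≫ _ = _
  rw [(isAffineOpen_im a.T hV.1 le_top).isoSpec_inv_toSpecΓ_assoc]

/-- A global isomorphism of thickenings comes from an isomorphism of schemes. -/
theorem TArr.exists_iso (f : TArr a b ⊤) : ∃ φ : a.T.X ≅ b.T.X,
    a.T.j ≫ φ.hom = b.T.j ∧ φ.hom ≫ b.st = a.st ∧
    ∀ (V : X₀.Opens) (hV : Sm p₀ V), (isAffineOpen_im a.T hV.1 le_top).fromSpec ≫ φ.hom =
      Spec.map (CommRingCat.ofHom (f.app hV le_top)) ≫ (isAffineOpen_im b.T hV.1 le_top).fromSpec := by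
  obtain ⟨φ, hφ⟩ := f.exists_mor
  obtain ⟨ψ, hψ⟩ := f.symm.exists_mor
  have h1 : φ ≫ ψ = 𝟙 _ := by
    refine hom_ext_im (p₀ := p₀) fun V hV => ?_
    rw [reassoc_of% (hφ V hV), hψ V hV, ← Spec.map_comp_assoc, Category.comp_id]
    have : CommRingCat.ofHom (f.symm.app hV le_top) ≫ CommRingCat.ofHom (f.app hV le_top) = 𝟙 _ := by
      ext s
      exact f.app_equiv_symm hV le_top s
    rw [this, Spec.map_id, Category.id_comp]
  have h2 : ψ ≫ φ = 𝟙 _ := by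
    refine hom_ext_im (p₀ := p₀) fun V hV => ?_
    rw [reassoc_of% (hψ V hV), hφ V hV, ← Spec.map_comp_assoc, Category.comp_id]
    have : CommRingCat.ofHom (f.app hV le_top) ≫ CommRingCat.ofHom (f.symm.app hV le_top) = 𝟙 _ := by
      ext s
      exact (f.equiv hV le_top).symm_apply_apply s
    rw [this, Spec.map_id, Category.id_comp]
  refine ⟨⟨φ, ψ, h1, h2⟩, ?_, ?_, hφ⟩
  · refine K36.GlueAff.hom_ext_opens (fun V : {V : X₀.Opens // Sm p₀ V} => (⊤ : X₀.Opens).ι ⁻¹ᵁ V.1) ?_ ?_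
    · intro x
      obtain ⟨V, hV, hy, -⟩ := exists_sm p₀ x.1 ⊤ trivial
      exact ⟨⟨V, hV⟩, hy⟩
    · rintro ⟨V, hV⟩
      have hV : Sm p₀ V := hV
      have e1 := incS_fromSpec a.T hV.1 le_top
      have e2 := incS_fromSpec b.T hV.1 le_top
      have e3 : incS a.T (le_top (a := V)) ≫ Spec.map (CommRingCat.ofHom (f.app hV le_top)) =
          incS b.T le_top := by
        unfold incS
        rw [Category.assoc, ← Spec.map_comp]
        congr 2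
        ext s
        exact f.π_app hV le_top s
      have e4 : X₀.homOfLE (le_top (a := V)) ≫ a.T.j ≫ φ = X₀.homOfLE (le_top (a := V)) ≫ b.T.j := by
        rw [← e2, ← e3, Category.assoc, ← hφ V hV, reassoc_of% e1]
      -- pass from `V` to the open of the subscheme
      let l : (((⊤ : X₀.Opens).ι ⁻¹ᵁ V : (⊤ : X₀.Opens).toScheme.Opens) : Scheme.{u}) ⟶ V.toScheme :=
        IsOpenImmersion.lift V.ι (((⊤ : X₀.Opens).ι ⁻¹ᵁ V).ι ≫ (⊤ : X₀.Opens).ι) (by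
          rw [Scheme.Opens.range_ι]
          rintro _ ⟨x, rfl⟩
          exact x.2)
      have hl : l ≫ X₀.homOfLE (le_top (a := V)) = ((⊤ : X₀.Opens).ι ⁻¹ᵁ V).ι := by
        rw [← cancel_mono (⊤ : X₀.Opens).ι, Category.assoc, Scheme.homOfLE_ι, IsOpenImmersion.lift_fac]
      change ((⊤ : X₀.Opens).ι ⁻¹ᵁ V).ι ≫ a.T.j ≫ φ = ((⊤ : X₀.Opens).ι ⁻¹ᵁ V).ι ≫ b.T.j
      rw [← hl, Category.assoc, Category.assoc, e4]
  · refine hom_ext_im (p₀ := p₀) fun V hV => ?_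
    have hV' : Sm p₀ V := hV
    obtain ⟨-, Z, hZ, hVZ⟩ := hV
    have e3 := hZ.SpecMap_appLE_fromSpec b.st (isAffineOpen_im b.T hV'.1 le_top)
      (b.T.le_of_le b.st p₀ b.w hVZ)
    have e4 := hZ.SpecMap_appLE_fromSpec a.st (isAffineOpen_im a.T hV'.1 le_top)
      (a.T.le_of_le a.st p₀ a.w hVZ)
    change _ ≫ φ ≫ b.st = _
    rw [reassoc_of% (hφ V hV'), ← e3, ← e4, ← Spec.map_comp_assoc]
    congr 2
    ext c
    exact f.st_app hV' le_top hVZ c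

end global

section lift

variable {X : TopCat.{u}} {e : X ≃ₜ X₀} {G : CohTop.Ab X} {B : Band p₀ M e G} {ι : Type u}
  {W : ι → X₀.Opens} {ob : ∀ i, ThOb p₀ M (W i)}
  {hloc : ∀ (i j : ι) (x : X₀), x ∈ W i → x ∈ W j → ∃ U : X₀.Opens, x ∈ U ∧
      Nonempty (TArr (ob i) (ob j) U)} (R : (grb B W ob hloc).Rig)

include R in
/-- Glueing flat lifts along a system of rigidified objects. -/
theorem exists_lift_of_rig {S₀ : Scheme.{u}} (i : S₀ ⟶ S) (f₀ : X₀ ⟶ S₀) (hp : f₀ ≫ i = p₀)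
    (hflat : ∀ k, Flat (ob k).st)
    (hpb : ∀ k, IsPullback (ob k).T.j ((W k).ι ≫ f₀) (ob k).st i) :
    ∃ (X₁ : Scheme.{u}) (f : X₁ ⟶ S) (j : X₀ ⟶ X₁), Flat f ∧ IsPullback j f₀ f i := by
  refine ⟨(thSys R).glued, str R, (thSys R).i, ?_, ?_⟩
  · rw [IsZariskiLocalAtSource.iff_of_openCover (P := @Flat) (thSys R).cov]
    intro V
    have h1 : (thSys R).ι V ≫ str R = stS R V := ι_str R V
    change Flat ((thSys R).ι V ≫ str R)
    rw [h1]
    have hfl : Flat (ob (ix R V)).st := hflat (ix R V)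
    unfold stS
    have ho : IsOpenImmersion
        (isAffineOpen_im (ob (ix R V)).T (smS R V).1 (le_of_RgS R (rg R V))).fromSpec := inferInstance
    have ho' : Flat (isAffineOpen_im (ob (ix R V)).T (smS R V).1 (le_of_RgS R (rg R V))).fromSpec :=
      HasRingHomProperty.of_isOpenImmersion (P := @Flat) RingHom.Flat.containsIdentities
    exact @Flat.comp _ _ _ _ _ ho' hfl
  · refine Groth.Agent.CalgA.TwoGlue.isPullback_of_cover (by rw [i_str, hp]) (thSys R).cov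
      (fun V : JS R => V.1.toScheme) (fun V : JS R => V.1.ι) (fun V : JS R => (thSys R).inc V)
      (fun V => ((thSys R).isPullback_i V).flip) ?_
    intro V
    have h1 : (thSys R).ι V ≫ str R = stS R V := ι_str R V
    change IsPullback ((thSys R).inc V) (V.1.ι ≫ f₀) ((thSys R).ι V ≫ str R) i
    rw [h1]
    have h2 := (isPullback_incS (ob (ix R V)).T (smS R V).1 (le_of_RgS R (rg R V))).paste_vert
      (hpb (ix R V))
    rw [← Category.assoc, Scheme.homOfLE_ι] at h2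
    exact h2

end lift

end K679
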