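import Groth.Agent.Lift.K696.Thk
import Groth.Agent.Lift.K696.LHom
import Groth.Agent.Flat2C.AffineThickening

/-!
# Square-zero thickenings over open subsets and their isomorphisms, on small affine opens

`p₀ : X₀ ⟶ S`, `M` an `O_{X₀}`-module. `Sm p₀ V`: `V` is affine and mapped into an affine open of `S`.
* `SDer p₀ M U`: `S`-derivations `O_{X₀} → M` over `U`, as families over the small affine opens `V ≤ U`;
* `ThOb p₀ M W`: thickenings over `S` of the open `W` with kernel identified with `M`;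
* `TArr a b U`: isomorphisms of thickenings over `U`, as families of ring homomorphisms.
-/

set_option autoImplicit false
universe u

open CategoryTheory CategoryTheory.Limits AlgebraicGeometry Opposite TopologicalSpace
open Groth.Agent.Sga67.Sec (Sec res resO res_res resO_resO res_self resO_self res_smul
  eq_of_locally eqO_of_locally)
open K696.Base K696.Thk

namespace K679

variable {X₀ S : Scheme.{u}} (p₀ : X₀ ⟶ S) (M : X₀.Modules)

/-- Small affine opens. -/
def Sm (V : X₀.Opens) : Prop := IsAffineOpen V ∧ ∃ Z : S.Opens, IsAffineOpen Z ∧ V ≤ p₀ ⁻¹ᵁ Z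

variable {p₀}

theorem Sm.mono {V V' : X₀.Opens} (h : Sm p₀ V) (h' : V' ≤ V) (ha : IsAffineOpen V') : Sm p₀ V' := by
  obtain ⟨_, Z, hZ, hVZ⟩ := h
  exact ⟨ha, Z, hZ, h'.trans hVZ⟩

variable (p₀)

theorem exists_sm (x : X₀) (W : X₀.Opens) (hx : x ∈ W) : ∃ V, Sm p₀ V ∧ x ∈ V ∧ V ≤ W := by
  obtain ⟨_, ⟨Z, hZ, rfl⟩, hxZ, -⟩ := S.isBasis_affineOpens.exists_subset_of_mem_open
    (Set.mem_univ (p₀ x)) isOpen_univ
  obtain ⟨_, ⟨V, hV, rfl⟩, hxV, hVW⟩ := X₀.isBasis_affineOpens.exists_subset_of_mem_open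
    (show x ∈ ((W ⊓ p₀ ⁻¹ᵁ Z : X₀.Opens) : Set X₀) from ⟨hx, hxZ⟩) (W ⊓ p₀ ⁻¹ᵁ Z).2
  exact ⟨V, ⟨hV, Z, hZ, fun y hy => (hVW hy).2⟩, hxV, fun y hy => (hVW hy).1⟩

/-- `S`-derivations `O → M` on the small affine opens contained in `U`. -/
@[ext]
structure SDer (U : X₀.Opens) where
  app : ∀ {V : X₀.Opens}, Sm p₀ V → V ≤ U → (Γ(X₀, V) →+ Sec M V)
  res_app : ∀ {V V' : X₀.Opens} (hV : Sm p₀ V) (hV' : Sm p₀ V') (h : V ≤ U) (h' : V' ≤ V)
    (a : Γ(X₀, V)), app hV' (h'.trans h) (resO X₀ h' a) = res M h' (app hV h a)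
  leib : ∀ {V : X₀.Opens} (hV : Sm p₀ V) (h : V ≤ U) (a b : Γ(X₀, V)),
    app hV h (a * b) = a • app hV h b + b • app hV h a
  kill : ∀ {V : X₀.Opens} (hV : Sm p₀ V) (h : V ≤ U) {Z : S.Opens} (hZ : V ≤ p₀ ⁻¹ᵁ Z)
    (c : Γ(S, Z)), app hV h (ev p₀ hZ c) = 0

namespace SDer

variable {p₀ M} {U : X₀.Opens}

theorem ext' {D D' : SDer p₀ M U} (h : ∀ (V : X₀.Opens) (hV : Sm p₀ V) (hU : V ≤ U)
    (a : Γ(X₀, V)), D.app hV hU a = D'.app hV hU a) : D = D' := by
  ext V hV hU a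
  exact h V hV hU a

instance : Zero (SDer p₀ M U) := ⟨
  { app := fun _ _ => 0
    res_app := fun _ _ _ _ _ => by simp
    leib := fun _ _ _ _ => by simp
    kill := fun _ _ _ _ _ => rfl }⟩

@[simp] theorem zero_app {V : X₀.Opens} (hV : Sm p₀ V) (hU : V ≤ U) (a : Γ(X₀, V)) :
    (0 : SDer p₀ M U).app hV hU a = 0 := rfl

instance : Add (SDer p₀ M U) := ⟨fun D D' =>
  { app := fun hV hU => D.app hV hU + D'.app hV hU
    res_app := fun hV hV' h h' a => by
      rw [AddMonoidHom.add_apply, AddMonoidHom.add_apply, map_add, D.res_app hV hV' h h',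
        D'.res_app hV hV' h h']
    leib := fun hV hU a b => by
      rw [AddMonoidHom.add_apply, AddMonoidHom.add_apply, AddMonoidHom.add_apply, D.leib hV hU,
        D'.leib hV hU, smul_add, smul_add]; abel
    kill := by
      intro V hV hU Z hZ c
      rw [AddMonoidHom.add_apply, D.kill hV hU hZ, D'.kill hV hU hZ, add_zero] }⟩

@[simp] theorem add_app (D D' : SDer p₀ M U) {V : X₀.Opens} (hV : Sm p₀ V) (hU : V ≤ U)
    (a : Γ(X₀, V)) : (D + D').app hV hU a = D.app hV hU a + D'.app hV hU a := rfl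

instance : Neg (SDer p₀ M U) := ⟨fun D =>
  { app := fun hV hU => - D.app hV hU
    res_app := fun hV hV' h h' a => by
      rw [AddMonoidHom.neg_apply, AddMonoidHom.neg_apply, map_neg, D.res_app hV hV' h h']
    leib := fun hV hU a b => by
      rw [AddMonoidHom.neg_apply, AddMonoidHom.neg_apply, AddMonoidHom.neg_apply, D.leib hV hU,
        smul_neg, smul_neg]; abel
    kill := by
      intro V hV hU Z hZ c
      rw [AddMonoidHom.neg_apply, D.kill hV hU hZ, neg_zero] }⟩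

@[simp] theorem neg_app (D : SDer p₀ M U) {V : X₀.Opens} (hV : Sm p₀ V) (hU : V ≤ U)
    (a : Γ(X₀, V)) : (-D).app hV hU a = - D.app hV hU a := rfl

instance : AddCommGroup (SDer p₀ M U) where
  add_assoc a b c := by ext; simp [add_assoc]
  zero_add a := by ext; simp
  add_zero a := by ext; simp
  nsmul := nsmulRec
  zsmul := zsmulRec
  neg_add_cancel a := by ext; simp
  add_comm a b := by ext; simp [add_comm]

@[simp] theorem sub_app (D D' : SDer p₀ M U) {V : X₀.Opens} (hV : Sm p₀ V) (hU : V ≤ U)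
    (a : Γ(X₀, V)) : (D - D').app hV hU a = D.app hV hU a - D'.app hV hU a := by
  rw [sub_eq_add_neg, add_app, neg_app, ← sub_eq_add_neg]

/-- Restriction. -/
def rs {U' : X₀.Opens} (h : U' ≤ U) : SDer p₀ M U →+ SDer p₀ M U' where
  toFun D :=
    { app := fun hV hU => D.app hV (hU.trans h)
      res_app := fun hV hV' _ h' a => D.res_app hV hV' _ h' a
      leib := fun hV _ a b => D.leib hV _ a b
      kill := by
        intro V hV hU Z hZ c
        exact D.kill hV _ hZ c }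
  map_zero' := rfl
  map_add' _ _ := rfl

@[simp] theorem rs_app {U' : X₀.Opens} (h : U' ≤ U) (D : SDer p₀ M U) {V : X₀.Opens}
    (hV : Sm p₀ V) (hU : V ≤ U') (a : Γ(X₀, V)) :
    (rs h D).app hV hU a = D.app hV (hU.trans h) a := rfl

theorem app_one (D : SDer p₀ M U) {V : X₀.Opens} (hV : Sm p₀ V) (hU : V ≤ U) :
    D.app hV hU 1 = 0 := by
  have h := D.leib hV hU 1 1
  rw [mul_one, one_smul] at h
  exact (left_eq_add.mp h)

end SDer

/-- Thickenings over `S` of the open `W` of `X₀` by `M`. -/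
structure ThOb (W : X₀.Opens) where
  T : Th W
  st : T.X ⟶ S
  w : T.j ≫ st = W.ι ≫ p₀
  κ : ∀ {V : X₀.Opens}, Sm p₀ V → V ≤ W → (Sec M V →+ Γ(T.X, T.im V))
  res_κ : ∀ {V V' : X₀.Opens} (hV : Sm p₀ V) (hV' : Sm p₀ V') (h : V ≤ W) (h' : V' ≤ V)
    (m : Sec M V), resO T.X (T.im_mono h') (κ hV h m) = κ hV' (h'.trans h) (res M h' m)
  inj : ∀ {V : X₀.Opens} (hV : Sm p₀ V) (h : V ≤ W) (m : Sec M V), κ hV h m = 0 → m = 0
  π_κ : ∀ {V : X₀.Opens} (hV : Sm p₀ V) (h : V ≤ W) (m : Sec M V), T.π h (κ hV h m) = 0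
  ex : ∀ {V : X₀.Opens} (hV : Sm p₀ V) (h : V ≤ W) (a : Γ(T.X, T.im V)), T.π h a = 0 →
    ∃ m : Sec M V, κ hV h m = a
  smul : ∀ {V : X₀.Opens} (hV : Sm p₀ V) (h : V ≤ W) (a : Γ(T.X, T.im V)) (m : Sec M V),
    κ hV h (T.π h a • m) = a * κ hV h m

/-- The preimage of an affine open under `j`, for a `Th`. -/
theorem isAffineOpen_im {W : X₀.Opens} (T : Th W) {V : X₀.Opens} (hV : IsAffineOpen V) (h : V ≤ W) :
    IsAffineOpen (T.im V) := by
  refine Groth.Agent.Flat2C.AffineThickening.isAffineOpen_of_preimage T.j ?_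
  have h1 : T.j ⁻¹ᵁ T.im V = W.ι ⁻¹ᵁ V := preimage_im T.j _
  rw [h1]
  have h2 : IsAffineOpen (W.ι ''ᵁ (W.ι ⁻¹ᵁ V)) := by
    have h3 : W.ι ''ᵁ (W.ι ⁻¹ᵁ V) = V := le_antisymm (image_preimage_le W V) (le_image_preimage W h)
    rw [h3]
    exact hV
  exact (Scheme.Hom.isAffineOpen_iff_of_isOpenImmersion W.ι).1 h2

theorem π_surjective {W : X₀.Opens} (T : Th W) {V : X₀.Opens} (hV : IsAffineOpen V) (h : V ≤ W) :
    Function.Surjective (T.π h) := by
  intro a
  have hle : T.j ⁻¹ᵁ T.im V ≤ W.ι ⁻¹ᵁ V := (preimage_im T.j (W.ι ⁻¹ᵁ V)).le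
  obtain ⟨b, hb⟩ := T.j.app_surjective (T.im V) (isAffineOpen_im T hV h)
    (resO W.toScheme hle (ev W.ι (le_refl (W.ι ⁻¹ᵁ V)) a))
  refine ⟨b, ?_⟩
  rw [Th.π_apply, ev_eq]
  have hb' : T.j.app (T.im V) b = resO W.toScheme hle (ev W.ι (le_refl (W.ι ⁻¹ᵁ V)) a) := hb
  rw [hb', resO_resO hle, resO_self, down_ev]

namespace ThOb

variable {p₀ M} {W : X₀.Opens} (a : ThOb p₀ M W)

theorem κ_injective {V : X₀.Opens} (hV : Sm p₀ V) (h : V ≤ W) : Function.Injective (a.κ hV h) :=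
  (injective_iff_map_eq_zero _).2 (a.inj hV h)

theorem mul_eq_zero {V : X₀.Opens} (hV : Sm p₀ V) (h : V ≤ W) (m m' : Sec M V) :
    a.κ hV h m * a.κ hV h m' = 0 := by
  rw [← a.smul, a.π_κ, zero_smul, map_zero]

theorem surj {V : X₀.Opens} (hV : Sm p₀ V) (h : V ≤ W) : Function.Surjective (a.T.π h) :=
  π_surjective a.T hV.1 h

/-- Inverse of `κ` on the kernel of `π`. -/
noncomputable def lift {V : X₀.Opens} (hV : Sm p₀ V) (h : V ≤ W) (x : Γ(a.T.X, a.T.im V))
    (hx : a.T.π h x = 0) : Sec M V := (a.ex hV h x hx).choose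

theorem κ_lift {V : X₀.Opens} (hV : Sm p₀ V) (h : V ≤ W) (x : Γ(a.T.X, a.T.im V))
    (hx : a.T.π h x = 0) : a.κ hV h (a.lift hV h x hx) = x := (a.ex hV h x hx).choose_spec

end ThOb

/-- Isomorphisms of thickenings over `U`. -/
@[ext]
structure TArr {p₀ : X₀ ⟶ S} {M : X₀.Modules} {W W' : X₀.Opens} (a : ThOb p₀ M W) (b : ThOb p₀ M W')
    (U : X₀.Opens) where
  le_l : U ≤ W
  le_r : U ≤ W'
  app : ∀ {V : X₀.Opens}, Sm p₀ V → V ≤ U → (Γ(b.T.X, b.T.im V) →+* Γ(a.T.X, a.T.im V))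
  res_app : ∀ {V V' : X₀.Opens} (hV : Sm p₀ V) (hV' : Sm p₀ V') (h : V ≤ U) (h' : V' ≤ V)
    (s : Γ(b.T.X, b.T.im V)), app hV' (h'.trans h) (resO b.T.X (b.T.im_mono h') s) =
      resO a.T.X (a.T.im_mono h') (app hV h s)
  π_app : ∀ {V : X₀.Opens} (hV : Sm p₀ V) (h : V ≤ U) (s : Γ(b.T.X, b.T.im V)),
    a.T.π (h.trans le_l) (app hV h s) = b.T.π (h.trans le_r) s
  κ_app : ∀ {V : X₀.Opens} (hV : Sm p₀ V) (h : V ≤ U) (m : Sec M V),
    app hV h (b.κ hV (h.trans le_r) m) = a.κ hV (h.trans le_l) m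
  st_app : ∀ {V : X₀.Opens} (hV : Sm p₀ V) (h : V ≤ U) {Z : S.Opens} (hZ : V ≤ p₀ ⁻¹ᵁ Z)
    (c : Γ(S, Z)), app hV h (ev b.st (b.T.le_of_le b.st p₀ b.w hZ) c) =
      ev a.st (a.T.le_of_le a.st p₀ a.w hZ) c

namespace TArr

variable {p₀ M} {W₁ W₂ W₃ W₄ : X₀.Opens} {a : ThOb p₀ M W₁} {b : ThOb p₀ M W₂} {c : ThOb p₀ M W₃}
  {d : ThOb p₀ M W₄} {U : X₀.Opens}

theorem ext' {f g : TArr a b U} (h : ∀ (V : X₀.Opens) (hV : Sm p₀ V) (hU : V ≤ U)
    (s : Γ(b.T.X, b.T.im V)), f.app hV hU s = g.app hV hU s) : f = g := by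
  ext V hV hU s
  exact h V hV hU s

/-- Restriction. -/
def rs {U' : X₀.Opens} (h : U' ≤ U) (f : TArr a b U) : TArr a b U' where
  le_l := h.trans f.le_l
  le_r := h.trans f.le_r
  app hV hU := f.app hV (hU.trans h)
  res_app hV hV' _ h' s := f.res_app hV hV' _ h' s
  π_app hV _ s := f.π_app hV _ s
  κ_app hV _ m := f.κ_app hV _ m
  st_app := by
    intro V hV hU Z hZ c
    exact f.st_app hV _ hZ c

@[simp] theorem rs_app {U' : X₀.Opens} (h : U' ≤ U) (f : TArr a b U) {V : X₀.Opens} (hV : Sm p₀ V)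
    (hU : V ≤ U') (s : Γ(b.T.X, b.T.im V)) : (f.rs h).app hV hU s = f.app hV (hU.trans h) s := rfl

/-- The identity. -/
def one (a : ThOb p₀ M W₁) (h : U ≤ W₁) : TArr a a U where
  le_l := h
  le_r := h
  app _ _ := RingHom.id _
  res_app _ _ _ _ _ := rfl
  π_app _ _ _ := rfl
  κ_app _ _ _ := rfl
  st_app _ _ _ _ _ := rfl

@[simp] theorem one_app (h : U ≤ W₁) {V : X₀.Opens} (hV : Sm p₀ V)
    (hU : V ≤ U) (s : Γ(a.T.X, a.T.im V)) : (one a h).app hV hU s = s := rfl

/-- Composition. -/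
def comp (f : TArr a b U) (g : TArr b c U) : TArr a c U where
  le_l := f.le_l
  le_r := g.le_r
  app hV hU := (f.app hV hU).comp (g.app hV hU)
  res_app hV hV' hU h' s := by
    rw [RingHom.comp_apply, RingHom.comp_apply, g.res_app hV hV' hU h', f.res_app hV hV' hU h']
  π_app hV hU s := by rw [RingHom.comp_apply, f.π_app, g.π_app]
  κ_app hV hU m := by rw [RingHom.comp_apply, g.κ_app, f.κ_app]
  st_app := by
    intro V hV hU Z hZ c
    rw [RingHom.comp_apply, g.st_app hV hU hZ, f.st_app hV hU hZ]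

@[simp] theorem comp_app (f : TArr a b U) (g : TArr b c U) {V : X₀.Opens} (hV : Sm p₀ V)
    (hU : V ≤ U) (s : Γ(c.T.X, c.T.im V)) : (f.comp g).app hV hU s = f.app hV hU (g.app hV hU s) := rfl

theorem bijective (f : TArr a b U) {V : X₀.Opens} (hV : Sm p₀ V) (hU : V ≤ U) :
    Function.Bijective (f.app hV hU) := by
  constructor
  · rw [injective_iff_map_eq_zero]
    intro s hs
    have h1 : b.T.π (hU.trans f.le_r) s = 0 := by rw [← f.π_app hV hU, hs, map_zero]
    obtain ⟨m, rfl⟩ := b.ex hV _ s h1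
    rw [f.κ_app] at hs
    rw [a.inj hV _ m hs, map_zero]
  · intro s
    obtain ⟨t, ht⟩ := b.surj hV (hU.trans f.le_r) (a.T.π (hU.trans f.le_l) s)
    have h1 : a.T.π (hU.trans f.le_l) (f.app hV hU t - s) = 0 := by
      rw [map_sub, f.π_app, ht, sub_self]
    obtain ⟨m, hm⟩ := a.ex hV _ _ h1
    refine ⟨t - b.κ hV (hU.trans f.le_r) m, ?_⟩
    rw [map_sub, f.κ_app, hm, sub_sub_cancel]

/-- The ring isomorphism on sections. -/
noncomputable def equiv (f : TArr a b U) {V : X₀.Opens} (hV : Sm p₀ V) (hU : V ≤ U) :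
    Γ(b.T.X, b.T.im V) ≃+* Γ(a.T.X, a.T.im V) :=
  RingEquiv.ofBijective (f.app hV hU) (f.bijective hV hU)

theorem app_equiv_symm (f : TArr a b U) {V : X₀.Opens} (hV : Sm p₀ V) (hU : V ≤ U)
    (s : Γ(a.T.X, a.T.im V)) : f.app hV hU ((f.equiv hV hU).symm s) = s :=
  (f.equiv hV hU).apply_symm_apply s

/-- The inverse. -/
noncomputable def symm (f : TArr a b U) : TArr b a U where
  le_l := f.le_r
  le_r := f.le_l
  app hV hU := (f.equiv hV hU).symm.toRingHom
  res_app hV hV' hU h' s := by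
    apply (f.bijective hV' (h'.trans hU)).1
    change f.app hV' _ ((f.equiv hV' _).symm _) = f.app hV' _ (resO _ _ ((f.equiv hV hU).symm s))
    rw [app_equiv_symm, f.res_app hV hV' hU h', app_equiv_symm]
  π_app hV hU s := by
    rw [← f.π_app hV hU]
    change a.T.π _ (f.app hV hU ((f.equiv hV hU).symm s)) = _
    rw [app_equiv_symm]
  κ_app hV hU m := by
    apply (f.bijective hV hU).1
    change f.app hV hU ((f.equiv hV hU).symm _) = _
    rw [app_equiv_symm, f.κ_app]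
  st_app := by
    intro V hV hU Z hZ c
    apply (f.bijective hV hU).1
    change f.app hV hU ((f.equiv hV hU).symm _) = _
    rw [app_equiv_symm, f.st_app hV hU hZ]

/-- The difference of two isomorphisms on sections. -/
noncomputable def difHom (f g : TArr a b U) {V : X₀.Opens} (hV : Sm p₀ V) (hU : V ≤ U) :
    Γ(X₀, V) →+ Sec M V := by
  have key : ∀ s : Γ(X₀, V), ∃ m : Sec M V, ∀ t : Γ(b.T.X, b.T.im V),
      b.T.π (hU.trans f.le_r) t = s → a.κ hV (hU.trans f.le_l) m = f.app hV hU t - g.app hV hU t := by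
    intro s
    obtain ⟨t, rfl⟩ := b.surj hV (hU.trans f.le_r) s
    obtain ⟨m, hm⟩ := a.ex hV (hU.trans f.le_l) (f.app hV hU t - g.app hV hU t) (by
      rw [map_sub, f.π_app, g.π_app, sub_self])
    refine ⟨m, fun t' ht' => ?_⟩
    obtain ⟨n, hn⟩ := b.ex hV (hU.trans f.le_r) (t' - t) (by rw [map_sub, ht', sub_self])
    have : t' = t + b.κ hV (hU.trans f.le_r) n := by rw [hn]; ring
    rw [hm, this, map_add, map_add, f.κ_app, g.κ_app]
    ring
  refine
    { toFun := fun s => (key s).choose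
      map_zero' := ?_
      map_add' := ?_ }
  · apply a.κ_injective hV (hU.trans f.le_l)
    rw [(key 0).choose_spec 0 (map_zero _), map_zero, map_zero, map_zero, sub_zero]
  · intro s s'
    obtain ⟨t, rfl⟩ := b.surj hV (hU.trans f.le_r) s
    obtain ⟨t', rfl⟩ := b.surj hV (hU.trans f.le_r) s'
    apply a.κ_injective hV (hU.trans f.le_l)
    rw [(key _).choose_spec (t + t') (map_add _ _ _), map_add (a.κ hV _), (key _).choose_spec t rfl,
      (key _).choose_spec t' rfl, map_add, map_add]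
    ring

theorem κ_difHom (f g : TArr a b U) {V : X₀.Opens} (hV : Sm p₀ V) (hU : V ≤ U)
    (t : Γ(b.T.X, b.T.im V)) :
    a.κ hV (hU.trans f.le_l) (difHom f g hV hU (b.T.π (hU.trans f.le_r) t)) =
      f.app hV hU t - g.app hV hU t := by
  have key : ∀ s : Γ(X₀, V), ∃ m : Sec M V, ∀ t : Γ(b.T.X, b.T.im V),
      b.T.π (hU.trans f.le_r) t = s → a.κ hV (hU.trans f.le_l) m = f.app hV hU t - g.app hV hU t := by
    intro s
    obtain ⟨t, rfl⟩ := b.surj hV (hU.trans f.le_r) s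
    obtain ⟨m, hm⟩ := a.ex hV (hU.trans f.le_l) (f.app hV hU t - g.app hV hU t) (by
      rw [map_sub, f.π_app, g.π_app, sub_self])
    refine ⟨m, fun t' ht' => ?_⟩
    obtain ⟨n, hn⟩ := b.ex hV (hU.trans f.le_r) (t' - t) (by rw [map_sub, ht', sub_self])
    have : t' = t + b.κ hV (hU.trans f.le_r) n := by rw [hn]; ring
    rw [hm, this, map_add, map_add, f.κ_app, g.κ_app]
    ring
  exact (key (b.T.π (hU.trans f.le_r) t)).choose_spec t rfl

/-- The difference of two isomorphisms. -/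
noncomputable def diff (f g : TArr a b U) : SDer p₀ M U where
  app hV hU := difHom f g hV hU
  res_app hV hV' hU h' s := by
    obtain ⟨t, rfl⟩ := b.surj hV (hU.trans f.le_r) s
    apply a.κ_injective hV' (h'.trans (hU.trans f.le_l))
    rw [b.T.resO_π (hU.trans f.le_r) h', ← a.res_κ hV hV' (hU.trans f.le_l) h']
    rw [κ_difHom f g hV hU]
    refine (κ_difHom f g hV' (h'.trans hU) (resO b.T.X (b.T.im_mono h') t)).trans ?_
    rw [f.res_app hV hV' hU h', g.res_app hV hV' hU h', map_sub]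
  leib hV hU s s' := by
    obtain ⟨t, rfl⟩ := b.surj hV (hU.trans f.le_r) s
    obtain ⟨t', rfl⟩ := b.surj hV (hU.trans f.le_r) s'
    apply a.κ_injective hV (hU.trans f.le_l)
    rw [← map_mul, κ_difHom, map_add (a.κ hV _), map_mul, map_mul]
    nth_rw 1 [← f.π_app hV hU t]
    nth_rw 2 [← g.π_app hV hU t']
    rw [a.smul, a.smul, κ_difHom, κ_difHom]
    ring
  kill := by
    intro V hV hU Z hZ c
    apply a.κ_injective hV (hU.trans f.le_l)
    have h1 := b.T.π_ev b.st p₀ b.w (hU.trans f.le_r) hZ (b.T.le_of_le b.st p₀ b.w hZ) c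
    rw [← h1, κ_difHom, f.st_app hV hU hZ, g.st_app hV hU hZ, sub_self, map_zero]

theorem κ_diff (f g : TArr a b U) {V : X₀.Opens} (hV : Sm p₀ V) (hU : V ≤ U)
    (t : Γ(b.T.X, b.T.im V)) :
    a.κ hV (hU.trans f.le_l) ((diff f g).app hV hU (b.T.π (hU.trans f.le_r) t)) =
      f.app hV hU t - g.app hV hU t := κ_difHom f g hV hU t

theorem rs_diff (f g : TArr a b U) {U' : X₀.Opens} (h : U' ≤ U) :
    (diff f g).rs h = diff (f.rs h) (g.rs h) := by
  apply SDer.ext'
  intro V hV hU s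
  obtain ⟨t, rfl⟩ := b.surj hV (hU.trans (h.trans f.le_r)) s
  apply a.κ_injective hV (hU.trans (h.trans f.le_l))
  exact (κ_diff f g hV (hU.trans h) t).trans (κ_diff (f.rs h) (g.rs h) hV hU t).symm

theorem diff_add (f g h : TArr a b U) : diff f g + diff g h = diff f h := by
  apply SDer.ext'
  intro V hV hU s
  obtain ⟨t, rfl⟩ := b.surj hV (hU.trans f.le_r) s
  apply a.κ_injective hV (hU.trans f.le_l)
  rw [SDer.add_app, map_add (a.κ hV _), κ_diff, κ_diff]
  refine Eq.trans ?_ (κ_diff f h hV hU t).symm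
  ring

theorem eq_of_diff (f g : TArr a b U) (h : diff f g = 0) : f = g := by
  apply TArr.ext'
  intro V hV hU t
  have h1 := κ_diff f g hV hU t
  rw [h, SDer.zero_app, map_zero] at h1
  exact (sub_eq_zero.1 h1.symm)

theorem diff_comp (f f' : TArr a b U) (g g' : TArr b c U) :
    diff (f.comp g) (f'.comp g') = diff f f' + diff g g' := by
  apply SDer.ext'
  intro V hV hU s
  obtain ⟨t, rfl⟩ := c.surj hV (hU.trans g.le_r) s
  apply a.κ_injective hV (hU.trans f.le_l)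
  have e1 := κ_diff (f.comp g) (f'.comp g') hV hU t
  have e2 := κ_diff f f' hV hU (g.app hV hU t)
  have e3 := κ_diff g g' hV hU t
  rw [g.π_app] at e2
  have e4 := f'.κ_app hV hU ((diff g g').app hV hU (c.T.π (hU.trans g.le_r) t))
  rw [SDer.add_app, map_add (a.κ hV _), e2]
  refine e1.trans ?_
  have e5 : a.κ hV (hU.trans f.le_l) ((diff g g').app hV hU (c.T.π (hU.trans g.le_r) t)) =
      f'.app hV hU (g.app hV hU t) - f'.app hV hU (g'.app hV hU t) := by
    rw [← map_sub, ← e3]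
    exact e4.symm
  rw [e5, comp_app, comp_app]
  ring

/-- The isomorphism `f + D`. -/
noncomputable def add (f : TArr a b U) (D : SDer p₀ M U) : TArr a b U where
  le_l := f.le_l
  le_r := f.le_r
  app {V} hV hU :=
    { toFun := fun t => f.app hV hU t + a.κ hV (hU.trans f.le_l) (D.app hV hU (b.T.π (hU.trans f.le_r) t))
      map_one' := by rw [map_one, map_one, D.app_one, map_zero, add_zero]
      map_mul' := fun t t' => by
        have h1 := a.mul_eq_zero hV (hU.trans f.le_l) (D.app hV hU (b.T.π (hU.trans f.le_r) t))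
          (D.app hV hU (b.T.π (hU.trans f.le_r) t'))
        rw [map_mul, map_mul, D.leib, map_add (a.κ hV _)]
        nth_rw 1 [← f.π_app hV hU t]
        nth_rw 2 [← f.π_app hV hU t']
        rw [a.smul, a.smul]
        linear_combination -h1
      map_zero' := by rw [map_zero, map_zero, map_zero, map_zero, add_zero]
      map_add' := fun t t' => by
        rw [map_add, map_add, map_add, map_add]; ring }
  res_app {V V'} hV hV' hU h' t := by
    change f.app hV' _ (resO b.T.X (b.T.im_mono h') t) +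
      a.κ hV' _ (D.app hV' _ (b.T.π _ (resO b.T.X (b.T.im_mono h') t))) =
      resO a.T.X (a.T.im_mono h') (f.app hV hU t + a.κ hV _ (D.app hV hU (b.T.π _ t)))
    rw [map_add, f.res_app hV hV' hU h', a.res_κ hV hV' (hU.trans f.le_l) h',
      ← D.res_app hV hV' hU h', b.T.resO_π (hU.trans f.le_r) h']
  π_app {V} hV hU t := by
    change a.T.π _ (f.app hV hU t + a.κ hV _ (D.app hV hU (b.T.π _ t))) = _
    rw [map_add, f.π_app, a.π_κ, add_zero]
  κ_app {V} hV hU m := by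
    change f.app hV hU _ + a.κ hV _ (D.app hV hU (b.T.π _ _)) = _
    rw [f.κ_app, b.π_κ, map_zero, map_zero, add_zero]
  st_app := by
    intro V hV hU Z hZ c
    change f.app hV hU _ + a.κ hV _ (D.app hV hU (b.T.π _ _)) = _
    rw [f.st_app hV hU hZ, b.T.π_ev b.st p₀ b.w (hU.trans f.le_r) hZ, D.kill hV hU hZ, map_zero, add_zero]

theorem add_app (f : TArr a b U) (D : SDer p₀ M U) {V : X₀.Opens} (hV : Sm p₀ V) (hU : V ≤ U)
    (t : Γ(b.T.X, b.T.im V)) : (f.add D).app hV hU t =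
      f.app hV hU t + a.κ hV (hU.trans f.le_l) (D.app hV hU (b.T.π (hU.trans f.le_r) t)) := rfl

theorem diff_add' (f : TArr a b U) (D : SDer p₀ M U) : diff (f.add D) f = D := by
  apply SDer.ext'
  intro V hV hU s
  obtain ⟨t, rfl⟩ := b.surj hV (hU.trans f.le_r) s
  apply a.κ_injective hV (hU.trans f.le_l)
  refine (κ_diff (f.add D) f hV hU t).trans ?_
  rw [add_app, add_sub_cancel_left]

end TArr

end K679
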