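import Groth.Agent.Deform.K679.ThHom

/-!
# Morphisms from the glued thickening

`θ_comp`: a morphism from the glued thickening to a global thickening gives isomorphisms `θ V` over the
members of the system, compatible with the canonical isomorphisms.
-/

set_option autoImplicit false
universe u

open CategoryTheory CategoryTheory.Limits AlgebraicGeometry Opposite TopologicalSpace
open Groth.Agent.Sga67.Sec (Sec res resO res_res resO_resO res_self resO_self res_smul
  eq_of_locally eqO_of_locally)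
open K696.Base K696.Thk

namespace K679

variable {X₀ S : Scheme.{u}} {p₀ : X₀ ⟶ S} {M : X₀.Modules}

section char

variable {W₁ W₂ : X₀.Opens} {a : ThOb p₀ M W₁} {b : ThOb p₀ M W₂} {U : X₀.Opens} (h₁ : U ≤ W₁)
  (h₂ : U ≤ W₂) (h : (a.T.im U).toScheme ⟶ b.T.X) (hj : jU a.T h₁ ≫ h = X₀.homOfLE h₂ ≫ b.T.j)

/-- The morphism attached to the map on sections. -/
theorem SpecMap_appOfHom {V : X₀.Opens} (hV : IsAffineOpen V) (hVU : V ≤ U) :
    Spec.map (CommRingCat.ofHom (appOfHom h₁ h₂ h hj hVU)) ≫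
      (isAffineOpen_im b.T hV (hVU.trans h₂)).fromSpec =
    (isAffineOpen_im a.T hV (hVU.trans h₁)).isoSpec.inv ≫ a.T.X.homOfLE (a.T.im_mono hVU) ≫ h := by
  have ha := isAffineOpen_im a.T hV (hVU.trans h₁)
  have hle := a.T.im_mono hVU
  have hV₁ : IsAffineOpen ((a.T.im U).ι ⁻¹ᵁ (a.T.im V)) := by
    have h2 : IsAffineOpen ((a.T.im U).ι ''ᵁ ((a.T.im U).ι ⁻¹ᵁ (a.T.im V))) := by
      have h3 : (a.T.im U).ι ''ᵁ ((a.T.im U).ι ⁻¹ᵁ (a.T.im V)) = a.T.im V :=
        le_antisymm (image_preimage_le _ _) (le_image_preimage _ hle)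
      rw [h3]
      exact ha
    exact (Scheme.Hom.isAffineOpen_iff_of_isOpenImmersion (a.T.im U).ι).1 h2
  have e1 := (isAffineOpen_im b.T hV (hVU.trans h₂)).SpecMap_appLE_fromSpec h hV₁
    (le_ofHom h₁ h₂ h hj)
  have e2 := ha.SpecMap_appLE_fromSpec (a.T.im U).ι hV₁ le_rfl
  have e3 : CommRingCat.ofHom (appOfHom h₁ h₂ h hj hVU) =
      h.appLE (b.T.im V) ((a.T.im U).ι ⁻¹ᵁ (a.T.im V)) (le_ofHom h₁ h₂ h hj) ≫
      CommRingCat.ofHom (down (a.T.im U) hle) := rfl
  have e4 : (a.T.im U).ι.appLE (a.T.im V) ((a.T.im U).ι ⁻¹ᵁ (a.T.im V)) le_rfl ≫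
      CommRingCat.ofHom (down (a.T.im U) hle) = 𝟙 _ := by
    ext c
    exact down_ev (a.T.im U) hle c le_rfl
  rw [e3, Spec.map_comp, Category.assoc, e1, ← Category.assoc, ← Category.assoc]
  congr 1
  rw [← cancel_mono (a.T.im U).ι, Category.assoc, Category.assoc, Scheme.homOfLE_ι, ← e2,
    ← Category.assoc, ← Spec.map_comp, e4, Spec.map_id]
  exact (Category.id_comp _).trans ha.isoSpec_inv_ι.symm

end char

section desc

variable {X : TopCat.{u}} {e : X ≃ₜ X₀} {G : CohTop.Ab X} {B : Band p₀ M e G} {ι : Type u}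
  {W : ι → X₀.Opens} {ob : ∀ i, ThOb p₀ M (W i)}
  {hloc : ∀ (i j : ι) (x : X₀), x ∈ W i → x ∈ W j → ∃ U : X₀.Opens, x ∈ U ∧
      Nonempty (TArr (ob i) (ob j) U)} (R : (grb B W ob hloc).Rig)

/-- The open immersion in the glued thickening. -/
noncomputable def muS (V : JS R) : ((ob (ix R V)).T.im V.1).toScheme ⟶ (thSys R).glued :=
  (isAffine_imS R V).isoSpec.hom ≫ (thSys R).ι V

theorem jU_isoSpec (V : JS R) : jU (ob (ix R V)).T (le_of_RgS R (rg R V)) ≫
    (isAffine_imS R V).isoSpec.hom = incS (ob (ix R V)).T (le_of_RgS R (rg R V)) := by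
  rw [← cancel_mono (isAffine_imS R V).fromSpec, Category.assoc,
    IsAffineOpen.isoSpec_hom_fromSpec, jU_ι]
  exact (incS_fromSpec (ob (ix R V)).T (smS R V).1 (le_of_RgS R (rg R V))).symm

theorem jU_muS (V : JS R) : jU (ob (ix R V)).T (le_of_RgS R (rg R V)) ≫ muS R V =
    V.1.ι ≫ (thSys R).i := by
  unfold muS
  rw [← Category.assoc, jU_isoSpec]
  exact ((thSys R).ι_i V).symm

theorem muS_str (V : JS R) : muS R V ≫ str R =
    ((ob (ix R V)).T.im V.1).ι ≫ (ob (ix R V)).st := by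
  have h1 : (thSys R).ι V ≫ str R = stS R V := ι_str R V
  unfold muS
  refine (Category.assoc _ _ _).trans ((congrArg _ h1).trans ?_)
  unfold stS
  rw [← Category.assoc, IsAffineOpen.isoSpec_hom_fromSpec]

variable {b : ThOb p₀ M ⊤} (Φ : (thSys R).glued ⟶ b.T.X)
  (hj : ∀ V : JS R, jU (ob (ix R V)).T (le_of_RgS R (rg R V)) ≫ muS R V ≫ Φ =
    X₀.homOfLE (le_top : V.1 ≤ ⊤) ≫ b.T.j)
  (θ : ∀ V : JS R, TArr (ob (ix R V)) b V.1)
  (hθ : ∀ (V : JS R) {T : X₀.Opens} (hT : Sm p₀ T) (hTV : T ≤ V.1) (s : Γ(b.T.X, b.T.im T)),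
    (θ V).app hT hTV s = appOfHom (a := ob (ix R V)) (b := b) (le_of_RgS R (rg R V)) le_top
      (muS R V ≫ Φ) (hj V) hTV s)

include hθ in
theorem SpecMap_θ (V : JS R) {T : X₀.Opens} (hT : Sm p₀ T) (hTV : T ≤ V.1) :
    Spec.map (CommRingCat.ofHom ((θ V).app hT hTV)) ≫
      (isAffineOpen_im b.T hT.1 le_top).fromSpec =
    Spec.map (CommRingCat.ofHom (resO (ob (ix R V)).T.X ((ob (ix R V)).T.im_mono hTV))) ≫
      (thSys R).ι V ≫ Φ := by
  have h1 : (θ V).app hT hTV = appOfHom (a := ob (ix R V)) (b := b) (le_of_RgS R (rg R V)) le_top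
      (muS R V ≫ Φ) (hj V) hTV := RingHom.ext fun s => hθ V hT hTV s
  have h2 := SpecMap_appOfHom (a := ob (ix R V)) (b := b) (le_of_RgS R (rg R V)) le_top
      (muS R V ≫ Φ) (hj V) hT.1 hTV
  have ha := isAffineOpen_im (ob (ix R V)).T hT.1 (hTV.trans (le_of_RgS R (rg R V)))
  have e2 := (isAffine_imS R V).map_fromSpec ha (homOfLE ((ob (ix R V)).T.im_mono hTV)).op
  have e3 : ha.isoSpec.inv ≫ (ob (ix R V)).T.X.homOfLE ((ob (ix R V)).T.im_mono hTV) ≫
      (isAffine_imS R V).isoSpec.hom =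
      Spec.map (CommRingCat.ofHom (resO (ob (ix R V)).T.X ((ob (ix R V)).T.im_mono hTV))) := by
    rw [← cancel_mono (isAffine_imS R V).fromSpec, Category.assoc, Category.assoc,
      IsAffineOpen.isoSpec_hom_fromSpec, Scheme.homOfLE_ι, ha.isoSpec_inv_ι]
    exact e2.symm
  have e4 : muS R V ≫ Φ = (isAffine_imS R V).isoSpec.hom ≫ ((thSys R).ι V ≫ Φ) :=
    Category.assoc _ _ _
  rw [h1]
  refine h2.trans ?_
  rw [e4, ← e3, Category.assoc, Category.assoc]

include hθ in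
/-- The isomorphisms given by a morphism are compatible with the canonical isomorphisms. -/
theorem θ_comp {V V' : JS R} (h : V' ≤ V) {T : X₀.Opens} (hT : Sm p₀ T) (hTV : T ≤ V'.1)
    (s : Γ(b.T.X, b.T.im T)) : (θ V').app hT hTV s =
      (eS R (rg R V') (resS R h (rg R V))).app hT hTV ((θ V).app hT (hTV.trans h) s) := by
  have hle : V'.1 ≤ V.1 := h
  let T' : JS R := ⟨T, hT, ix R V, ⟨resS R (hTV.trans hle) (rg R V)⟩⟩
  have key : ∀ (A : JS R) (hA : T ≤ A.1) (s : Γ(b.T.X, b.T.im T)), T' ≤ A →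
      Spec.map (CommRingCat.ofHom ((eS R (rg R T') (resS R hA (rg R A))).app hT le_rfl)) ≫
        Spec.map (CommRingCat.ofHom ((θ A).app hT hA)) ≫
          (isAffineOpen_im b.T hT.1 le_top).fromSpec = (thSys R).ι T' ≫ Φ := by
    intro A hA s hA'
    have e1 : trS R hA' ≫ (thSys R).ι A = (thSys R).ι T' := (thSys R).tr_ι hA'
    rw [SpecMap_θ R Φ hj θ hθ A hT hA]
    refine Eq.trans ?_ (congrArg (fun t => t ≫ Φ) e1)
    unfold trS
    have e2 : CommRingCat.ofHom (rho R hA') =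
        CommRingCat.ofHom (resO (ob (ix R A)).T.X ((ob (ix R A)).T.im_mono hA)) ≫
          CommRingCat.ofHom ((eS R (rg R T') (resS R hA (rg R A))).app hT le_rfl) := rfl
    rw [e2, Spec.map_comp]
    simp only [Category.assoc]
  have k1 := (key V (hTV.trans hle) s (hTV.trans hle)).trans (key V' hTV s hTV).symm
  rw [← Category.assoc, ← Category.assoc, cancel_mono, ← Spec.map_comp, ← Spec.map_comp] at k1
  have k2 := congr($(Spec.map_injective k1) s)
  have k3 : (eS R (rg R T') (resS R (hTV.trans hle) (rg R V))).app hT le_rfl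
      ((θ V).app hT (hTV.trans hle) s) =
      (eS R (rg R T') (resS R hTV (rg R V'))).app hT le_rfl ((θ V').app hT hTV s) := k2
  have k4 := comp_eS R (rg R T') (resS R hTV (rg R V')) (resS R hTV (resS R hle (rg R V)))
  rw [← rs_eS, resS_resS] at k4
  apply ((eS R (rg R T') (resS R hTV (rg R V'))).bijective hT le_rfl).1
  rw [← k3, ← k4]
  rfl

end desc

end K679
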