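import Groth.Agent.Deform.K679.ThArr
import Groth.Agent.Deform.K679.Gerbe

/-!
# The gerbe of thickenings

* `TArr.exists_glue`: isomorphisms of thickenings glue;
* `Band`: an abelian sheaf on a space with the same opens as `X₀`, with sections the `S`-derivations `O → M`;
* `grb`: the gerbe attached to a family of thickenings which are locally isomorphic.
-/

set_option autoImplicit false
universe u

open CategoryTheory CategoryTheory.Limits AlgebraicGeometry Opposite TopologicalSpace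
open Groth.Agent.Sga67.Sec (Sec res resO res_res resO_resO res_self resO_self res_smul
  eq_of_locally eqO_of_locally)
open K696.Base K696.Thk

namespace K679

variable {X₀ S : Scheme.{u}} {p₀ : X₀ ⟶ S} {M : X₀.Modules}

theorem mem_thIm {W : X₀.Opens} (T : Th W) {V : X₀.Opens} (y : W) : T.j y ∈ T.im V ↔ y.1 ∈ V :=
  mem_im_iff T.j

/-- Sections over `T.im V` agree if they agree on a basis of opens below `V`. -/
theorem ext_im {W : X₀.Opens} (T : Th W) {V : X₀.Opens} (P : X₀.Opens → Prop)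
    (hP : ∀ x ∈ V, ∃ V', P V' ∧ x ∈ V' ∧ V' ≤ V) {s s' : Γ(T.X, T.im V)}
    (h : ∀ (V' : X₀.Opens) (h' : V' ≤ V), P V' →
      resO T.X (T.im_mono h') s = resO T.X (T.im_mono h') s') : s = s' := by
  refine eqO_of_locally fun x hx => ?_
  obtain ⟨y, rfl⟩ := T.j.surjective x
  rw [mem_thIm] at hx
  obtain ⟨V', hV', hy, hle⟩ := hP y.1 hx
  exact ⟨T.im V', T.im_mono hle, (mem_thIm T y).2 hy, h V' hle hV'⟩

/-- Glueing sections over `T.im V`. -/
theorem glue_im {W : X₀.Opens} (T : Th W) {V : X₀.Opens} (P : X₀.Opens → Prop)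
    (hP : ∀ x ∈ V, ∃ V', P V' ∧ x ∈ V' ∧ V' ≤ V)
    (hP2 : ∀ V' V'' x, P V' → P V'' → x ∈ V' → x ∈ V'' → V' ≤ V → V'' ≤ V →
      ∃ V₃, P V₃ ∧ x ∈ V₃ ∧ V₃ ≤ V' ∧ V₃ ≤ V'')
    (t : ∀ V' : X₀.Opens, P V' → V' ≤ V → Γ(T.X, T.im V'))
    (ht : ∀ (V' V'' : X₀.Opens) (h' : P V') (h'' : P V'') (hle : V'' ≤ V') (hV : V' ≤ V),
      resO T.X (T.im_mono hle) (t V' h' hV) = t V'' h'' (hle.trans hV)) :
    ∃ s : Γ(T.X, T.im V), ∀ (V' : X₀.Opens) (h' : P V') (hle : V' ≤ V),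
      resO T.X (T.im_mono hle) s = t V' h' hle := by
  obtain ⟨s, hs⟩ := K696.LHom.exists_glue_fn (X := T.X) (W := T.im V)
    (ι := {V' : X₀.Opens // P V' ∧ V' ≤ V}) (fun i => T.im i.1) (fun i => T.im_mono i.2.2)
    (fun x hx => by
      obtain ⟨y, rfl⟩ := T.j.surjective x
      rw [mem_thIm] at hx
      obtain ⟨V', hV', hy, hle⟩ := hP y.1 hx
      exact ⟨⟨V', hV', hle⟩, (mem_thIm T y).2 hy⟩)
    (fun i => t i.1 i.2.1 i.2.2) (by
      rintro ⟨V', h', hle'⟩ ⟨V'', h'', hle''⟩ x hx hx'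
      obtain ⟨y, rfl⟩ := T.j.surjective x
      rw [mem_thIm] at hx hx'
      obtain ⟨V₃, h₃, hy, hle, hle2⟩ := hP2 V' V'' y.1 h' h'' hx hx' hle' hle''
      refine ⟨T.im V₃, T.im_mono hle, T.im_mono hle2, (mem_thIm T y).2 hy, ?_⟩
      rw [ht V' V₃ h' h₃ hle hle', ht V'' V₃ h'' h₃ hle2 hle''])
  exact ⟨s, fun V' h' hle => hs ⟨V', h', hle⟩⟩

variable {W₁ W₂ : X₀.Opens} {a : ThOb p₀ M W₁} {b : ThOb p₀ M W₂}

/-- Isomorphisms of thickenings glue. -/
theorem TArr.exists_glue {U : X₀.Opens} {κ : Type u} (Vs : κ → X₀.Opens) (hVs : ∀ i, Vs i ≤ U)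
    (hc : U ≤ iSup Vs) (f : ∀ i, TArr a b (Vs i))
    (hf : ∀ i j, (f i).rs (inf_le_left : Vs i ⊓ Vs j ≤ Vs i) =
      (f j).rs (inf_le_right : Vs i ⊓ Vs j ≤ Vs j)) :
    ∃ g : TArr a b U, ∀ i, g.rs (hVs i) = f i := by
  let P : X₀.Opens → Prop := fun V => Sm p₀ V ∧ ∃ i, V ≤ Vs i
  have hW₁ : U ≤ W₁ := hc.trans (iSup_le fun i => (f i).le_l)
  have hW₂ : U ≤ W₂ := hc.trans (iSup_le fun i => (f i).le_r)
  have hP : ∀ V ≤ U, ∀ x ∈ V, ∃ V', P V' ∧ x ∈ V' ∧ V' ≤ V := by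
    intro V hV x hx
    obtain ⟨i, hi⟩ := Opens.mem_iSup.1 (hc (hV hx))
    obtain ⟨V', h1, h2, h3⟩ := exists_sm p₀ x (V ⊓ Vs i) ⟨hx, hi⟩
    exact ⟨V', ⟨h1, i, h3.trans inf_le_right⟩, h2, h3.trans inf_le_left⟩
  have hP2 : ∀ (V' V'' : X₀.Opens) (x : X₀), P V' → P V'' → x ∈ V' → x ∈ V'' →
      ∃ V₃, P V₃ ∧ x ∈ V₃ ∧ V₃ ≤ V' ∧ V₃ ≤ V'' := by
    rintro V' V'' x ⟨h1, i, hi⟩ _ hx' hx''
    obtain ⟨V₃, h4, h5, h6⟩ := exists_sm p₀ x (V' ⊓ V'') ⟨hx', hx''⟩
    exact ⟨V₃, ⟨h4, i, (h6.trans inf_le_left).trans hi⟩, h5, h6.trans inf_le_left, h6.trans inf_le_right⟩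
  have hf' : ∀ (i j : κ) {V : X₀.Opens} (hV : Sm p₀ V) (hi : V ≤ Vs i) (hj : V ≤ Vs j)
      (s : Γ(b.T.X, b.T.im V)), (f i).app hV hi s = (f j).app hV hj s := fun i j V hV hi hj s =>
    congrArg (fun θ : TArr a b (Vs i ⊓ Vs j) => θ.app hV (le_inf hi hj) s) (hf i j)
  -- the local values
  let t : ∀ {V : X₀.Opens} (s : Γ(b.T.X, b.T.im V)) (V' : X₀.Opens), P V' → V' ≤ V →
      Γ(a.T.X, a.T.im V') := fun {V} s V' h' hle =>
    (f h'.2.choose).app h'.1 h'.2.choose_spec (resO b.T.X (b.T.im_mono hle) s)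
  have t_eq : ∀ {V : X₀.Opens} (s : Γ(b.T.X, b.T.im V)) (V' : X₀.Opens) (h' : P V') (hle : V' ≤ V)
      (i : κ) (hi : V' ≤ Vs i), t s V' h' hle = (f i).app h'.1 hi (resO b.T.X (b.T.im_mono hle) s) :=
    fun s V' h' hle i hi => hf' _ _ _ _ _ _
  have key : ∀ {V : X₀.Opens} (_ : V ≤ U) (s : Γ(b.T.X, b.T.im V)),
      ∃ r : Γ(a.T.X, a.T.im V), ∀ (V' : X₀.Opens) (h' : P V') (hle : V' ≤ V),
        resO a.T.X (a.T.im_mono hle) r = t s V' h' hle := by
    intro V hV s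
    refine glue_im a.T P (hP V hV) (fun V' V'' x h' h'' hx hx' _ _ => hP2 V' V'' x h' h'' hx hx') (t s) ?_
    intro V' V'' h' h'' hle hle'
    obtain ⟨i, hi⟩ := h'.2
    rw [t_eq s V' h' hle' i hi, t_eq s V'' h'' (hle.trans hle') i (hle.trans hi),
      ← (f i).res_app h'.1 h''.1 hi hle, resO_resO]
  choose r hr using @key
  have hu : ∀ {V : X₀.Opens} (_ : V ≤ U) (s s' : Γ(a.T.X, a.T.im V)),
      (∀ (V' : X₀.Opens) (_ : P V') (hle : V' ≤ V), resO a.T.X (a.T.im_mono hle) s =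
        resO a.T.X (a.T.im_mono hle) s') → s = s' := fun {V} hV s s' h =>
    ext_im a.T P (hP V hV) fun V' h' hV' => h V' hV' h'
  let g : TArr a b U :=
    { le_l := hW₁
      le_r := hW₂
      app := fun {V} hV hU =>
        { toFun := fun s => r hU s
          map_one' := hu hU _ _ fun V' h' hle => by
            rw [hr hU 1 V' h' hle, map_one]
            obtain ⟨i, hi⟩ := h'.2
            rw [t_eq 1 V' h' hle i hi, map_one, map_one]
          map_mul' := fun s s' => hu hU _ _ fun V' h' hle => by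
            obtain ⟨i, hi⟩ := h'.2
            rw [map_mul (resO a.T.X _), hr hU _ V' h' hle, hr hU _ V' h' hle, hr hU _ V' h' hle,
              t_eq _ V' h' hle i hi, t_eq _ V' h' hle i hi, t_eq _ V' h' hle i hi, map_mul, map_mul]
          map_zero' := hu hU _ _ fun V' h' hle => by
            rw [hr hU 0 V' h' hle, map_zero]
            obtain ⟨i, hi⟩ := h'.2
            rw [t_eq 0 V' h' hle i hi, map_zero, map_zero]
          map_add' := fun s s' => hu hU _ _ fun V' h' hle => by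
            obtain ⟨i, hi⟩ := h'.2
            rw [map_add (resO a.T.X _), hr hU _ V' h' hle, hr hU _ V' h' hle, hr hU _ V' h' hle,
              t_eq _ V' h' hle i hi, t_eq _ V' h' hle i hi, t_eq _ V' h' hle i hi, map_add, map_add] }
      res_app := fun {V V'} hV hV' hU h' s => hu (h'.trans hU) _ _ fun V'' h'' hle => by
        change resO a.T.X _ (r (h'.trans hU) _) = resO a.T.X _ (resO a.T.X _ (r hU s))
        obtain ⟨i, hi⟩ := h''.2
        rw [resO_resO, hr (h'.trans hU) _ V'' h'' hle, hr hU _ V'' h'' (hle.trans h'),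
          t_eq _ V'' h'' hle i hi, t_eq _ V'' h'' (hle.trans h') i hi, resO_resO]
      π_app := fun {V} hV hU s => by
        change a.T.π _ (r hU s) = _
        refine eqO_of_locally fun x hx => ?_
        obtain ⟨V', h', hx', hle⟩ := hP V hU x hx
        refine ⟨V', hle, hx', ?_⟩
        obtain ⟨i, hi⟩ := h'.2
        rw [a.T.resO_π (hU.trans hW₁) hle, b.T.resO_π (hU.trans hW₂) hle, hr hU _ V' h' hle,
          t_eq _ V' h' hle i hi]
        exact (f i).π_app h'.1 hi _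
      κ_app := fun {V} hV hU m => hu hU _ _ fun V' h' hle => by
        change resO a.T.X _ (r hU _) = _
        obtain ⟨i, hi⟩ := h'.2
        rw [hr hU _ V' h' hle, t_eq _ V' h' hle i hi, b.res_κ hV h'.1 (hU.trans hW₂) hle,
          a.res_κ hV h'.1 (hU.trans hW₁) hle]
        exact (f i).κ_app h'.1 hi _
      st_app := by
        intro V hV hU Z hZ c
        refine hu hU _ _ fun V' h' hle => ?_
        change resO a.T.X _ (r hU _) = _
        obtain ⟨i, hi⟩ := h'.2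
        rw [hr hU _ V' h' hle, t_eq _ V' h' hle i hi, res_ev, res_ev]
        exact (f i).st_app h'.1 hi (hle.trans hZ) c }
  refine ⟨g, fun i => TArr.ext' fun V hV hU s => ?_⟩
  rw [TArr.rs_app]
  change r (hU.trans (hVs i)) s = _
  have h1 := hr (hU.trans (hVs i)) s V ⟨hV, i, hU⟩ le_rfl
  rw [resO_self] at h1
  rw [h1, t_eq _ V ⟨hV, i, hU⟩ le_rfl i hU, resO_self]

/-- An abelian sheaf representing the derivations. -/
structure Band (p₀ : X₀ ⟶ S) (M : X₀.Modules) {X : TopCat.{u}} (e : X ≃ₜ X₀)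
    (G : CohTop.Ab X) where
  β : ∀ U : Opens X, G.obj.obj (op U) ≃+ SDer p₀ M (e.opensCongr U)
  nat : ∀ {U V : Opens X} (h : V ≤ U) (x : G.obj.obj (op U)),
    β V (K288.Sec.rs G h x) = SDer.rs (e.opensCongr.monotone h) (β U x)

section grb

variable {X : TopCat.{u}} {e : X ≃ₜ X₀} {G : CohTop.Ab X} (B : Band p₀ M e G)

theorem le_symm_iff (e : X ≃ₜ X₀) (U : Opens X) (W : X₀.Opens) :
    U ≤ e.opensCongr.symm W ↔ e.opensCongr U ≤ W := e.opensCongr.le_symm_apply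

theorem mem_symm_iff (e : X ≃ₜ X₀) (x : X) (W : X₀.Opens) :
    x ∈ e.opensCongr.symm W ↔ e x ∈ W := Iff.rfl

/-- The gerbe of a family of locally isomorphic thickenings. -/
noncomputable def grb {ι : Type u} (W : ι → X₀.Opens) (ob : ∀ i, ThOb p₀ M (W i))
    (hloc : ∀ (i j : ι) (x : X₀), x ∈ W i → x ∈ W j → ∃ U : X₀.Opens, x ∈ U ∧
      Nonempty (TArr (ob i) (ob j) U)) : Grb G where
  ι := ι
  W i := e.opensCongr.symm (W i)
  Arr i j U := TArr (ob i) (ob j) (e.opensCongr U)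
  le_l f := (le_symm_iff e _ _).2 f.le_l
  le_r f := (le_symm_iff e _ _).2 f.le_r
  res h f := f.rs (e.opensCongr.monotone h)
  res_self _ _ := rfl
  res_res _ _ _ := rfl
  one i {U} hU := TArr.one (ob i) ((le_symm_iff e _ _).1 hU)
  res_one _ _ _ _ _ := rfl
  comp f g := f.comp g
  comp_one f := TArr.ext' fun V hV hU s => rfl
  assoc _ _ _ := rfl
  res_comp _ _ _ := rfl
  inv f := ⟨f.symm⟩
  d {i j U} f g := (B.β U).symm (TArr.diff f g)
  d_add f g h := by rw [← map_add, TArr.diff_add]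
  res_d {i j U V} h f g := by
    apply (B.β V).injective
    rw [B.nat, AddEquiv.apply_symm_apply, AddEquiv.apply_symm_apply, TArr.rs_diff]
  d_comp f f' g g' := by rw [TArr.diff_comp, map_add]
  eq_of_d {i j U} f g h := by
    apply TArr.eq_of_diff
    exact (B.β U).symm.injective (h.trans (map_zero _).symm)
  act {i j U} f x := ⟨f.add (B.β U x), by rw [TArr.diff_add', AddEquiv.symm_apply_apply]⟩
  glue {i j U κ} V hV hc f hf := by
    refine TArr.exists_glue (fun a => e.opensCongr (V a)) (fun a => e.opensCongr.monotone (hV a)) ?_ f ?_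
    · rw [← OrderIso.map_iSup]
      exact e.opensCongr.monotone hc
    · intro a b
      have h1 : e.opensCongr (V a) ⊓ e.opensCongr (V b) ≤ e.opensCongr (V a ⊓ V b) :=
        (OrderIso.map_inf _ _ _).ge
      exact congrArg (TArr.rs h1) (hf a b)
  loc i j x hi hj := by
    obtain ⟨U, hxU, hU⟩ := hloc i j (e x) hi hj
    refine ⟨e.opensCongr.symm U, hxU, ?_⟩
    rw [e.opensCongr.apply_symm_apply]
    exact hU

end grb

end K679
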